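import Cfsg.Agent.Lib.SecondMain.Columns
import Cfsg.Agent.Lib.Blocks.Induced
import Cfsg.Agent.Lib.CharApp.Schur

/-!
# The support of the characters of a block, and central elements

`pPart_mem_defect_of_induced`, `apply_eq_zero_of_notMem_defect` (characters of a block vanish where
the `p`-part lies in no conjugate of a defect group) and `exists_central_scalar`.
-/

set_option autoImplicit false

open scoped ComplexConjugate

namespace Cfsg.Agent.SecondMain

open Cfsg Blocks

variable {G : Type*} [Group G] [Finite G] {p : ℕ} {M : Ideal AlgInt}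

/-- If a block of `C(y)` induces `B` then `y` lies in a defect group of `B`. -/
theorem pPart_mem_defect_of_induced (hM : IsPModular p M) {B : Set (IrrCharacter G)} {y : G}
    (hy : ∃ k, orderOf y = p ^ k) {H : Subgroup G} (hH : ∀ g, g ∈ H ↔ Commute y g)
    {b : Set (IrrCharacter H)} (hb : IsInducedBlock M H b B) :
    ∃ E, IsDefectGroup p M B E ∧ y ∈ E := by
  haveI : Fact p.Prime := ⟨hM.1⟩
  obtain ⟨k, hk⟩ := hy
  let y' : H := ⟨y, (hH y).mpr (Commute.refl y)⟩
  haveI : (Subgroup.zpowers y').Normal := ⟨fun u hu g => by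
    obtain ⟨i, rfl⟩ := Subgroup.mem_zpowers_iff.mp hu
    have h1 : Commute y' g := Subtype.ext ((hH g).mp g.2)
    have h2 : g * y' ^ i * g⁻¹ = y' ^ i := by rw [← (h1.zpow_left i).eq, mul_inv_cancel_right]
    rw [h2]
    exact Subgroup.zpow_mem_zpowers y' i⟩
  obtain ⟨D, hD⟩ := exists_isDefectGroup hM hb.1
  have hP : IsPGroup p (Subgroup.zpowers y') :=
    IsPGroup.of_card (n := k) (by rw [Nat.card_zpowers, ← Subgroup.orderOf_coe]; exact hk)
  have hle := normal_le_defectGroup hM hP hb.1 hD
  obtain ⟨E, hE, hDE⟩ := exists_defectGroup_ge_of_induced hM hb hD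
  exact ⟨E, hE, hDE ⟨y', hle (Subgroup.mem_zpowers y'), rfl⟩⟩

/-- Characters of a block vanish where the `p`-part lies in no defect group. -/
theorem apply_eq_zero_of_notMem_defect (hM : IsPModular p M) {B : Set (IrrCharacter G)}
    (hB : IsPBlock M B) {y t : G} (hy : ∃ k, orderOf y = p ^ k) (ht : ¬ p ∣ orderOf t)
    (hc : Commute y t) (hnot : ∀ E, IsDefectGroup p M B E → y ∉ E) {χ : IrrCharacter G}
    (hχ : χ ∈ B) : (χ : G → ℂ) (y * t) = 0 := by
  classical
  have := Fintype.ofFinite (IrrCharacter G)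
  let H := Subgroup.centralizer ({y} : Set G)
  have hH : ∀ g, g ∈ H ↔ Commute y g := fun _ => commute_iff_mem_centralizer_singleton
  let s : H := ⟨t, (hH t).mpr hc⟩
  have hs : ¬ p ∣ orderOf s := by rwa [← Subgroup.orderOf_coe]
  have h := colSum_eq_sum hM hB hy hH hs hs
  have hempty : inducedSet M H B = ∅ := Set.eq_empty_of_forall_notMem fun b hb => by
    obtain ⟨E, hE, hyE⟩ := pPart_mem_defect_of_induced hM hy hH hb
    exact hnot E hE hyE
  rw [hempty, finsum_mem_empty, colSum, finsum_mem_eq_toFinset_sum] at h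
  have h1 : ∑ φ ∈ B.toFinset, Complex.normSq ((φ : G → ℂ) (y * t)) = 0 := by
    have h2 : ((∑ φ ∈ B.toFinset, Complex.normSq ((φ : G → ℂ) (y * t)) : ℝ) : ℂ) = 0 := by
      push_cast
      rw [← h]
      exact Finset.sum_congr rfl fun φ _ => (Complex.mul_conj _).symm
    exact_mod_cast h2
  exact Complex.normSq_eq_zero.mp
    ((Finset.sum_eq_zero_iff_of_nonneg fun φ _ => Complex.normSq_nonneg _).mp h1 χ
      (Set.mem_toFinset.mpr hχ))

/-- Central elements act by a root of unity. -/
theorem exists_central_scalar {z : G} (hz : z ∈ Subgroup.center G) (χ : IrrCharacter G) :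
    ∃ c : ℂ, c ^ orderOf z = 1 ∧ ∀ g, (χ : G → ℂ) (z * g) = c * (χ : G → ℂ) g := by
  obtain ⟨n, ρ, hirr, hρ⟩ := χ.2
  obtain ⟨c, hc⟩ := CharApp.exists_scalar_of_mem_center ρ hz
  refine ⟨c, ?_, fun g => ?_⟩
  · have h : (c ^ orderOf z) • (1 : Module.End ℂ (Fin n → ℂ)) = (1 : ℂ) • 1 := by
      have h0 := congrArg ρ (pow_orderOf_eq_one z)
      rw [map_pow, hc, smul_pow, one_pow, map_one] at h0
      rw [one_smul]
      exact h0
    have hne : (1 : Module.End ℂ (Fin n → ℂ)) ≠ 0 := by
      intro h0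
      have := Char.nontrivial_of_isIrreducible ρ
      exact one_ne_zero h0
    exact smul_left_injective ℂ hne h
  · rw [← hρ]
    simp only [Representation.character, map_mul, hc, smul_mul_assoc, one_mul, map_smul, smul_eq_mul]

end Cfsg.Agent.SecondMain
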