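import Cfsg.Agent.Lib.GaloisAvg.Basic
import Cfsg.Agent.Lib.CentralChar.Congr

/-!
# Averages over the primitive `p ^ (n + 1)`-th roots of unity

`aeval_eq_of_root` (identities at one primitive root hold at all), `sum_pow` (Ramanujan sums),
`avg`, `one_le_avg_normSq`, `one_le_avg_re`, and `memI_aeval_sub_eval` (`P(ζ) ≡ P(1)`).
-/

set_option autoImplicit false

open scoped ComplexConjugate

namespace Cfsg.Agent.CycloTrace

open Polynomial Finset

variable {p : ℕ}

theorem aeval_eq_of_root {N : ℕ} [NeZero N] {z z' : ℂ} (hz : IsPrimitiveRoot z N)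
    (hz' : IsPrimitiveRoot z' N) {P Q : ℤ[X]} (h : aeval z P = aeval z Q) :
    aeval z' P = aeval z' Q := by
  rw [← sub_eq_zero, ← map_sub] at h ⊢
  have hdvd := minpoly.isIntegrallyClosed_dvd (hz.isIntegral (NeZero.pos N)) h
  rw [← cyclotomic_eq_minpoly hz (NeZero.pos N)] at hdvd
  refine aeval_eq_zero_of_dvd_aeval_eq_zero hdvd ?_
  rw [cyclotomic_eq_minpoly hz' (NeZero.pos N)]
  exact minpoly.aeval ℤ _

theorem aeval_ne_zero_of_root {N : ℕ} [NeZero N] {z z' : ℂ} (hz : IsPrimitiveRoot z N)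
    (hz' : IsPrimitiveRoot z' N) {P : ℤ[X]} (h : aeval z P ≠ 0) : aeval z' P ≠ 0 := by
  intro h'
  have := aeval_eq_of_root hz' hz (P := P) (Q := 0) (by rwa [map_zero])
  rw [map_zero] at this
  exact h this

theorem conj_eq_pow {N : ℕ} [NeZero N] {z : ℂ} (hz : IsPrimitiveRoot z N) :
    conj z = z ^ (N - 1) := by
  rw [← Complex.inv_eq_conj (hz.norm'_eq_one (NeZero.ne N))]
  refine (eq_inv_of_mul_eq_one_left ?_).symm
  rw [← pow_succ, Nat.sub_add_cancel (NeZero.one_le), hz.pow_eq_one]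

theorem conj_aeval {N : ℕ} [NeZero N] {z : ℂ} (hz : IsPrimitiveRoot z N) (P : ℤ[X]) :
    conj (aeval z P) = aeval z (P.comp (X ^ (N - 1))) := by
  rw [aeval_comp, map_pow, aeval_X, ← conj_eq_pow hz]
  exact (aeval_algHom_apply (Complex.conjAe.toAlgHom.restrictScalars ℤ) z P).symm

/-- The primitive roots of unity of order `p ^ (n + 1)`. -/
noncomputable def prim (p n : ℕ) : Finset ℂ := primitiveRoots (p ^ (n + 1)) ℂ

/-- The standard primitive root of unity of order `p ^ (n + 1)`. -/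
noncomputable def root (p n : ℕ) : ℂ := GaloisAvg.zeta (p ^ (n + 1))

variable [Fact p.Prime] {n : ℕ}

instance neZero_pow : NeZero (p ^ (n + 1)) := ⟨pow_ne_zero _ (Fact.out (p := p.Prime)).ne_zero⟩

theorem isPrimitiveRoot_root : IsPrimitiveRoot (root p n) (p ^ (n + 1)) :=
  GaloisAvg.zeta_isPrimitiveRoot (NeZero.ne _)

theorem mem_prim {z : ℂ} : z ∈ prim p n ↔ IsPrimitiveRoot z (p ^ (n + 1)) :=
  mem_primitiveRoots (NeZero.pos _)

theorem root_mem : root p n ∈ prim p n := mem_prim.mpr isPrimitiveRoot_root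

theorem aeval_eq {P Q : ℤ[X]} (h : aeval (root p n) P = aeval (root p n) Q) {z : ℂ}
    (hz : z ∈ prim p n) : aeval z P = aeval z Q :=
  aeval_eq_of_root isPrimitiveRoot_root (mem_prim.mp hz) h

theorem aeval_ne_zero {P : ℤ[X]} (h : aeval (root p n) P ≠ 0) {z : ℂ}
    (hz : z ∈ prim p n) : aeval z P ≠ 0 :=
  aeval_ne_zero_of_root isPrimitiveRoot_root (mem_prim.mp hz) h

theorem card_prim : (prim p n).card = p ^ n * (p - 1) := by
  rw [prim, isPrimitiveRoot_root.card_primitiveRoots, Nat.totient_prime_pow_succ Fact.out]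

theorem card_prim_pos : 0 < (prim p n).card := card_pos.mpr ⟨_, root_mem⟩

theorem geom_sum_of_pow_eq_one {w : ℂ} {K : ℕ} (h : w ^ K = 1) :
    ∑ i ∈ range K, w ^ i = if w = 1 then (K : ℂ) else 0 := by
  split_ifs with hw
  · simp [hw]
  · have := geom_sum_mul w K
    rw [h, sub_self] at this
    exact (mul_eq_zero.mp this).resolve_right (sub_ne_zero.mpr hw)

/-- Ramanujan sums. -/
theorem sum_pow (j : ℕ) : ∑ z ∈ prim p n, z ^ j =
    (if p ^ (n + 1) ∣ j then (p : ℂ) ^ (n + 1) else 0) -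
      (if p ^ n ∣ j then (p : ℂ) ^ n else 0) := by
  classical
  have hp : p.Prime := Fact.out
  set N := p ^ (n + 1) with hN
  set ζ := root p n
  have hζ : IsPrimitiveRoot ζ N := isPrimitiveRoot_root
  have hprim : prim p n = ((range N).filter fun i => ¬ p ∣ i).image (ζ ^ ·) := by
    ext z
    rw [mem_prim, show p ^ (n + 1) = N from rfl, hζ.isPrimitiveRoot_iff]
    simp only [mem_image, mem_filter, mem_range]
    refine exists_congr fun i => ?_
    rw [hN, Nat.coprime_pow_right_iff (Nat.succ_pos n), Nat.coprime_comm, hp.coprime_iff_not_dvd]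
    tauto
  have hinj : Set.InjOn (ζ ^ ·) (((range N).filter fun i => ¬ p ∣ i : Finset ℕ) : Set ℕ) :=
    fun a ha b hb h => hζ.pow_inj (mem_range.mp (mem_filter.mp ha).1)
      (mem_range.mp (mem_filter.mp hb).1) h
  have himg : (range N).filter (fun i => p ∣ i) = (range (p ^ n)).image (p * ·) := by
    ext i
    simp only [mem_filter, mem_range, mem_image, hN, pow_succ']
    constructor
    · rintro ⟨h, c, rfl⟩
      exact ⟨c, Nat.lt_of_mul_lt_mul_left h, rfl⟩
    · rintro ⟨c, hc, rfl⟩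
      exact ⟨Nat.mul_lt_mul_of_pos_left hc hp.pos, dvd_mul_right p c⟩
  have h1 := sum_filter_add_sum_filter_not (range N) (fun i => p ∣ i) fun i => (ζ ^ i) ^ j
  rw [himg, sum_image fun a _ b _ h => Nat.eq_of_mul_eq_mul_left hp.pos h] at h1
  rw [hprim, sum_image hinj, eq_sub_of_add_eq' h1]
  have hζp : IsPrimitiveRoot (ζ ^ p) (p ^ n) := hζ.pow (NeZero.pos _) (pow_succ' p n)
  rw [sum_congr rfl fun i _ => (pow_right_comm ζ i j),
    sum_congr rfl fun i _ => show (ζ ^ (p * i)) ^ j = ((ζ ^ p) ^ j) ^ i by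
      rw [pow_mul, pow_right_comm]]
  rw [geom_sum_of_pow_eq_one (by rw [← pow_mul, mul_comm, pow_mul, hζ.pow_eq_one, one_pow]),
    geom_sum_of_pow_eq_one (by rw [← pow_mul, mul_comm, pow_mul, hζp.pow_eq_one, one_pow])]
  simp only [hζ.pow_eq_one_iff_dvd, hζp.pow_eq_one_iff_dvd]
  simp [hN]

/-- The mean over the primitive roots. -/
noncomputable def avg (p n : ℕ) (f : ℂ → ℝ) : ℝ := (∑ z ∈ prim p n, f z) / (prim p n).card

theorem avg_congr {f g : ℂ → ℝ} (h : ∀ z ∈ prim p n, f z = g z) : avg p n f = avg p n g := by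
  simp only [avg]
  rw [sum_congr rfl h]

theorem avg_mono {f g : ℂ → ℝ} (h : ∀ z ∈ prim p n, f z ≤ g z) : avg p n f ≤ avg p n g :=
  div_le_div_of_nonneg_right (sum_le_sum h) (Nat.cast_nonneg _)

theorem avg_sum {ι : Type*} (s : Finset ι) (f : ι → ℂ → ℝ) :
    avg p n (fun z => ∑ i ∈ s, f i z) = ∑ i ∈ s, avg p n (f i) := by
  simp only [avg, ← sum_div]
  rw [sum_comm]

theorem avg_add (f g : ℂ → ℝ) : avg p n (fun z => f z + g z) = avg p n f + avg p n g := by
  simp only [avg, sum_add_distrib, add_div]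

theorem avg_sub (f g : ℂ → ℝ) : avg p n (fun z => f z - g z) = avg p n f - avg p n g := by
  simp only [avg, sum_sub_distrib, sub_div]

theorem avg_const_mul (c : ℝ) (f : ℂ → ℝ) : avg p n (fun z => c * f z) = c * avg p n f := by
  simp only [avg, ← mul_sum, mul_div_assoc]

theorem avg_const (c : ℝ) : avg p n (fun _ => c) = c := by
  rw [avg, sum_const, nsmul_eq_mul, mul_div_cancel_left₀]
  exact_mod_cast card_prim_pos.ne'

theorem avg_nonneg {f : ℂ → ℝ} (h : ∀ z ∈ prim p n, 0 ≤ f z) : 0 ≤ avg p n f :=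
  div_nonneg (sum_nonneg h) (Nat.cast_nonneg _)

theorem avg_pos {f : ℂ → ℝ} (h : ∀ z ∈ prim p n, 0 < f z) : 0 < avg p n f :=
  div_pos (sum_pos h ⟨_, root_mem⟩) (by exact_mod_cast card_prim_pos)

theorem sq_avg_le (f : ℂ → ℝ) : avg p n f ^ 2 ≤ avg p n (fun z => f z ^ 2) := by
  have h : 0 ≤ avg p n (fun z => (f z - avg p n f) ^ 2) := avg_nonneg fun z _ => sq_nonneg _
  rw [avg_congr (g := fun z => f z ^ 2 - (2 * avg p n f) * f z + avg p n f ^ 2) (fun z _ => by ring),
    avg_add, avg_sub, avg_const_mul, avg_const] at h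
  nlinarith

theorem one_le_avg_normSq {P : ℤ[X]} (h : aeval (root p n) P ≠ 0) :
    1 ≤ avg p n fun z => Complex.normSq (aeval z P) := by
  rw [avg, le_div_iff₀ (by exact_mod_cast card_prim_pos), one_mul]
  simp only [Complex.normSq_eq_norm_sq]
  exact GaloisAvg.card_le_sum_norm_pow_roots P (fun z hz => aeval_ne_zero h hz) 2

theorem one_le_avg_re {P : ℤ[X]} (h : ∀ z ∈ prim p n, 0 < (aeval z P).re ∧ (aeval z P).im = 0) :
    1 ≤ avg p n fun z => (aeval z P).re := by
  rw [avg, le_div_iff₀ (by exact_mod_cast card_prim_pos), one_mul]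
  refine (GaloisAvg.card_le_sum_norm_pow_roots P (fun z hz h0 => ?_) 1).trans
    (sum_le_sum fun z hz => ?_)
  · have := (h z hz).1
    rw [h0, Complex.zero_re] at this
    exact lt_irrefl _ this
  · have e : aeval z P = ((aeval z P).re : ℂ) := Complex.ext rfl (by simp [(h z hz).2])
    rw [pow_one, e, Complex.norm_real, Real.norm_of_nonneg (h z hz).1.le, Complex.ofReal_re]

open Cfsg Blocks in
theorem memI_root_pow_sub_one {M : Ideal AlgInt} (hM : IsPModular p M) (e : ℕ) :
    MemLocalIdeal M (root p n ^ e - 1) :=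
  CentralChar.memI_sub_one_of_pow_eq_one hM (k := n + 1) (by
    rw [← pow_mul, mul_comm, pow_mul, isPrimitiveRoot_root.pow_eq_one, one_pow])

open Cfsg Blocks in
theorem memR_aeval {M : Ideal AlgInt} (hM : IsPModular p M) (P : ℤ[X]) :
    MemLocalRing M (aeval (root p n) P) :=
  memR_of_isIntegral hM (adjoin_le_integralClosure (isPrimitiveRoot_root.isIntegral (NeZero.pos _))
    (aeval_mem_adjoin_singleton ℤ _))

open Cfsg Blocks in
theorem memI_aeval_sub_eval {M : Ideal AlgInt} (hM : IsPModular p M) (P : ℤ[X]) :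
    MemLocalIdeal M (aeval (root p n) P - ((P.eval 1 : ℤ) : ℂ)) := by
  obtain ⟨Q, hQ⟩ := X_sub_C_dvd_sub_C_eval (a := (1 : ℤ)) (p := P)
  have h := congrArg (aeval (root p n)) hQ
  simp only [map_sub, map_mul, aeval_X, aeval_C, map_one, algebraMap_int_eq, Int.coe_castRingHom, map_intCast, eq_intCast] at h
  rw [h]
  refine memI_mul_right hM ?_ (memR_aeval hM Q)
  simpa using memI_root_pow_sub_one hM (n := n) 1

end Cfsg.Agent.CycloTrace
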