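import Mathlib
import Cfsg.Agent.EqLemmas

/-!
# Integer vectors with the Gram matrix of a dihedral principal block

`exists_dihedral_shape`: the generalised decomposition numbers at the rotations, expanded in
characters of the cyclic group, are determined up to signs by their scalar products.
-/

set_option autoImplicit false

namespace Cfsg.Agent.SecondMain

open Finset

variable {ι : Type*} [Fintype ι]

theorem abs_le_one_of_sum_sq {w : ι → ℤ} {n : ℤ} (hn : n ≤ 3) (h : ∑ i, w i * w i = n) (i : ι) :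
    w i = -1 ∨ w i = 0 ∨ w i = 1 := by
  have h1 : w i * w i ≤ 3 :=
    (single_le_sum (f := fun i => w i * w i) (fun j _ => mul_self_nonneg _) (mem_univ i)).trans (h.le.trans hn)
  have h2 : -2 < w i ∧ w i < 2 := ⟨by nlinarith, by nlinarith⟩
  omega

theorem card_support_of_sum_sq {w : ι → ℤ} {n : ℕ} (hn : n ≤ 3) (h : ∑ i, w i * w i = n) :
    (univ.filter fun i => w i ≠ 0).card = n := by
  have h1 : ∀ i, w i * w i = if w i ≠ 0 then 1 else 0 := fun i => by
    rcases abs_le_one_of_sum_sq (n := n) (by exact_mod_cast hn) h i with e | e | e <;> rw [e] <;> norm_num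
  rw [sum_congr rfl fun i _ => h1 i, ← sum_filter, sum_const, nsmul_one] at h
  exact_mod_cast h

theorem sum_mul_eq_of_support {w : ι → ℤ} (u : ι → ℤ) {S : Finset ι} (hS : ∀ i, i ∉ S → w i = 0) :
    ∑ i, w i * u i = ∑ i ∈ S, w i * u i :=
  (sum_subset (subset_univ S) fun i _ hi => by rw [hS i hi, zero_mul]).symm

/-- The shape of the vectors. -/
theorem exists_dihedral_shape [DecidableEq ι] (h : ℕ) (hev : Even h) (h2 : 2 ≤ h) (v : ℕ → ι → ℤ) (o : ι)
    (d : ι → ℤ) (hd : ∀ i, 0 < d i) (hd1 : d o = 1)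
    (hone : ∀ j, j ≤ h → j ≠ 1 → v j o = if j = 0 then 1 else 0)
    (hgram : ∀ j k, j ≤ h → j ≠ 1 → k ≤ h → k ≠ 1 →
      ∑ i, v j i * v k i = 1 + if j = k then (if j = 0 ∨ j = h then 2 else 1) else 0)
    (hdeg : ∀ j, j ≤ h → j ≠ 1 → ∑ i, v j i * d i = 0) :
    ∃ (ε β γ : ℤ) (A B C E : ι) (F : ℕ → ι),
      (ε = 1 ∨ ε = -1) ∧ (β = 1 ∨ β = -1) ∧ (γ = 1 ∨ γ = -1) ∧
      o ≠ A ∧ o ≠ B ∧ o ≠ C ∧ o ≠ E ∧ A ≠ B ∧ A ≠ C ∧ A ≠ E ∧ B ≠ C ∧ B ≠ E ∧ C ≠ E ∧
      (∀ j, 2 ≤ j → j < h → F j ≠ o ∧ F j ≠ A ∧ F j ≠ B ∧ F j ≠ C ∧ F j ≠ E) ∧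
      (∀ j k, 2 ≤ j → j < h → 2 ≤ k → k < h → F j = F k → j = k) ∧
      (∀ i, v 0 i = if i = o then 1 else if i = A then ε else if i = E then -ε else 0) ∧
      (∀ i, v h i = if i = B then β else if i = C then γ else if i = E then -ε else 0) ∧
      ∀ j, 2 ≤ j → j < h → ∀ i, v j i = if i = E then -ε else if i = F j then ε else 0 := by
  classical
  have g00 : ∑ i, v 0 i * v 0 i = ((3 : ℕ) : ℤ) := by
    rw [hgram 0 0 (by omega) (by omega) (by omega) (by omega), if_pos rfl, if_pos (Or.inl rfl)]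
    norm_num
  have ghh : ∑ i, v h i * v h i = ((3 : ℕ) : ℤ) := by
    rw [hgram h h le_rfl (by omega) le_rfl (by omega), if_pos rfl, if_pos (Or.inr rfl)]
    norm_num
  have g0h : ∑ i, v 0 i * v h i = 1 := by
    rw [hgram 0 h (by omega) (by omega) le_rfl (by omega), if_neg (by omega), add_zero]
  have gjj : ∀ j, 2 ≤ j → j < h → ∑ i, v j i * v j i = ((2 : ℕ) : ℤ) := fun j h1 h3 => by
    rw [hgram j j h3.le (by omega) h3.le (by omega), if_pos rfl, if_neg (by omega)]
    norm_num
  have e0 := abs_le_one_of_sum_sq (n := 3) le_rfl (by simpa using g00)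
  have eh := abs_le_one_of_sum_sq (n := 3) le_rfl (by simpa using ghh)
  have ej : ∀ j, 2 ≤ j → j < h → ∀ i, v j i = -1 ∨ v j i = 0 ∨ v j i = 1 := fun j h1 h3 =>
    abs_le_one_of_sum_sq (n := 2) (by norm_num) (by simpa using gjj j h1 h3)
  have ho0 : v 0 o = 1 := by rw [hone 0 (by omega) (by omega), if_pos rfl]
  have hoh : v h o = 0 := by rw [hone h le_rfl (by omega), if_neg (by omega)]
  -- the first vector
  have hs0 := card_support_of_sum_sq le_rfl g00
  set S0 := univ.filter fun i => v 0 i ≠ 0 with hS0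
  have hoS : o ∈ S0 := mem_filter.mpr ⟨mem_univ _, by rw [ho0]; norm_num⟩
  obtain ⟨X, Y, hXY, hS0'⟩ := card_eq_two.mp (show (S0.erase o).card = 2 by
    rw [card_erase_of_mem hoS, hs0])
  have hv0 : ∀ i, i ≠ o → i ≠ X → i ≠ Y → v 0 i = 0 := by
    intro i h1 h3 h4
    by_contra hne
    have : i ∈ S0.erase o := mem_erase.mpr ⟨h1, mem_filter.mpr ⟨mem_univ _, hne⟩⟩
    simp [hS0', h3, h4] at this
  have hX : o ≠ X ∧ v 0 X ≠ 0 := by
    have : X ∈ S0.erase o := by simp [hS0']
    exact ⟨(ne_of_mem_erase this).symm, (mem_filter.mp (mem_of_mem_erase this)).2⟩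
  have hY : o ≠ Y ∧ v 0 Y ≠ 0 := by
    have : Y ∈ S0.erase o := by simp [hS0']
    exact ⟨(ne_of_mem_erase this).symm, (mem_filter.mp (mem_of_mem_erase this)).2⟩
  obtain ⟨A, E, hoA, hoE, hAE, hA0, hE0, hv0', hAh, hEh⟩ :
      ∃ A E, o ≠ A ∧ o ≠ E ∧ A ≠ E ∧ v 0 A ≠ 0 ∧ v 0 E ≠ 0 ∧
        (∀ i, i ≠ o → i ≠ A → i ≠ E → v 0 i = 0) ∧ v h A = 0 ∧ v h E = v 0 E := by
    have h1 : v 0 X * v h X + v 0 Y * v h Y = 1 := by
      rw [← g0h, sum_mul_eq_of_support (v h) (S := {o, X, Y}) fun i hi => by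
        simp only [mem_insert, mem_singleton, not_or] at hi
        exact hv0 i hi.1 hi.2.1 hi.2.2]
      rw [sum_insert (by simp [hX.1, hY.1]), sum_pair hXY, hoh, mul_zero, zero_add]
    rcases eh X with hx | hx | hx
    · refine ⟨Y, X, hY.1, hX.1, hXY.symm, hY.2, hX.2, fun i a b c => hv0 i a c b, ?_, ?_⟩ <;>
        rcases e0 X with a | a | a <;> rcases e0 Y with b | b | b <;> rcases eh Y with c | c | c <;>
        rw [a, b, c, hx] at h1 <;> omega
    · refine ⟨X, Y, hX.1, hY.1, hXY, hX.2, hY.2, hv0, hx, ?_⟩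
      rcases e0 Y with b | b | b <;> rcases eh Y with c | c | c <;> rw [b, c, hx] at h1 <;> omega
    · refine ⟨Y, X, hY.1, hX.1, hXY.symm, hY.2, hX.2, fun i a b c => hv0 i a c b, ?_, ?_⟩ <;>
        rcases e0 X with a | a | a <;> rcases e0 Y with b | b | b <;> rcases eh Y with c | c | c <;>
        rw [a, b, c, hx] at h1 <;> omega
  -- the last vector
  have hsh := card_support_of_sum_sq le_rfl ghh
  set Sh := univ.filter fun i => v h i ≠ 0 with hSh
  have hES : E ∈ Sh := mem_filter.mpr ⟨mem_univ _, by rw [hEh]; exact hE0⟩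
  obtain ⟨B, C, hBC, hSh'⟩ := card_eq_two.mp (show (Sh.erase E).card = 2 by
    rw [card_erase_of_mem hES, hsh])
  have hvh : ∀ i, i ≠ E → i ≠ B → i ≠ C → v h i = 0 := by
    intro i h1 h3 h4
    by_contra hne
    have : i ∈ Sh.erase E := mem_erase.mpr ⟨h1, mem_filter.mpr ⟨mem_univ _, hne⟩⟩
    simp [hSh', h3, h4] at this
  have hB : B ≠ E ∧ v h B ≠ 0 := by
    have : B ∈ Sh.erase E := by simp [hSh']
    exact ⟨ne_of_mem_erase this, (mem_filter.mp (mem_of_mem_erase this)).2⟩
  have hC : C ≠ E ∧ v h C ≠ 0 := by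
    have : C ∈ Sh.erase E := by simp [hSh']
    exact ⟨ne_of_mem_erase this, (mem_filter.mp (mem_of_mem_erase this)).2⟩
  have hoB : o ≠ B := fun e => hB.2 (e ▸ hoh)
  have hoC : o ≠ C := fun e => hC.2 (e ▸ hoh)
  have hAB : A ≠ B := fun e => hB.2 (e ▸ hAh)
  have hAC : A ≠ C := fun e => hC.2 (e ▸ hAh)
  set α := v 0 A with hα
  set e := v 0 E with he
  set β := v h B with hβ
  set γ := v h C with hγ
  have hdot0 : ∀ u : ι → ℤ, ∑ i, v 0 i * u i = u o + α * u A + e * u E := fun u => by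
    rw [sum_mul_eq_of_support u (S := {o, A, E}) fun i hi => by
      simp only [mem_insert, mem_singleton, not_or] at hi
      exact hv0' i hi.1 hi.2.1 hi.2.2]
    rw [sum_insert (by simp [hoA, hoE]), sum_pair hAE, ho0, one_mul]
    ring
  have hdoth : ∀ u : ι → ℤ, ∑ i, v h i * u i = β * u B + γ * u C + e * u E := fun u => by
    rw [sum_mul_eq_of_support u (S := {B, C, E}) fun i hi => by
      simp only [mem_insert, mem_singleton, not_or] at hi
      exact hvh i hi.2.2 hi.1 hi.2.1]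
    rw [sum_insert (by simp [hBC, hB.1]), sum_pair hC.1, hEh]
    ring
  have hα1 : α = 1 ∨ α = -1 := by rcases e0 A with a | a | a <;> omega
  have he1 : e = 1 ∨ e = -1 := by rcases e0 E with a | a | a <;> omega
  have hβ1 : β = 1 ∨ β = -1 := by rcases eh B with a | a | a <;> omega
  have hγ1 : γ = 1 ∨ γ = -1 := by rcases eh C with a | a | a <;> omega
  -- the middle vectors
  have hmid : ∀ j, 2 ≤ j → j < h →
      (v j E = e ∧ v j A = 0 ∧ ∃ F, F ≠ o ∧ F ≠ A ∧ F ≠ B ∧ F ≠ C ∧ F ≠ E ∧ v j F ≠ 0 ∧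
        ∀ i, i ≠ E → i ≠ F → v j i = 0) ∨
      (v j E = 0 ∧ v j A = α ∧ ((v j B = β ∧ ∀ i, i ≠ A → i ≠ B → v j i = 0) ∨
        (v j C = γ ∧ ∀ i, i ≠ A → i ≠ C → v j i = 0))) := by
    intro j hj hjh
    have hoj : v j o = 0 := by rw [hone j hjh.le (by omega), if_neg (by omega)]
    have h1 : α * v j A + e * v j E = 1 := by
      have := hdot0 (v j)
      rw [hgram 0 j (by omega) (by omega) hjh.le (by omega), if_neg (by omega), hoj] at this
      linarith
    have h3 : β * v j B + γ * v j C + e * v j E = 1 := by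
      have := hdoth (v j)
      rw [hgram h j le_rfl (by omega) hjh.le (by omega), if_neg (by omega)] at this
      linarith
    have hs := card_support_of_sum_sq (by norm_num) (gjj j hj hjh)
    set S := univ.filter fun i => v j i ≠ 0 with hS
    by_cases hEj : v j E = 0
    · right
      rw [hEj, mul_zero, add_zero] at h1 h3
      have hA : v j A = α := by rcases hα1 with a | a <;> rw [a] at h1 ⊢ <;> linarith
      have hAS : A ∈ S := mem_filter.mpr ⟨mem_univ _, by rw [hA]; exact hA0⟩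
      obtain ⟨F, hF⟩ := card_eq_one.mp (show (S.erase A).card = 1 by rw [card_erase_of_mem hAS, hs])
      have hrest : ∀ i, i ≠ A → i ≠ F → v j i = 0 := by
        intro i a b
        by_contra hne
        have : i ∈ S.erase A := mem_erase.mpr ⟨a, mem_filter.mpr ⟨mem_univ _, hne⟩⟩
        simp [hF, b] at this
      refine ⟨hEj, hA, ?_⟩
      by_cases hFB : F = B
      · subst hFB
        left
        rw [hrest C (Ne.symm hAC) (Ne.symm hBC), mul_zero, add_zero] at h3
        exact ⟨by rcases hβ1 with a | a <;> rw [a] at h3 ⊢ <;> linarith, hrest⟩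
      · right
        rw [hrest B (Ne.symm hAB) (Ne.symm hFB), mul_zero, zero_add] at h3
        by_cases hFC : F = C
        · subst hFC
          exact ⟨by rcases hγ1 with a | a <;> rw [a] at h3 ⊢ <;> linarith, hrest⟩
        · rw [hrest C (Ne.symm hAC) (Ne.symm hFC), mul_zero] at h3
          exact absurd h3 (by norm_num)
    · left
      have hee : v j E = e ∧ v j A = 0 := by
        rcases ej j hj hjh E with a | a | a <;> rcases ej j hj hjh A with b | b | b <;>
          rcases he1 with c | c <;> rcases hα1 with d | d <;> rw [a, b, c, d] at h1 <;> omega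
      have hESj : E ∈ S := mem_filter.mpr ⟨mem_univ _, hEj⟩
      obtain ⟨F, hF⟩ := card_eq_one.mp (show (S.erase E).card = 1 by rw [card_erase_of_mem hESj, hs])
      have hrest : ∀ i, i ≠ E → i ≠ F → v j i = 0 := by
        intro i a b
        by_contra hne
        have : i ∈ S.erase E := mem_erase.mpr ⟨a, mem_filter.mpr ⟨mem_univ _, hne⟩⟩
        simp [hF, b] at this
      have hFmem : F ∈ S.erase E := by simp [hF]
      have hF0 : v j F ≠ 0 := (mem_filter.mp (mem_of_mem_erase hFmem)).2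
      rw [hee.1] at h3
      have hee2 : e * e = 1 := by rcases he1 with a | a <;> rw [a] <;> norm_num
      refine ⟨hee.1, hee.2, F, fun x => hF0 (x ▸ hoj), fun x => hF0 (x ▸ hee.2), ?_, ?_,
        ne_of_mem_erase hFmem, hF0, hrest⟩
      · rintro rfl
        rw [hrest C hC.1 (Ne.symm hBC), mul_zero, add_zero, hee2] at h3
        rcases hβ1 with a | a <;> rw [a] at h3 <;> exact hF0 (by linarith)
      · rintro rfl
        rw [hrest B hB.1 hBC, mul_zero, zero_add, hee2] at h3
        rcases hγ1 with a | a <;> rw [a] at h3 <;> exact hF0 (by linarith)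
  -- the degrees
  have d0 : 1 + α * d A + e * d E = 0 := by
    have := hdot0 d
    rw [hdeg 0 (by omega) (by omega), hd1] at this
    linarith
  have dh : β * d B + γ * d C + e * d E = 0 := by
    have := hdoth d
    rw [hdeg h le_rfl (by omega)] at this
    linarith
  have hstd : ∀ j, 2 ≤ j → j < h → v j E = e ∧ v j A = 0 ∧ ∃ F, F ≠ o ∧ F ≠ A ∧ F ≠ B ∧ F ≠ C ∧ F ≠ E ∧
      v j F ≠ 0 ∧ ∀ i, i ≠ E → i ≠ F → v j i = 0 := by
    intro k hk hkh
    refine (hmid k hk hkh).resolve_right fun halt => ?_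
    have hall : ∀ j, 2 ≤ j → j < h → v j E = 0 ∧ v j A = α ∧ ((v j B = β ∧ ∀ i, i ≠ A → i ≠ B → v j i = 0) ∨
        (v j C = γ ∧ ∀ i, i ≠ A → i ≠ C → v j i = 0)) := by
      intro j hj hjh
      refine (hmid j hj hjh).resolve_left ?_
      rintro ⟨a, b, F, -, -, hFB, hFC, -, -, hrest⟩
      have hne : j ≠ k := fun x => by
        rw [x] at a
        rw [halt.1] at a
        exact hE0 a.symm
      have hg := hgram k j hkh.le (by omega) hjh.le (by omega)
      rw [if_neg (Ne.symm hne)] at hg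
      rcases halt.2.2 with ⟨hb, hr⟩ | ⟨hb, hr⟩
      · rw [sum_mul_eq_of_support (v j) (S := {A, B}) fun i hi => by
          simp only [mem_insert, mem_singleton, not_or] at hi
          exact hr i hi.1 hi.2, sum_pair hAB, b, hrest B hB.1 (Ne.symm hFB)] at hg
        simp at hg
      · rw [sum_mul_eq_of_support (v j) (S := {A, C}) fun i hi => by
          simp only [mem_insert, mem_singleton, not_or] at hi
          exact hr i hi.1 hi.2, sum_pair hAC, b, hrest C hC.1 (Ne.symm hFC)] at hg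
        simp at hg
    obtain ⟨r, hr⟩ := hev
    have h4 : 4 ≤ h := by omega
    obtain ⟨-, ha2, hc2⟩ := hall 2 le_rfl (by omega)
    obtain ⟨-, ha3, hc3⟩ := hall 3 (by norm_num) (by omega)
    have hg := hgram 2 3 (by omega) (by omega) (by omega) (by omega)
    rw [if_neg (by norm_num), add_zero] at hg
    have hdd : ∀ j, 2 ≤ j → j < h → ∑ i, v j i * d i = 0 := fun j _ b => hdeg j b.le (by omega)
    have d2 := hdd 2 le_rfl (by omega)
    have d3 := hdd 3 (by norm_num) (by omega)
    rcases hc2 with ⟨b2, r2⟩ | ⟨b2, r2⟩ <;> rcases hc3 with ⟨b3, r3⟩ | ⟨b3, r3⟩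
    · rw [sum_mul_eq_of_support (v 3) (S := {A, B}) fun i hi => by
        simp only [mem_insert, mem_singleton, not_or] at hi
        exact r2 i hi.1 hi.2, sum_pair hAB, ha2, ha3, b2, b3] at hg
      rcases hα1 with a | a <;> rcases hβ1 with b | b <;> rw [a, b] at hg <;> norm_num at hg
    · rw [sum_mul_eq_of_support d (S := {A, B}) fun i hi => by
        simp only [mem_insert, mem_singleton, not_or] at hi
        exact r2 i hi.1 hi.2, sum_pair hAB, ha2, b2] at d2
      rw [sum_mul_eq_of_support d (S := {A, C}) fun i hi => by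
        simp only [mem_insert, mem_singleton, not_or] at hi
        exact r3 i hi.1 hi.2, sum_pair hAC, ha3, b3] at d3
      omega
    · rw [sum_mul_eq_of_support d (S := {A, C}) fun i hi => by
        simp only [mem_insert, mem_singleton, not_or] at hi
        exact r2 i hi.1 hi.2, sum_pair hAC, ha2, b2] at d2
      rw [sum_mul_eq_of_support d (S := {A, B}) fun i hi => by
        simp only [mem_insert, mem_singleton, not_or] at hi
        exact r3 i hi.1 hi.2, sum_pair hAB, ha3, b3] at d3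
      omega
    · rw [sum_mul_eq_of_support (v 3) (S := {A, C}) fun i hi => by
        simp only [mem_insert, mem_singleton, not_or] at hi
        exact r2 i hi.1 hi.2, sum_pair hAC, ha2, ha3, b2, b3] at hg
      rcases hα1 with a | a <;> rcases hγ1 with b | b <;> rw [a, b] at hg <;> norm_num at hg
  -- the sign at `A`
  have hsign : e = -α := by
    have := hd A
    have := hd E
    rcases hα1 with a | a <;> rcases he1 with b | b <;> rw [a, b] at d0 ⊢ <;> omega
  choose F hF using fun j (hj : 2 ≤ j ∧ j < h) => (hstd j hj.1 hj.2).2.2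
  let F' : ℕ → ι := fun j => if hj : 2 ≤ j ∧ j < h then F j hj else o
  have hF' : ∀ j, 2 ≤ j → j < h → F' j ≠ o ∧ F' j ≠ A ∧ F' j ≠ B ∧ F' j ≠ C ∧ F' j ≠ E ∧ v j (F' j) = α ∧
      v j E = e ∧ ∀ i, i ≠ E → i ≠ F' j → v j i = 0 := by
    intro j a b
    simp only [F', dif_pos (And.intro a b)]
    obtain ⟨x1, x2, x3, x4, x5, x6, x7⟩ := hF j ⟨a, b⟩
    refine ⟨x1, x2, x3, x4, x5, ?_, (hstd j a b).1, x7⟩
    have hdj := hdeg j b.le (by omega)
    rw [sum_mul_eq_of_support d (S := {E, F j ⟨a, b⟩}) fun i hi => by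
      simp only [mem_insert, mem_singleton, not_or] at hi
      exact x7 i hi.1 hi.2, sum_pair (Ne.symm x5), (hstd j a b).1, hsign] at hdj
    have := hd E
    have := hd (F j ⟨a, b⟩)
    rcases ej j a b (F j ⟨a, b⟩) with y | y | y <;> rcases hα1 with z | z <;> rw [y, z] at hdj ⊢ <;>
      first | rfl | (exact absurd y x6) | (exfalso; omega)
  refine ⟨α, β, γ, A, B, C, E, F', hα1, hβ1, hγ1, hoA, hoB, hoC, hoE, hAB, hAC, hAE, hBC, hB.1, hC.1,
    fun j a b => ⟨(hF' j a b).1, (hF' j a b).2.1, (hF' j a b).2.2.1, (hF' j a b).2.2.2.1, (hF' j a b).2.2.2.2.1⟩,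
    ?_, ?_, ?_, ?_⟩
  · intro j k a b c f hjk
    by_contra hne
    obtain ⟨-, -, -, -, x5, x6, x7, x8⟩ := hF' j a b
    obtain ⟨-, -, -, -, -, y6, y7, -⟩ := hF' k c f
    have hg := hgram j k b.le (by omega) f.le (by omega)
    rw [if_neg hne, sum_mul_eq_of_support (v k) (S := {E, F' j}) fun i hi => by
      simp only [mem_insert, mem_singleton, not_or] at hi
      exact x8 i hi.1 hi.2, sum_pair (Ne.symm x5), x7, y7, x6, hjk, y6] at hg
    rcases hα1 with z | z <;> rcases he1 with w | w <;> rw [z, w] at hg <;> norm_num at hg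
  · intro i
    split_ifs with a b c
    · rw [a, ho0]
    · rw [b]
    · rw [c, ← he, hsign]
    · exact hv0' i a b c
  · intro i
    split_ifs with a b c
    · rw [a]
    · rw [b]
    · rw [c, hEh, hsign]
    · exact hvh i c a b
  · intro j a b i
    split_ifs with x y
    · rw [x, (hF' j a b).2.2.2.2.2.2.1, hsign]
    · rw [y, (hF' j a b).2.2.2.2.2.1]
    · exact (hF' j a b).2.2.2.2.2.2.2 i x y

end Cfsg.Agent.SecondMain
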