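import Cfsg.Agent.Lib.SecondMain.Rank
import Cfsg.Agent.Lib.Blocks.Defect

/-!
# Heights and the scalar products on the `p'`-elements

With `d = blockDefect p B`: `exists_degree_eq` (degrees through heights), `exists_height_zero`,
`scaled_eq` (`p ^ d * regInner χ ψ = p ^ h(χ) * w` with `w` in the local ring) and
`scaled_not_memI`/`regInner_ne_zero` (for `ψ` of height zero, `w` is a unit).
-/

set_option autoImplicit false

open scoped ComplexConjugate

namespace Cfsg.Agent.SecondMain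

open Cfsg Blocks

variable {G : Type*} [Group G] [Finite G] {p : ℕ} {M : Ideal AlgInt}

theorem factorization_charDegree_le (p : ℕ) (χ : IrrCharacter G) :
    (charDegree (χ : G → ℂ)).factorization p ≤ (Nat.card G).factorization p :=
  (Nat.factorization_le_iff_dvd (charDegree_pos χ).ne' Nat.card_pos.ne').mpr (charDegree_dvd_card χ) p

theorem degree_factorization {B : Set (IrrCharacter G)} {χ : IrrCharacter G} (hχ : χ ∈ B) :
    (charDegree (χ : G → ℂ)).factorization p + blockDefect p B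
      = (Nat.card G).factorization p + blockHeight p B (χ : G → ℂ) := by
  have h1 : sInf ((fun ψ : IrrCharacter G => (charDegree (ψ : G → ℂ)).factorization p) '' B)
      ≤ (charDegree (χ : G → ℂ)).factorization p := Nat.sInf_le ⟨χ, hχ, rfl⟩
  have h2 := factorization_charDegree_le p χ
  simp only [blockDefect, blockHeight]
  omega

/-- Degrees through heights. -/
theorem exists_degree_eq (hp : p.Prime) {B : Set (IrrCharacter G)} {χ : IrrCharacter G} (hχ : χ ∈ B) :
    ∃ m n : ℕ, ¬ p ∣ m ∧ ¬ p ∣ n ∧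
      (p : ℂ) ^ blockDefect p B * (χ : G → ℂ) 1 / (Nat.card G : ℂ)
        = (p : ℂ) ^ blockHeight p B (χ : G → ℂ) * (m : ℂ) * (n : ℂ)⁻¹ := by
  have h := degree_factorization (p := p) hχ
  set a := (Nat.card G).factorization p
  set v := (charDegree (χ : G → ℂ)).factorization p
  obtain ⟨m, hm⟩ := Nat.ordProj_dvd (charDegree (χ : G → ℂ)) p
  obtain ⟨n, hn⟩ := Nat.ordProj_dvd (Nat.card G) p
  refine ⟨m, n, fun hd => ?_, fun hd => ?_, ?_⟩
  · obtain ⟨c, rfl⟩ := hd
    refine Nat.pow_succ_factorization_not_dvd (charDegree_pos χ).ne' hp ⟨c, ?_⟩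
    conv_lhs => rw [hm]
    rw [pow_succ, mul_assoc]
  · obtain ⟨c, rfl⟩ := hd
    refine Nat.pow_succ_factorization_not_dvd (Nat.card_pos (α := G)).ne' hp ⟨c, ?_⟩
    conv_lhs => rw [hn]
    rw [pow_succ, mul_assoc]
  · rw [← charDegree_cast, hm, hn]
    push_cast
    have hp0 : (p : ℂ) ≠ 0 := Nat.cast_ne_zero.mpr hp.ne_zero
    have hn0 : (n : ℂ) ≠ 0 := by
      refine Nat.cast_ne_zero.mpr fun h0 => (Nat.card_pos (α := G)).ne' ?_
      rw [hn, h0, mul_zero]
    rw [← mul_assoc, ← pow_add, show blockDefect p B + v = a + blockHeight p B (χ : G → ℂ) by omega,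
      pow_add]
    field_simp
    simp only [a, mul_comm]

theorem exists_height_zero (hM : IsPModular p M) {B : Set (IrrCharacter G)} (hB : IsPBlock M B) :
    ∃ ψ ∈ B, blockHeight p B (ψ : G → ℂ) = 0 := by
  obtain ⟨ψ, hψ, hmin⟩ := Nat.sInf_mem ((isPBlock_nonempty hM hB).image
    (fun ψ : IrrCharacter G => (charDegree (ψ : G → ℂ)).factorization p))
  refine ⟨ψ, hψ, ?_⟩
  simp only at hmin
  rw [blockHeight, hmin, Nat.sub_self]

/-- The class function whose central character gives the scalar product on `p'`-elements. -/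
noncomputable def regConj (p : ℕ) (ψ : G → ℂ) : G → ℂ := pRegularPart p fun g => conj (ψ g)

omit [Finite G] in
theorem isClassFunction_regConj {ψ : G → ℂ} (hψ : IsClassFunction G ψ) :
    IsClassFunction G (regConj p ψ) :=
  BrauerPairs.isClassFunction_pRegularPart fun g h => by simp only [hψ g h]

theorem memR_regConj (hM : IsPModular p M) (ψ : IrrCharacter G) (g : G) :
    MemLocalRing M (regConj p (ψ : G → ℂ) g) := by
  by_cases h : p ∣ orderOf g
  · rw [regConj, pRegularPart_of_singular h]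
    exact memR_zero hM
  · rw [regConj, pRegularPart_of_regular h,
      ← Char.IsCharacter.apply_inv (Char.IsIrrCharacter.isCharacter ψ.2)]
    exact memR_of_isIntegral hM (isIntegral_irr ψ _)

theorem omega_regConj [Fintype G] (χ : IrrCharacter G) (ψ : G → ℂ) :
    omega (χ : G → ℂ) (regConj p ψ)
      = (Nat.card G : ℂ) / (χ : G → ℂ) 1 * regInner p (χ : G → ℂ) ψ := by
  classical
  rw [omega_eq_sum, regInner_eq_sum, ← mul_assoc, div_mul_eq_mul_div,
    mul_inv_cancel₀ card_ne_zero_C, Finset.sum_filter, one_div, ← div_eq_inv_mul]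
  congr 1
  refine Finset.sum_congr rfl fun g _ => ?_
  by_cases h : p ∣ orderOf g
  · rw [regConj, pRegularPart_of_singular h, if_neg (not_not_intro h), zero_mul]
  · rw [regConj, pRegularPart_of_regular h, if_pos h, mul_comm]

theorem scaled_eq [Fintype G] (hM : IsPModular p M) {B : Set (IrrCharacter G)}
    {χ : IrrCharacter G} (hχ : χ ∈ B) (ψ : IrrCharacter G) :
    ∃ u : ℂ, MemLocalRing M u ∧ ¬ MemLocalIdeal M u ∧
      (p : ℂ) ^ blockDefect p B * regInner p (χ : G → ℂ) (ψ : G → ℂ)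
        = (p : ℂ) ^ blockHeight p B (χ : G → ℂ) *
          (u * omega (χ : G → ℂ) (regConj p (ψ : G → ℂ))) := by
  obtain ⟨m, n, hm, hn, h⟩ := exists_degree_eq hM.1 hχ
  have hun : MemLocalRing M ((m : ℂ) * (n : ℂ)⁻¹) :=
    memR_mul hM (memR_natCast hM m) (memR_natCast_inv hM hn)
  refine ⟨(m : ℂ) * (n : ℂ)⁻¹, hun, ?_, ?_⟩
  · intro hI
    have hn0 : (n : ℂ) ≠ 0 := Nat.cast_ne_zero.mpr fun h0 => hn (h0 ▸ dvd_zero p)
    have h1 := memI_mul_right hM hI (memR_natCast hM n)
    rw [mul_assoc, inv_mul_cancel₀ hn0, mul_one] at h1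
    exact hm ((memI_natCast hM).mp h1)
  · rw [omega_regConj, ← mul_assoc, ← mul_assoc, ← mul_assoc, ← h]
    have := irr_one_ne_zero χ
    have := card_ne_zero_C (G := G)
    field_simp

theorem memR_scaled [Fintype G] (hM : IsPModular p M) {B : Set (IrrCharacter G)}
    {χ : IrrCharacter G} (hχ : χ ∈ B) (ψ : IrrCharacter G) :
    MemLocalRing M ((p : ℂ) ^ blockDefect p B * regInner p (χ : G → ℂ) (ψ : G → ℂ)) := by
  obtain ⟨u, hu, -, h⟩ := scaled_eq hM hχ ψ
  rw [h]
  exact memR_mul hM (memR_pow hM (memR_natCast hM p) _) (memR_mul hM hu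
    (memR_omega hM (isClassFunction_regConj (irr_class ψ)) (memR_regConj hM ψ) χ))

theorem memI_scaled_of_height [Fintype G] (hM : IsPModular p M) {B : Set (IrrCharacter G)}
    {χ : IrrCharacter G} (hχ : χ ∈ B) (h0 : blockHeight p B (χ : G → ℂ) ≠ 0) (ψ : IrrCharacter G) :
    MemLocalIdeal M ((p : ℂ) ^ blockDefect p B * regInner p (χ : G → ℂ) (ψ : G → ℂ)) := by
  obtain ⟨u, hu, -, h⟩ := scaled_eq hM hχ ψ
  obtain ⟨j, hj⟩ := Nat.exists_eq_succ_of_ne_zero h0
  rw [h, hj, pow_succ]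
  exact memI_mul_right hM (memI_mul_left hM (memR_pow hM (memR_natCast hM p) _) (memI_p hM))
    (memR_mul hM hu (memR_omega hM (isClassFunction_regConj (irr_class ψ)) (memR_regConj hM ψ) χ))

/-- At a character of height zero the reduced scalar products are units. -/
theorem omega_regConj_not_memI [Fintype G] (hM : IsPModular p M) {B : Set (IrrCharacter G)}
    (hB : IsPBlock M B) {χ ψ : IrrCharacter G} (hχ : χ ∈ B) (hψ : ψ ∈ B)
    (h0 : blockHeight p B (ψ : G → ℂ) = 0) :
    ¬ MemLocalIdeal M (omega (χ : G → ℂ) (regConj p (ψ : G → ℂ))) := by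
  classical
  have := Fintype.ofFinite (IrrCharacter G)
  haveI : Fact p.Prime := ⟨hM.1⟩
  intro hI
  have hz : omegaFun (regConj p (ψ : G → ℂ)) ∈ intRing hM :=
    omega_mem_intRing hM (isClassFunction_regConj (irr_class ψ)) (memR_regConj hM ψ)
  have hall : ∀ φ ∈ B, MemLocalIdeal M (omega (φ : G → ℂ) (regConj p (ψ : G → ℂ))) := fun φ hφ =>
    (memI_iff_of_sub hM (intRing_congr hM hz (sameBlock_of_mem hM hB hφ hχ))).mpr hI
  obtain ⟨P⟩ : Nonempty (Sylow p G) := inferInstance
  have := Fintype.ofFinite (P : Subgroup G)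
  have hreg : ∀ u : (P : Subgroup G), pRegularPart p (ψ : G → ℂ) (u : G)
      = if u = 1 then (ψ : G → ℂ) 1 else 0 := by
    intro u
    by_cases hu : u = 1
    · rw [if_pos hu, hu, Subgroup.coe_one, pRegularPart_of_regular
        (by simpa using hM.1.one_lt.ne')]
    · rw [if_neg hu, pRegularPart_of_singular]
      obtain ⟨k, hk⟩ := IsPGroup.iff_orderOf.mp P.2 u
      rw [Subgroup.orderOf_coe, hk]
      refine dvd_pow_self p fun h => hu ?_
      rw [h, pow_zero] at hk
      exact orderOf_eq_one_iff.mp hk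
  have hsum : (ψ : G → ℂ) 1 = ∑ φ ∈ B.toFinset, regInner p (ψ : G → ℂ) (φ : G → ℂ) *
      ∑ u : (P : Subgroup G), (φ : G → ℂ) (u : G) := by
    calc (ψ : G → ℂ) 1 = ∑ u : (P : Subgroup G), pRegularPart p (ψ : G → ℂ) (u : G) := by
          simp only [hreg, Finset.sum_ite_eq', Finset.mem_univ, if_true]
      _ = _ := by
          conv_lhs => rw [BrauerPairs.pRegularPart_eq_sum hM hB hψ]
          simp only [Finset.sum_apply, Pi.smul_apply, smul_eq_mul, Finset.mul_sum]
          rw [Finset.sum_comm]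
          rfl
  have hconj : (ψ : G → ℂ) 1 = ∑ φ ∈ B.toFinset, regInner p (φ : G → ℂ) (ψ : G → ℂ) *
      ∑ u : (P : Subgroup G), conj ((φ : G → ℂ) (u : G)) := by
    have h := congrArg conj hsum
    rw [Char.IsCharacter.conj_apply_one (Char.IsIrrCharacter.isCharacter ψ.2)] at h
    simpa only [map_sum, map_mul, conj_regInner] using h
  obtain ⟨m, n, hm, hn, hd⟩ := exists_degree_eq (G := G) hM.1 hψ
  rw [h0, pow_zero, one_mul] at hd
  have hcard : (Nat.card G : ℂ) = (Nat.card (P : Subgroup G) : ℂ) * ((P : Subgroup G).index : ℂ) := by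
    rw [← Nat.cast_mul, Subgroup.card_mul_index]
  have hidx : ¬ p ∣ (P : Subgroup G).index := P.not_dvd_index
  have key : MemLocalIdeal M ((p : ℂ) ^ blockDefect p B * (ψ : G → ℂ) 1
      / (Nat.card (P : Subgroup G) : ℂ)) := by
    rw [hconj, Finset.mul_sum, Finset.sum_div]
    refine memI_sum hM _ fun φ hφ => ?_
    obtain ⟨u, hu, -, hw⟩ := scaled_eq hM (Set.mem_toFinset.mp hφ) ψ
    rw [← mul_assoc, hw, mul_div_assoc, div_eq_inv_mul]
    refine memI_mul_right hM (memI_mul_left hM (memR_pow hM (memR_natCast hM p) _)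
      (memI_mul_left hM hu (hall φ (Set.mem_toFinset.mp hφ)))) (memR_of_isIntegral hM ?_)
    simpa using isIntegral_avg (Char.IsCharacter.conj (Char.IsIrrCharacter.isCharacter φ.2))
      (P : Subgroup G) (g := 1) (Subgroup.one_mem _)
  have h2 : MemLocalIdeal M ((m : ℂ) * (n : ℂ)⁻¹ * ((P : Subgroup G).index : ℂ)) := by
    rw [← hd, hcard]
    have hi0 : ((P : Subgroup G).index : ℂ) ≠ 0 :=
      Nat.cast_ne_zero.mpr fun h => hidx (h ▸ dvd_zero p)
    have hP0 : (Nat.card (P : Subgroup G) : ℂ) ≠ 0 := Nat.cast_ne_zero.mpr Nat.card_pos.ne'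
    convert key using 1
    field_simp
  have h3 := memI_mul_right hM h2 (memR_natCast hM n)
  have hn0 : (n : ℂ) ≠ 0 := Nat.cast_ne_zero.mpr fun h => hn (h ▸ dvd_zero p)
  have h4 : MemLocalIdeal M (((m * (P : Subgroup G).index : ℕ)) : ℂ) := by
    convert h3 using 1
    push_cast
    field_simp
  exact (hM.1.dvd_mul.mp ((memI_natCast hM).mp h4)).elim hm hidx

theorem regInner_ne_zero [Fintype G] (hM : IsPModular p M) {B : Set (IrrCharacter G)}
    (hB : IsPBlock M B) {χ ψ : IrrCharacter G} (hχ : χ ∈ B) (hψ : ψ ∈ B)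
    (h0 : blockHeight p B (ψ : G → ℂ) = 0) : regInner p (χ : G → ℂ) (ψ : G → ℂ) ≠ 0 := by
  intro h
  have h1 := omega_regConj (p := p) χ (ψ : G → ℂ)
  rw [h, mul_zero] at h1
  exact omega_regConj_not_memI hM hB hχ hψ h0 (h1.symm ▸ memI_zero hM)

theorem scaled_not_memI [Fintype G] (hM : IsPModular p M) {B : Set (IrrCharacter G)}
    (hB : IsPBlock M B) {χ ψ : IrrCharacter G} (hχ : χ ∈ B) (hψ : ψ ∈ B)
    (hχ0 : blockHeight p B (χ : G → ℂ) = 0) (hψ0 : blockHeight p B (ψ : G → ℂ) = 0) :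
    ¬ MemLocalIdeal M ((p : ℂ) ^ blockDefect p B * regInner p (χ : G → ℂ) (ψ : G → ℂ)) := by
  obtain ⟨u, hu, hu', h⟩ := scaled_eq hM hχ ψ
  rw [h, hχ0, pow_zero, one_mul]
  exact not_memI_mul hM hu
    (memR_omega hM (isClassFunction_regConj (irr_class ψ)) (memR_regConj hM ψ) χ) hu'
    (omega_regConj_not_memI hM hB hχ hψ hψ0)

end Cfsg.Agent.SecondMain
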