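import Cfsg.Agent.Lib.SecondMain.Principal
import Cfsg.Agent.Lib.SecondMain.Heights
import Cfsg.Agent.Lib.Transfer.Tate
import Cfsg.Agent.Lib.Transfer.Focal

/-!
# The principal 2-block of a group with Sylow four-group and one class of involutions

`blockRank_principal_klein`: the principal block has exactly three irreducible Brauer characters.
-/

set_option autoImplicit false

open scoped ComplexConjugate

namespace Cfsg.Agent.SecondMain

open Cfsg Blocks

variable {G : Type*} [Group G] [Finite G] {p : ℕ}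

/-- Values at involutions are rational integers. -/
theorem exists_int_involution {t : G} (ht : orderOf t = 2) (χ : IrrCharacter G) :
    ∃ a : ℤ, (χ : G → ℂ) t = (a : ℂ) := by
  classical
  obtain ⟨n, ρ, hirr, hρ⟩ := χ.2
  obtain ⟨b, μ, hμ, hμ1⟩ := Char.exists_eigenbasis ρ t
  refine ⟨∑ i, if μ i = 1 then 1 else -1, ?_⟩
  rw [← hρ, Char.character_eq_sum_eigenvalues ρ t b μ hμ, Int.cast_sum]
  refine Finset.sum_congr rfl fun i _ => ?_
  have h := hμ1 i
  rw [ht, sq, mul_self_eq_one_iff] at h
  rcases h with h | h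
  · rw [if_pos h, h, Int.cast_one]
  · rw [if_neg (by rw [h]; norm_num), h, Int.cast_neg, Int.cast_one]

open scoped Classical in
theorem sum_centralizer_one [Fintype G] (f : G → ℂ) :
    ∑ s : Subgroup.centralizer ({(1 : G)} : Set G), f (s : G) = ∑ g, f g :=
  Fintype.sum_bijective (fun s : Subgroup.centralizer ({(1 : G)} : Set G) => (s : G))
    ⟨Subtype.val_injective, fun g => ⟨⟨g, commute_iff_mem_centralizer_singleton.mpr (Commute.one_left g)⟩, rfl⟩⟩
    _ _ fun _ => rfl

variable {M : Ideal AlgInt}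

open scoped Classical in
theorem blockRank_principal_klein (hM : IsPModular 2 M) (P : Sylow 2 G)
    (hP : Nat.card P = 4) (hexp : ∀ x : P, x * x = 1)
    (hone : ∀ s t : G, orderOf s = 2 → orderOf t = 2 → IsConj s t) :
    blockRank 2 (principalBlock M G) = 3 := by
  haveI : Fact (Nat.Prime 2) := ⟨Nat.prime_two⟩
  have := Fintype.ofFinite G
  have := Fintype.ofFinite (IrrCharacter G)
  obtain ⟨t₀, ht₀⟩ := exists_prime_orderOf_dvd_card' (G := P) 2 (by rw [hP]; norm_num)
  set t : G := (t₀ : G)
  have ht : orderOf t = 2 := by rw [Subgroup.orderOf_coe, ht₀]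
  have htk : ∃ k, orderOf t = 2 ^ k := ⟨1, by rw [ht, pow_one]⟩
  set H := Subgroup.centralizer ({t} : Set G) with hHdef
  have hH : ∀ g, g ∈ H ↔ Commute t g := fun _ => commute_iff_mem_centralizer_singleton
  have hinv : ∀ x : P, x⁻¹ = x := fun x => inv_eq_of_mul_eq_one_right (hexp x)
  have hcommP : ∀ a b : P, a * b = b * a := fun a b => by
    calc a * b = (a * b)⁻¹ := (hinv _).symm
      _ = b * a := by rw [mul_inv_rev, hinv, hinv]
  have hPH : (P : Subgroup G) ≤ H := fun g hg =>
    (hH g).mpr (congrArg Subtype.val (hcommP t₀ ⟨g, hg⟩))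
  let Q : Sylow 2 H := P.subtype hPH
  have hQ : ∀ q : H, q ∈ (Q : Subgroup H) ↔ (q : G) ∈ (P : Subgroup G) := fun q => Iff.rfl
  haveI : IsMulCommutative (Q : Subgroup H) := ⟨⟨fun a b => Subtype.ext (Subtype.ext
    (show ((a : H) : G) * ((b : H) : G) = ((b : H) : G) * ((a : H) : G) from
      congrArg Subtype.val (hcommP ⟨((a : H) : G), (hQ a).mp a.2⟩ ⟨((b : H) : G), (hQ b).mp b.2⟩)))⟩⟩
  have hcompl : HasNormalPComplement 2 H := by
    refine Transfer.hasNormalPComplement_of_normalizer_le_centralizer Q fun n hn => ?_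
    obtain ⟨y, hy, hyc, hact⟩ := Transfer.exists_coprime_conj_eq Q hn
    have hyN : y ∈ Subgroup.normalizer ((Q : Subgroup H) : Set H) := (Subgroup.zpowers_le.mpr hn) hy
    refine Subgroup.mem_centralizer_iff.mpr fun q hq => ?_
    have hty : Commute t (y : G) := (hH y).mp y.2
    have hfix : y * q * y⁻¹ = q := by
      by_cases hq1 : (q : G) = 1
      · have : q = 1 := Subtype.ext hq1
        rw [this, mul_one, mul_inv_cancel]
      by_cases hqt : (q : G) = t
      · refine Subtype.ext ?_
        rw [Subgroup.coe_mul, Subgroup.coe_mul, Subgroup.coe_inv, hqt, ← hty.eq, mul_inv_cancel_right]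
      -- `P = {1, t, q, t q}`
      let q' : P := ⟨q, (hQ q).mp hq⟩
      have hlist : ∀ z : P, z = 1 ∨ z = t₀ ∨ z = q' ∨ z = t₀ * q' := by
        intro z
        by_contra hz
        push Not at hz
        obtain ⟨z1, z2, z3, z4⟩ := hz
        have n1 : t₀ ≠ 1 := fun h => by rw [h, orderOf_one] at ht₀; omega
        have n2 : q' ≠ 1 := fun h => hq1 (congrArg Subtype.val h)
        have n3 : q' ≠ t₀ := fun h => hqt (congrArg Subtype.val h)
        have n4 : t₀ * q' ≠ 1 := fun h => n3 (by rw [← inv_eq_of_mul_eq_one_right h, hinv])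
        have n5 : t₀ * q' ≠ t₀ := fun h => n2 (mul_eq_left.mp h)
        have n6 : t₀ * q' ≠ q' := fun h => n1 (mul_eq_right.mp h)
        have := Fintype.ofFinite P
        have h5 : ({1, t₀, q', t₀ * q', z} : Finset P).card = 5 := by
          simp [Ne.symm n1, Ne.symm n2, Ne.symm n3, Ne.symm n4, Ne.symm n5, Ne.symm n6,
            Ne.symm z1, Ne.symm z2, Ne.symm z3, Ne.symm z4]
        have := Finset.card_le_univ ({1, t₀, q', t₀ * q', z} : Finset P)
        rw [h5, ← Nat.card_eq_fintype_card, hP] at this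
        omega
      have hyq : y * q * y⁻¹ ∈ (Q : Subgroup H) := (Subgroup.mem_normalizer_iff.mp hyN q).mp hq
      have h2 : Commute (y ^ 2) q := by
        have hsq : (y : G) * ((y : G) * q * (y : G)⁻¹) * (y : G)⁻¹ = (q : G) := by
          rcases hlist ⟨_, (hQ _).mp hyq⟩ with h | h | h | h
          · exfalso
            have h' : (y : G) * q * (y : G)⁻¹ = 1 := congrArg Subtype.val h
            exact hq1 (conj_eq_one_iff.mp h')
          · exfalso
            have h' : (y : G) * q * (y : G)⁻¹ = t := congrArg Subtype.val h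
            refine hqt (mul_left_cancel (a := (y : G)) ?_)
            rw [← hty.eq]
            exact mul_inv_eq_iff_eq_mul.mp h'
          · have h' : (y : G) * q * (y : G)⁻¹ = q := congrArg Subtype.val h
            rw [h', h']
          · have h' : (y : G) * q * (y : G)⁻¹ = t * q := congrArg Subtype.val h
            have htt : t * t = 1 := by rw [← sq, ← ht, pow_orderOf_eq_one]
            calc (y : G) * ((y : G) * q * (y : G)⁻¹) * (y : G)⁻¹
                = (y : G) * (t * q) * (y : G)⁻¹ := by rw [h']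
              _ = (y : G) * t * q * (y : G)⁻¹ := by group
              _ = t * ((y : G) * q * (y : G)⁻¹) := by rw [← hty.eq]; group
              _ = q := by rw [h', ← mul_assoc, htt, one_mul]
        refine Subtype.ext (mul_inv_eq_iff_eq_mul.mp ?_)
        show ((y ^ 2 : H) : G) * (q : G) * ((y ^ 2 : H) : G)⁻¹ = (q : G)
        rw [Subgroup.coe_pow, pow_two, mul_inv_rev]
        simpa only [mul_assoc] using hsq
      have hodd : Nat.Coprime (orderOf y) 2 := hyc
      obtain ⟨m, hm⟩ := exists_pow_eq_self_of_coprime (n := 2) hodd.symm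
      have h3 : Commute y q := hm ▸ h2.pow_left m
      rw [h3.eq, mul_inv_cancel_right]
    rw [hact q hq] at hfix
    exact (mul_inv_eq_iff_eq_mul.mp hfix).symm
  -- sizes
  have := Fintype.ofFinite H
  let R := Finset.univ.filter fun s : H => ¬ 2 ∣ orderOf s
  have hRcard : R.card * 4 = Nat.card H := by
    have h1 : R.card = Nat.card (pResidual 2 H) := by
      rw [Nat.card_eq_fintype_card, Fintype.card_subtype]
      congr 1
      refine Finset.filter_congr fun s _ => ?_
      rw [Transfer.mem_pResidual_iff hcompl, Nat.coprime_comm, Nat.prime_two.coprime_iff_not_dvd]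
    have h2 := ((Transfer.isComplement'_pResidual_iff Q).mpr
      (Transfer.hasNormalPComplement_iff_coprime.mp hcompl)).card_mul
    rw [h1, ← h2]
    congr 1
    rw [← hP]
    exact (Nat.card_congr (Subgroup.subgroupOfEquivOfLe hPH).toEquiv).symm
  -- the squares at `t`
  have hB0 : IsPBlock M (principalBlock M G) := BrauerPairs.isPBlock_principal
  set B := principalBlock M G
  choose a ha using fun χ : IrrCharacter G => exists_int_involution ht χ
  have hsq : ∑ χ ∈ B.toFinset, a χ * a χ = 4 := by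
    have h := sum_sq_principal_of_complement hM htk hH hcompl
    rw [finsum_mem_eq_toFinset_sum, Finset.sum_congr rfl fun χ _ => by rw [ha χ, map_intCast],
      ← hRcard] at h
    push_cast at h
    have hR0 : (R.card : ℂ) ≠ 0 := Nat.cast_ne_zero.mpr (Finset.card_ne_zero.mpr
      ⟨1, Finset.mem_filter.mpr ⟨Finset.mem_univ _, by simp⟩⟩)
    have h2 : ((∑ χ ∈ B.toFinset, a χ * a χ : ℤ) : ℂ) = ((4 : ℤ) : ℂ) := by
      push_cast
      exact mul_left_cancel₀ hR0 h
    exact Int.cast_inj.mp h2
  -- two sections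
  have hreps : ∀ g : G, (∃ k : ℕ, orderOf g = 2 ^ k) → ∃! x, x ∈ ({1, t} : Finset G) ∧ IsConj g x := by
    intro g hg
    have ht1 : ¬ IsConj t (1 : G) := fun h => by rw [isConj_one_left] at h; rw [h, orderOf_one] at ht; omega
    by_cases h1 : g = 1
    · subst h1
      refine ⟨1, ⟨Finset.mem_insert_self _ _, IsConj.refl 1⟩, fun x hx => ?_⟩
      simp only [Finset.mem_insert, Finset.mem_singleton] at hx
      exact hx.1.elim id fun e => absurd (e ▸ hx.2.symm) ht1
    · have hg2 : orderOf g = 2 := by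
        refine orderOf_eq_prime ?_ h1
        obtain ⟨k, hk⟩ := hg
        obtain ⟨S, hS⟩ := (IsPGroup.of_card (n := k) (p := 2) (G := Subgroup.zpowers g)
          (by rw [Nat.card_zpowers, hk])).exists_le_sylow
        obtain ⟨c, rfl⟩ := MulAction.exists_smul_eq G P S
        have hmem : c⁻¹ * g * c ∈ (P : Subgroup G) := by
          have := hS (Subgroup.mem_zpowers g)
          rw [Sylow.coe_subgroup_smul, Subgroup.mem_pointwise_smul_iff_inv_smul_mem, ← map_inv,
            MulAut.smul_def, MulAut.conj_apply, inv_inv] at this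
          exact this
        have h : c⁻¹ * g * c * (c⁻¹ * g * c) = 1 := congrArg Subtype.val (hexp ⟨_, hmem⟩)
        have h2 : g ^ 2 = c * (c⁻¹ * g * c * (c⁻¹ * g * c)) * c⁻¹ := by rw [sq]; group
        rw [h2, h]
        group
      refine ⟨t, ⟨Finset.mem_insert_of_mem (Finset.mem_singleton_self _), hone g t hg2 ht⟩, fun x hx => ?_⟩
      simp only [Finset.mem_insert, Finset.mem_singleton] at hx
      refine hx.1.elim (fun e => ?_) id
      have h := hx.2
      rw [e, isConj_one_left] at h
      exact absurd h h1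
  have hX : ∀ x ∈ ({1, t} : Finset G), ∃ k, orderOf x = 2 ^ k := by
    intro x hx
    rw [Finset.mem_insert, Finset.mem_singleton] at hx
    rcases hx with rfl | rfl
    · exact ⟨0, by rw [orderOf_one, pow_zero]⟩
    · exact htk
  have ht1 : (1 : G) ≠ t := fun h => by rw [← h, orderOf_one] at ht; omega
  have hsplit : ∀ χ ∈ B, ∀ φ ∈ B, classInner (χ : G → ℂ) (φ : G → ℂ)
      = regInner 2 (χ : G → ℂ) (φ : G → ℂ) + (a χ : ℂ) * (a φ : ℂ) / 4 := by
    intro χ hχ φ hφ
    have hf : IsClassFunction G fun g => (χ : G → ℂ) g * conj ((φ : G → ℂ) g) := fun g h => by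
      simp only [irr_class χ g h, irr_class φ g h]
    rw [classInner, sum_eq_sum_sections hf ({1, t} : Finset G) hX hreps, Finset.sum_pair ht1,
      regInner_eq_sum, Finset.sum_filter, mul_add]
    congr 1
    · congr 1
      have hc : (Nat.card (Subgroup.centralizer ({(1 : G)} : Set G)) : ℂ) = (Nat.card G : ℂ) := by
        rw [show Subgroup.centralizer ({(1 : G)} : Set G) = ⊤ from eq_top_iff.mpr fun g _ =>
          commute_iff_mem_centralizer_singleton.mpr (Commute.one_left g), Subgroup.card_top]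
      rw [hc, mul_inv_cancel₀ card_ne_zero_C, one_mul]
      refine Eq.trans ?_ (sum_centralizer_one _)
      exact Finset.sum_congr rfl fun s _ => by rw [one_mul, Subgroup.orderOf_coe]
    · rw [← Finset.sum_filter, Finset.sum_congr rfl fun s hs => by
        rw [apply_shift_principal hM htk hH hcompl hχ (Finset.mem_filter.mp hs).2,
          apply_shift_principal hM htk hH hcompl hφ (Finset.mem_filter.mp hs).2, ha χ, ha φ,
          map_intCast], Finset.sum_const, nsmul_eq_mul]
      have key : ∀ (T : Finset H) (c : ℂ), (∀ s, s ∈ T ↔ ¬ 2 ∣ orderOf s) →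
          (Nat.card G : ℂ)⁻¹ * ((Nat.card G : ℂ) * (Nat.card H : ℂ)⁻¹ * ((T.card : ℂ) * c)) = c / 4 := by
        intro T c hT
        have hTR : T = R := Finset.ext fun s => by simp [R, hT]
        have h4 : (Nat.card H : ℂ) = (T.card : ℂ) * 4 := by
          rw [hTR]
          exact_mod_cast hRcard.symm
        have hT0 : (T.card : ℂ) ≠ 0 := Nat.cast_ne_zero.mpr (Finset.card_ne_zero.mpr
          ⟨1, (hT 1).mpr (by simp)⟩)
        have hG0 := card_ne_zero_C (G := G)
        rw [h4]
        field_simp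
      exact key _ _ fun s => by simp
  have h1B : BrauerPairs.oneIrr G ∈ B := BrauerPairs.oneIrr_mem_principal hM
  have ha1 : a (BrauerPairs.oneIrr G) = 1 := by
    have h := ha (BrauerPairs.oneIrr G)
    have h' : ((BrauerPairs.oneIrr G : IrrCharacter G) : G → ℂ) t = ((1 : ℤ) : ℂ) := by simp [BrauerPairs.oneIrr]
    exact Int.cast_inj.mp (h.symm.trans h')
  obtain ⟨ψ, hψ, hψ0⟩ := exists_height_zero hM hB0 (p := 2)
  have ha0 : ∀ χ ∈ B, a χ ≠ 0 := by
    intro χ hχ h
    have hz : ∀ φ ∈ B, φ ≠ χ → regInner 2 (χ : G → ℂ) (φ : G → ℂ) = 0 := by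
      intro φ hφ hne
      have h1 := hsplit χ hχ φ hφ
      rw [Char.classInner_irr_of_ne χ.2 φ.2 fun e => hne (Subtype.ext e.symm), h] at h1
      simpa using h1.symm
    by_cases hψχ : ψ = χ
    · subst hψχ
      have hne : BrauerPairs.oneIrr G ≠ ψ := fun e => by rw [e, h] at ha1; omega
      refine regInner_ne_zero hM hB0 h1B hψ hψ0 ?_
      rw [← conj_regInner, hz _ h1B hne, map_zero]
    · exact regInner_ne_zero hM hB0 hχ hψ hψ0 (hz ψ hψ hψχ)
  have hbig : ∀ χ ∈ B.toFinset, 1 ≤ a χ * a χ := fun χ hχ => by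
    have := mul_self_pos.mpr (ha0 χ (Set.mem_toFinset.mp hχ))
    omega
  -- each square is one
  have hall : ∀ χ ∈ B.toFinset, a χ * a χ = 1 := by
    intro χ hχ
    by_contra hne
    have h2 : a χ * a χ ≤ 4 :=
      hsq ▸ Finset.single_le_sum (f := fun χ => a χ * a χ) (fun φ _ => mul_self_nonneg _) hχ
    have h3 : -2 ≤ a χ ∧ a χ ≤ 2 := ⟨by nlinarith, by nlinarith⟩
    have h4 : a χ * a χ = 4 := by
      have h0 := ha0 χ (Set.mem_toFinset.mp hχ)
      have h5 : a χ = -2 ∨ a χ = -1 ∨ a χ = 1 ∨ a χ = 2 := by omega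
      rcases h5 with h | h | h | h <;> simp [h] at hne ⊢
    have hne' : BrauerPairs.oneIrr G ≠ χ := fun e => hne (by rw [← e, ha1, mul_one])
    have h5 := Finset.add_sum_erase _ (fun χ => a χ * a χ) hχ
    rw [hsq, h4] at h5
    have h6 : 1 ≤ ∑ φ ∈ B.toFinset.erase χ, a φ * a φ := by
      refine le_trans (le_of_eq ?_) (Finset.single_le_sum (f := fun φ => a φ * a φ)
        (fun φ _ => mul_self_nonneg _) (Finset.mem_erase.mpr ⟨hne', Set.mem_toFinset.mpr h1B⟩))
      rw [ha1, mul_one]
    omega
  have hcard : B.toFinset.card = 4 := by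
    have h := hsq
    rw [Finset.sum_congr rfl hall, Finset.sum_const, nsmul_eq_mul, mul_one] at h
    exact_mod_cast h
  have hl : (blockRank 2 B : ℂ) = ((3 : ℕ) : ℂ) := by
    rw [BrauerPairs.card_mul_blockRank hM hB0, finsum_mem_eq_toFinset_sum]
    have hterm : ∀ χ ∈ B.toFinset, classInner (pRegularPart 2 (χ : G → ℂ)) (χ : G → ℂ) = 3 / 4 := by
      intro χ hχ
      have h := hsplit χ (Set.mem_toFinset.mp hχ) χ (Set.mem_toFinset.mp hχ)
      rw [Char.classInner_irr_self χ.2, ← Int.cast_mul, hall χ hχ, Int.cast_one] at h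
      show regInner 2 (χ : G → ℂ) (χ : G → ℂ) = _
      linear_combination -h
    rw [Finset.sum_congr rfl hterm, Finset.sum_const, hcard]
    norm_num
  exact Nat.cast_inj.mp hl

end Cfsg.Agent.SecondMain
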