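import Cfsg.Agent.Lib.SecondMain.DihedralSylow
import Cfsg.Agent.Lib.SecondMain.DihedralVectors
import Cfsg.Agent.Lib.SecondMain.KleinFour
import Cfsg.Agent.Lib.SecondMain.CycloTrace

/-!
# The principal 2-block for a dihedral Sylow 2-subgroup

`colSum_rot`, the rotation coefficients `exists_rot_coeff` with their scalar products, and
`eq_zero_of_vanish_rot`.
-/

set_option autoImplicit false

open scoped ComplexConjugate

namespace Cfsg.Agent.SecondMain

open Cfsg Blocks Finset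

variable {G : Type*} [Group G] [Finite G]

theorem apply_inv_conj (χ : IrrCharacter G) (g : G) : (χ : G → ℂ) g⁻¹ = conj ((χ : G → ℂ) g) :=
  Char.IsCharacter.apply_inv (Char.IsIrrCharacter.isCharacter χ.2) g

theorem apply_eq_of_isConj (χ : IrrCharacter G) {g g' : G} (h : IsConj g g') :
    (χ : G → ℂ) g = (χ : G → ℂ) g' := by
  obtain ⟨c, rfl⟩ := isConj_iff.mp h
  rw [← irr_class χ g c]

/-- The multiplicity of an eigenvalue, as a sum over a cyclic group. -/
theorem exists_int_coeff {m : ℕ} (hm : m ≠ 0) {g : G} (hg : orderOf g = m) {ζ : ℂ}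
    (hζ : ζ ^ m = 1) (χ : IrrCharacter G) (j : ℕ) :
    ∃ k : ℤ, (k : ℂ) * m = ∑ a ∈ range m, (χ : G → ℂ) (g ^ a) * ζ ^ (j * a) := by
  classical
  obtain ⟨n, ρ, hirr, hρ⟩ := χ.2
  obtain ⟨b, μ, hμ, hμ1⟩ := Char.exists_eigenbasis ρ g
  refine ⟨∑ i, if μ i * ζ ^ j = 1 then 1 else 0, ?_⟩
  rw [← hρ, sum_congr rfl fun a (_ : a ∈ range m) =>
      show ρ.character (g ^ a) * ζ ^ (j * a) = ∑ i, (μ i * ζ ^ j) ^ a by
        rw [Char.character_pow ρ g b μ hμ a, sum_mul, pow_mul, sum_congr rfl fun i _ => (mul_pow _ _ a).symm],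
    sum_comm, Int.cast_sum, sum_mul]
  refine sum_congr rfl fun i _ => ?_
  rw [CycloTrace.geom_sum_of_pow_eq_one (by
    rw [mul_pow, ← pow_mul, mul_comm j m, pow_mul, hζ, one_pow, mul_one, ← hg]; exact hμ1 i)]
  split_ifs <;> simp

/-- Values at involutions are congruent to the degree modulo two. -/
theorem exists_int_involution_parity {t : G} (ht : orderOf t = 2) (χ : IrrCharacter G) :
    ∃ k : ℤ, (χ : G → ℂ) t = (χ : G → ℂ) 1 + 2 * (k : ℂ) := by
  classical
  obtain ⟨n, ρ, hirr, hρ⟩ := χ.2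
  obtain ⟨b, μ, hμ, hμ1⟩ := Char.exists_eigenbasis ρ t
  refine ⟨∑ i, if μ i = 1 then 0 else -1, ?_⟩
  have h1 := Char.character_pow ρ t b μ hμ 0
  rw [pow_zero] at h1
  rw [← hρ, h1, Char.character_eq_sum_eigenvalues ρ t b μ hμ, Int.cast_sum, mul_sum, ← sum_add_distrib]
  refine sum_congr rfl fun i _ => ?_
  have h := hμ1 i
  rw [ht, sq, mul_self_eq_one_iff] at h
  rcases h with h | h
  · simp [h]
  · rw [if_neg (by rw [h]; norm_num), h]
    norm_num

namespace DihedralData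

variable {P : Sylow 2 G} {a : ℕ} {σ : G} (D : DihedralData P a σ) {M : Ideal AlgInt}
include D

theorem isPow_two {x : G} (hx : x ∈ (P : Subgroup G)) : ∃ k, orderOf x = 2 ^ k := by
  have := Fact.mk Nat.prime_two
  obtain ⟨k, hk⟩ := IsPGroup.iff_orderOf.mp P.2 ⟨x, hx⟩
  exact ⟨k, by rw [← hk, Subgroup.orderOf_mk]⟩

theorem exists_refl : ∃ u ∈ (P : Subgroup G), u ∉ Subgroup.zpowers σ := by
  by_contra! h
  have h1 := Subgroup.card_le_of_le (show (P : Subgroup G) ≤ Subgroup.zpowers σ from h)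
  rw [Nat.card_zpowers, D.order, D.card_P] at h1
  have : 0 < 2 ^ (a + 2) := by positivity
  omega

theorem isConj_pow_inv (l : ℕ) : IsConj (σ ^ l) (σ ^ l)⁻¹ := by
  obtain ⟨u, hu, huR⟩ := D.exists_refl
  exact isConj_iff.mpr ⟨u, D.conj_inv hu huR (pow_mem (Subgroup.mem_zpowers σ) l)⟩

theorem conj_apply_rot (χ : IrrCharacter G) (l : ℕ) :
    conj ((χ : G → ℂ) (σ ^ l)) = (χ : G → ℂ) (σ ^ l) := by
  rw [← apply_inv_conj, ← apply_eq_of_isConj χ (D.isConj_pow_inv l)]

theorem pow_sub_eq_inv {l : ℕ} (hl : l ≤ 2 ^ (a + 2)) : σ ^ (2 ^ (a + 2) - l) = (σ ^ l)⁻¹ := by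
  refine eq_inv_of_mul_eq_one_left ?_
  rw [← pow_add, Nat.sub_add_cancel hl, ← D.order, pow_orderOf_eq_one]

omit [Finite G] in
theorem pow_inj {i j : ℕ} (hi : i < 2 ^ (a + 2)) (hj : j < 2 ^ (a + 2)) (h : σ ^ i = σ ^ j) : i = j :=
  pow_injOn_Iio_orderOf (Set.mem_Iio.mpr (D.order ▸ hi)) (Set.mem_Iio.mpr (D.order ▸ hj)) h

theorem pow_ne_one {i : ℕ} (h0 : 0 < i) (hi : i < 2 ^ (a + 2)) : σ ^ i ≠ 1 := fun h =>
  h0.ne' (D.pow_inj hi (by positivity) (by rw [h, pow_zero]))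

theorem mul_self_eq_one_iff {i : ℕ} (h0 : 0 < i) (hi : i < 2 ^ (a + 2)) :
    σ ^ i * σ ^ i = 1 ↔ i = 2 ^ (a + 1) := by
  constructor
  · intro h
    rcases D.eq_one_or_mid (pow_mem (Subgroup.mem_zpowers σ) i) h with e | e
    · exact absurd e (D.pow_ne_one h0 hi)
    · exact D.pow_inj hi (Nat.pow_lt_pow_right one_lt_two (by omega)) e
  · rintro rfl
    rw [← pow_add, show 2 ^ (a + 1) + 2 ^ (a + 1) = 2 ^ (a + 2) by ring, ← D.order, pow_orderOf_eq_one]

open scoped Classical in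
/-- The columns of the principal block at the rotations. -/
theorem colSum_rot (hM : IsPModular 2 M) {i j : ℕ} (hi0 : 0 < i) (hi : i < 2 ^ (a + 2)) (hj0 : 0 < j)
    (hj : j < 2 ^ (a + 2)) : colSum (principalBlock M G) (σ ^ i) (σ ^ j)
      = ((2 ^ (a + 2) : ℕ) : ℂ) * ((if i = j then 1 else 0) + if i + j = 2 ^ (a + 2) then 1 else 0) := by
  have := Fact.mk Nat.prime_two
  have hp := fun l : ℕ => D.isPow_two (pow_mem D.mem l)
  have h1 : ¬ 2 ∣ orderOf (1 : G) := by simp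
  by_cases hconj : IsConj (σ ^ i) (σ ^ j)
  swap
  · have h := colSum_eq_zero hM BrauerPairs.isPBlock_principal (hp i) (hp j) h1 h1 (Commute.one_right _)
      (Commute.one_right _) hconj
    rw [mul_one, mul_one] at h
    rw [h, if_neg, if_neg, add_zero, mul_zero]
    · intro e
      refine hconj ?_
      rw [show j = 2 ^ (a + 2) - i by omega, D.pow_sub_eq_inv hi.le]
      exact D.isConj_pow_inv i
    · rintro rfl
      exact hconj (IsConj.refl _)
  have hij : j = i ∨ j = 2 ^ (a + 2) - i := by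
    rcases D.conj_rot (D.pow_ne_one hi0 hi) hconj with e | e
    · exact Or.inl (D.pow_inj hj hi e)
    · exact Or.inr (D.pow_inj hj (by omega) (e.trans (D.pow_sub_eq_inv hi.le).symm))
  have hself : colSum (principalBlock M G) (σ ^ i) (σ ^ j) = colSum (principalBlock M G) (σ ^ i) (σ ^ i) :=
    finsum_mem_congr rfl fun χ _ => by rw [apply_eq_of_isConj χ hconj.symm]
  rw [hself]
  set H := Subgroup.centralizer ({σ ^ i} : Set G)
  have hH : ∀ g, g ∈ H ↔ Commute (σ ^ i) g := fun _ => commute_iff_mem_centralizer_singleton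
  have hmid : σ ^ i * σ ^ i = 1 → σ ^ i = midRot a σ := fun h => by
    rw [(D.mul_self_eq_one_iff hi0 hi).mp h]; rfl
  have hc : HasNormalPComplement 2 H ∧ ∃ S : Sylow 2 H,
      Nat.card S = if i = 2 ^ (a + 1) then 2 * 2 ^ (a + 2) else 2 ^ (a + 2) := by
    split_ifs with e
    · have h := D.complement_mid
      rw [← hmid ((D.mul_self_eq_one_iff hi0 hi).mpr e)] at h
      exact h
    · exact D.complement_rot (pow_mem (Subgroup.mem_zpowers σ) i) (fun h => e ((D.mul_self_eq_one_iff hi0 hi).mp h))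
  obtain ⟨hcomp, S, hS⟩ := hc
  have := Fintype.ofFinite H
  have h2 := sum_sq_principal_of_complement hM (hp i) hH hcomp
  rw [← card_regular_mul hcomp S, hS] at h2
  push_cast at h2
  have hR : ((univ.filter fun s : H => ¬ 2 ∣ orderOf s).card : ℂ) ≠ 0 :=
    Nat.cast_ne_zero.mpr (card_ne_zero.mpr ⟨1, mem_filter.mpr ⟨mem_univ _, by simp⟩⟩)
  rw [show colSum (principalBlock M G) (σ ^ i) (σ ^ i)
    = ∑ᶠ χ ∈ principalBlock M G, (χ : G → ℂ) (σ ^ i) * conj ((χ : G → ℂ) (σ ^ i)) from rfl,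
    mul_left_cancel₀ hR h2]
  have e2 : 2 ^ (a + 2) = 2 * 2 ^ (a + 1) := by ring
  rcases hij with e | e <;> split_ifs <;> first | omega | (push_cast; ring)

end DihedralData

/-- Sums over a cyclic group. -/
theorem sum_zpow_pow {m : ℕ} {ζ : ℂ} (hζ : IsPrimitiveRoot ζ m) (e : ℤ) :
    ∑ a ∈ range m, (ζ ^ e) ^ a = if (m : ℤ) ∣ e then (m : ℂ) else 0 := by
  rw [CycloTrace.geom_sum_of_pow_eq_one (by
    rw [← zpow_natCast, ← zpow_mul, mul_comm, zpow_mul, zpow_natCast, hζ.pow_eq_one, one_zpow])]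
  simp only [hζ.zpow_eq_one_iff_dvd]

theorem dvd_iff_of_bounds {m : ℕ} {e : ℤ} (h1 : -(m : ℤ) < e) (h2 : e < 2 * m) :
    (m : ℤ) ∣ e ↔ e = 0 ∨ e = m := by
  constructor
  · rintro ⟨c, rfl⟩
    have hc : c = 0 ∨ c = 1 := by
      have : -1 < c := by nlinarith
      have : c < 2 := by nlinarith
      omega
    rcases hc with rfl | rfl <;> simp
  · rintro (rfl | rfl) <;> simp

/-- The scalar product of two difference vectors. -/
theorem sum_diff_mul_diff {m h : ℕ} (hm : m = 2 * h) (h2 : 2 ≤ h) {ζ : ℂ} (hζ : IsPrimitiveRoot ζ m)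
    {j k : ℕ} (hj : j ≤ h) (hj1 : j ≠ 1) (hk : k ≤ h) (hk1 : k ≠ 1) :
    ∑ a ∈ range m, (ζ ^ (j * a) - ζ ^ a) * ((ζ ^ (k * a) - ζ ^ a) + conj (ζ ^ (k * a) - ζ ^ a))
      = (m : ℂ) * (((1 + if j = k then (if j = 0 ∨ j = h then 2 else 1) else 0) : ℤ) : ℂ) := by
  have hm0 : m ≠ 0 := by omega
  have hz : ζ ≠ 0 := hζ.ne_zero hm0
  have hcζ : conj ζ = ζ⁻¹ := (Complex.inv_eq_conj (hζ.norm'_eq_one hm0)).symm
  have hterm : ∀ a : ℕ, (ζ ^ (j * a) - ζ ^ a) * ((ζ ^ (k * a) - ζ ^ a) + conj (ζ ^ (k * a) - ζ ^ a))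
      = (ζ ^ ((j : ℤ) + k)) ^ a - (ζ ^ ((j : ℤ) + 1)) ^ a - (ζ ^ (1 + (k : ℤ))) ^ a + (ζ ^ (2 : ℤ)) ^ a
        + (ζ ^ ((j : ℤ) - k)) ^ a - (ζ ^ ((j : ℤ) - 1)) ^ a - (ζ ^ (1 - (k : ℤ))) ^ a + (ζ ^ (0 : ℤ)) ^ a := by
    intro a
    simp only [map_sub, map_pow, hcζ, zpow_add₀ hz, zpow_sub₀ hz, zpow_natCast, zpow_one, zpow_zero, mul_pow,
      div_pow, one_pow, pow_mul, inv_pow, zpow_two]
    field_simp
    ring
  rw [sum_congr rfl fun a _ => hterm a]
  simp only [sum_add_distrib, sum_sub_distrib, sum_zpow_pow hζ]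
  have d1 : ¬ (m : ℤ) ∣ (j : ℤ) + 1 := by rw [dvd_iff_of_bounds (by omega) (by omega)]; omega
  have d2 : ¬ (m : ℤ) ∣ 1 + (k : ℤ) := by rw [dvd_iff_of_bounds (by omega) (by omega)]; omega
  have d3 : ¬ (m : ℤ) ∣ (2 : ℤ) := by rw [dvd_iff_of_bounds (by omega) (by omega)]; omega
  have d4 : ¬ (m : ℤ) ∣ (j : ℤ) - 1 := by rw [dvd_iff_of_bounds (by omega) (by omega)]; omega
  have d5 : ¬ (m : ℤ) ∣ 1 - (k : ℤ) := by rw [dvd_iff_of_bounds (by omega) (by omega)]; omega
  have d6 : (m : ℤ) ∣ (j : ℤ) + k ↔ (j = k ∧ (j = 0 ∨ j = h)) := by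
    rw [dvd_iff_of_bounds (by omega) (by omega)]; omega
  have d7 : (m : ℤ) ∣ (j : ℤ) - k ↔ j = k := by rw [dvd_iff_of_bounds (by omega) (by omega)]; omega
  simp only [d1, d2, d3, d4, d5, d6, d7, if_false, dvd_zero, if_true]
  by_cases e : j = k
  · by_cases e' : j = 0 ∨ j = h
    · rw [if_pos ⟨e, e'⟩, if_pos e, if_pos e, if_pos e']; push_cast; ring
    · rw [if_neg fun x => e' x.2, if_pos e, if_pos e, if_neg e']; push_cast; ring
  · rw [if_neg fun x => e x.1, if_neg e, if_neg e]; push_cast; ring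

namespace DihedralData

variable {P : Sylow 2 G} {a : ℕ} {σ : G} (D : DihedralData P a σ) {M : Ideal AlgInt}
include D

open scoped Classical in
/-- The coefficients of the principal characters at the rotations. -/
theorem exists_rot_coeff (hM : IsPModular 2 M) {ζ : ℂ} (hζ : IsPrimitiveRoot ζ (2 ^ (a + 2))) :
    ∃ Φ : IrrCharacter G → ℕ → ℤ,
      (∀ χ : IrrCharacter G, Φ χ 1 = 0) ∧
      (∀ (χ : IrrCharacter G) j, j ≤ 2 ^ (a + 2) → Φ χ (2 ^ (a + 2) - j) = Φ χ j) ∧
      (∀ (χ : IrrCharacter G) l, 0 < l → l < 2 ^ (a + 2) →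
        (χ : G → ℂ) (σ ^ l) = ∑ j ∈ range (2 ^ (a + 2)), (Φ χ j : ℂ) * (ζ ^ l) ^ j) ∧
      (∀ j, j ≤ 2 ^ (a + 1) → j ≠ 1 → Φ (BrauerPairs.oneIrr G) j = if j = 0 then 1 else 0) ∧
      (∀ j k, j ≤ 2 ^ (a + 1) → j ≠ 1 → k ≤ 2 ^ (a + 1) → k ≠ 1 →
        ∑ᶠ χ ∈ principalBlock M G, Φ χ j * Φ χ k
          = 1 + if j = k then (if j = 0 ∨ j = 2 ^ (a + 1) then 2 else 1) else 0) ∧
      ∀ ρ : G, Odd (orderOf ρ) → ∀ j,
        ∑ᶠ χ ∈ principalBlock M G, (Φ χ j : ℂ) * (χ : G → ℂ) ρ = 0 := by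
  have := Fact.mk Nat.prime_two
  have := Fintype.ofFinite (IrrCharacter G)
  have hm2 : 2 ^ (a + 2) = 2 * 2 ^ (a + 1) := by ring
  have h2 : 2 ≤ 2 ^ (a + 1) := le_self_pow₀ one_le_two (by omega)
  set m := 2 ^ (a + 2) with hm
  set h := 2 ^ (a + 1) with hh
  have hm0 : m ≠ 0 := by omega
  have hmC : (m : ℂ) ≠ 0 := Nat.cast_ne_zero.mpr hm0
  have hcζ : conj ζ = ζ⁻¹ := (Complex.inv_eq_conj (hζ.norm'_eq_one hm0)).symm
  choose N hN using exists_int_coeff (g := σ) hm0 D.order hζ.pow_eq_one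
  let f : ℕ → ℕ → ℂ := fun j x => ζ ^ (j * x) - ζ ^ x
  have hf : ∀ χ j, ((N χ j - N χ 1 : ℤ) : ℂ) * m = ∑ x ∈ range m, (χ : G → ℂ) (σ ^ x) * f j x := fun χ j => by
    rw [Int.cast_sub, sub_mul, hN, hN, ← sum_sub_distrib]
    exact sum_congr rfl fun x _ => by simp only [f, one_mul, mul_sub]
  have hf0 : ∀ j, f j 0 = 0 := fun j => by simp [f]
  have hconj : ∀ χ j, ((N χ j - N χ 1 : ℤ) : ℂ) * m = ∑ x ∈ range m, (χ : G → ℂ) (σ ^ x) * conj (f j x) :=
    fun χ j => by
      have := congrArg conj (hf χ j)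
      simpa [map_sum, map_mul, D.conj_apply_rot χ] using this
  refine ⟨fun χ j => N χ j - N χ 1, fun χ => sub_self _, fun χ j hj => ?_, fun (χ : IrrCharacter G) l hl hlm => ?_,
    fun j hj hj1 => ?_, fun j k hj hj1 hk hk1 => ?_, fun ρ hρ j => ?_⟩
  · show N χ (m - j) - N χ 1 = N χ j - N χ 1
    congr 1
    refine Int.cast_injective (α := ℂ) (mul_right_cancel₀ hmC ?_)
    have h1 := congrArg conj (hN χ j)
    simp only [map_sum, map_mul, map_intCast, map_natCast, map_pow, hcζ, D.conj_apply_rot χ] at h1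
    rw [hN χ (m - j), h1]
    refine sum_congr rfl fun x _ => ?_
    congr 1
    rw [inv_pow]
    refine eq_inv_of_mul_eq_one_left ?_
    rw [← pow_add, ← add_mul, Nat.sub_add_cancel hj, pow_mul, hζ.pow_eq_one, one_pow]
  · refine mul_left_cancel₀ hmC ?_
    rw [mul_sum, sum_congr rfl fun j _ => show (m : ℂ) * (((N χ j - N χ 1 : ℤ) : ℂ) * (ζ ^ l) ^ j)
      = ∑ x ∈ range m, (χ : G → ℂ) (σ ^ x) * ((ζ ^ (x + l)) ^ j - ζ ^ x * (ζ ^ l) ^ j) by
        rw [← mul_assoc, mul_comm (m : ℂ), hf, sum_mul]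
        refine sum_congr rfl fun x _ => ?_
        simp only [f, ← pow_mul]
        rw [show (x + l) * j = j * x + l * j by ring, pow_add]
        ring]
    rw [sum_comm]
    simp only [← mul_sum, sum_sub_distrib]
    have hg : ∀ e, ∑ j ∈ range m, (ζ ^ e) ^ j = if m ∣ e then (m : ℂ) else 0 := fun e => by
      rw [CycloTrace.geom_sum_of_pow_eq_one (by rw [← pow_mul, mul_comm, pow_mul, hζ.pow_eq_one, one_pow])]
      simp only [hζ.pow_eq_one_iff_dvd]
    simp only [hg]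
    have hl' : ¬ m ∣ l := fun x => absurd (Nat.le_of_dvd hl x) (by omega)
    rw [sum_eq_single (m - l)]
    · rw [if_pos (by rw [Nat.sub_add_cancel hlm.le]), if_neg hl', mul_zero, sub_zero,
        D.pow_sub_eq_inv hlm.le, apply_inv_conj, D.conj_apply_rot, mul_comm]
    · intro x hx hne
      rw [if_neg, if_neg hl', mul_zero, sub_zero, mul_zero]
      rintro ⟨c, hc⟩
      have := mem_range.mp hx
      rcases c with _ | _ | c
      · omega
      · omega
      · nlinarith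
    · exact fun x => absurd (mem_range.mpr (by omega)) x
  · refine Int.cast_injective (α := ℂ) (mul_right_cancel₀ hmC ?_)
    rw [hf, sum_congr rfl fun x _ => show ((BrauerPairs.oneIrr G : IrrCharacter G) : G → ℂ) (σ ^ x) * f j x
      = (ζ ^ j) ^ x - (ζ ^ 1) ^ x by simp [BrauerPairs.oneIrr, f, ← pow_mul],
      sum_sub_distrib]
    have hg : ∀ e, e < m → ∑ x ∈ range m, (ζ ^ e) ^ x = if e = 0 then (m : ℂ) else 0 := fun e he => by
      rw [CycloTrace.geom_sum_of_pow_eq_one (by rw [← pow_mul, mul_comm, pow_mul, hζ.pow_eq_one, one_pow])]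
      refine if_congr ⟨fun x => ?_, fun x => by rw [x, pow_zero]⟩ rfl rfl
      exact hζ.pow_inj he (by omega) (by rw [x, pow_zero])
    rw [hg j (by omega), hg 1 (by omega), if_neg one_ne_zero, sub_zero]
    split_ifs <;> simp
  · refine Int.cast_injective (α := ℂ) (mul_left_cancel₀ (pow_ne_zero 2 hmC) ?_)
    have hfin : ((∑ᶠ χ ∈ principalBlock M G, (N χ j - N χ 1) * (N χ k - N χ 1) : ℤ) : ℂ)
        = ∑ χ ∈ (principalBlock M G).toFinset, ((N χ j - N χ 1 : ℤ) : ℂ) * ((N χ k - N χ 1 : ℤ) : ℂ) := by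
      rw [finsum_mem_eq_toFinset_sum]; push_cast; rfl
    rw [hfin, mul_sum, sum_congr rfl fun χ _ => show (m : ℂ) ^ 2 * (((N χ j - N χ 1 : ℤ) : ℂ) * ((N χ k - N χ 1 : ℤ) : ℂ))
      = ∑ x ∈ range m, ∑ y ∈ range m, (f j x * conj (f k y)) *
          ((χ : G → ℂ) (σ ^ x) * conj ((χ : G → ℂ) (σ ^ y))) by
        rw [show (m : ℂ) ^ 2 * (((N χ j - N χ 1 : ℤ) : ℂ) * ((N χ k - N χ 1 : ℤ) : ℂ))
          = (((N χ j - N χ 1 : ℤ) : ℂ) * m) * (((N χ k - N χ 1 : ℤ) : ℂ) * m) by ring, hf, hconj, sum_mul_sum]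
        refine sum_congr rfl fun x _ => sum_congr rfl fun y _ => ?_
        rw [D.conj_apply_rot χ y]
        ring]
    rw [sum_comm, sum_congr rfl fun x _ => sum_comm]
    simp only [← mul_sum]
    rw [sum_congr rfl fun x hx => show _ = (m : ℂ) * (f j x * (f k x + conj (f k x))) from ?_,
      ← mul_sum, sum_diff_mul_diff hm2 h2 hζ hj hj1 hk hk1]
    · ring
    by_cases hx0 : x = 0
    · subst hx0
      simp [hf0]
    have hxm := mem_range.mp hx
    rw [sum_congr rfl fun y hy => show _ = (m : ℂ) * (f j x * ((if x = y then conj (f k y) else 0)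
        + if y = m - x then conj (f k y) else 0)) from ?_]
    · rw [← mul_sum, ← mul_sum, sum_add_distrib, sum_ite_eq, sum_ite_eq', if_pos hx,
        if_pos (mem_range.mpr (by omega))]
      have e : conj (f k (m - x)) = f k x := by
        have hh1 : ∀ e, conj (ζ ^ (e * (m - x))) = ζ ^ (e * x) := fun e => by
          rw [map_pow, hcζ, inv_pow]
          refine (eq_inv_of_mul_eq_one_left ?_).symm
          rw [← pow_add, ← mul_add, Nat.add_sub_cancel' hxm.le, mul_comm, pow_mul, hζ.pow_eq_one, one_pow]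
        have := hh1 1
        rw [one_mul, one_mul] at this
        simp only [f, map_sub, hh1, this]
      rw [e]
      ring
    by_cases hy0 : y = 0
    · subst hy0
      simp [hf0]
    have hcs := D.colSum_rot hM (Nat.pos_of_ne_zero hx0) hxm (Nat.pos_of_ne_zero hy0) (mem_range.mp hy)
    rw [colSum, finsum_mem_eq_toFinset_sum] at hcs
    rw [hcs, ← hm, if_congr (show x + y = m ↔ y = m - x by omega) rfl rfl]
    split_ifs <;> ring
  · refine mul_left_cancel₀ hmC ?_
    rw [mul_zero, finsum_mem_eq_toFinset_sum, mul_sum,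
      sum_congr rfl fun χ _ => show (m : ℂ) * (((N χ j - N χ 1 : ℤ) : ℂ) * (χ : G → ℂ) ρ)
        = ∑ x ∈ range m, f j x * ((χ : G → ℂ) (σ ^ x) * conj ((χ : G → ℂ) ρ⁻¹)) by
          rw [← mul_assoc, mul_comm (m : ℂ), hf, sum_mul]
          refine sum_congr rfl fun x _ => ?_
          rw [apply_inv_conj, Complex.conj_conj]
          ring, sum_comm]
    refine sum_eq_zero fun x hx => ?_
    rw [← mul_sum]
    by_cases hx0 : x = 0
    · rw [hx0, hf0, zero_mul]
    have h1 : ¬ 2 ∣ orderOf ρ⁻¹ := by rw [orderOf_inv, ← even_iff_two_dvd, Nat.not_even_iff_odd]; exact hρ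
    have h0 := colSum_eq_zero hM (B := principalBlock M G) BrauerPairs.isPBlock_principal
      (D.isPow_two (pow_mem D.mem x)) ⟨0, by rw [orderOf_one, pow_zero]⟩ (y := 1) (by simp) h1
      (Commute.one_right _) (Commute.one_left _)
      (fun hc => D.pow_ne_one (Nat.pos_of_ne_zero hx0) (mem_range.mp hx) (isConj_one_left.mp hc))
    rw [mul_one, one_mul, colSum, finsum_mem_eq_toFinset_sum] at h0
    rw [h0, mul_zero]

open scoped Classical in
/-- A principal character vanishing at the rotations vanishes at all 2-singular elements, which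
is impossible. -/
theorem false_of_vanish_rot (hM : IsPModular 2 M) {χ : IrrCharacter G} (hχ : χ ∈ principalBlock M G)
    (hvan : ∀ l, 0 < l → l < 2 ^ (a + 2) → (χ : G → ℂ) (σ ^ l) = 0)
    (T : Finset (IrrCharacter G)) (hT : ∀ φ ∈ T, φ ∈ principalBlock M G) (hT4 : T.card = 4) (hχT : χ ∉ T)
    (hodd : ∀ φ ∈ T, ∃ k : ℤ, Odd k ∧ (φ : G → ℂ) (midRot a σ) = (k : ℂ)) : False := by
  have := Fact.mk Nat.prime_two
  have := Fintype.ofFinite G
  have := Fintype.ofFinite (IrrCharacter G)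
  have hz : orderOf (midRot a σ) = 2 := D.orderOf_midRot
  -- the values at a reflection not conjugate to the central involution
  have hu : ∀ u ∈ (P : Subgroup G), u ∉ Subgroup.zpowers σ → ¬ IsConj u (midRot a σ) → (χ : G → ℂ) u = 0 := by
    intro u hu huR hnc
    have hu2 : orderOf u = 2 := orderOf_eq_prime (by rw [sq]; exact D.sq_eq_one hu huR)
      fun e => huR (e ▸ one_mem _)
    obtain ⟨hc, S, hS⟩ := D.complement_refl hu huR hnc
    have := Fintype.ofFinite (Subgroup.centralizer ({u} : Set G))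
    have h := sum_sq_principal_of_complement hM (D.isPow_two hu)
      (fun _ => commute_iff_mem_centralizer_singleton) hc
    choose v hv using fun φ : IrrCharacter G => exists_int_involution hu2 φ
    rw [finsum_mem_eq_toFinset_sum, sum_congr rfl fun φ _ => by rw [hv φ, map_intCast],
      ← card_regular_mul hc S, hS] at h
    push_cast at h
    have hR : ((univ.filter fun s : Subgroup.centralizer ({u} : Set G) => ¬ 2 ∣ orderOf s).card : ℂ) ≠ 0 :=
      Nat.cast_ne_zero.mpr (card_ne_zero.mpr ⟨1, mem_filter.mpr ⟨mem_univ _, by simp⟩⟩)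
    have h4 : ∑ φ ∈ (principalBlock M G).toFinset, v φ * v φ = 4 := by
      refine Int.cast_injective (α := ℂ) ?_
      push_cast
      exact mul_left_cancel₀ hR h
    have hge : ∀ φ ∈ T, 1 ≤ v φ * v φ := by
      intro φ hφ
      obtain ⟨k, hk, hk'⟩ := hodd φ hφ
      obtain ⟨c, hc⟩ := exists_int_involution_parity hu2 φ
      obtain ⟨c', hc'⟩ := exists_int_involution_parity hz φ
      have e : v φ = k + 2 * (c - c') := by
        refine Int.cast_injective (α := ℂ) ?_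
        push_cast
        rw [← hv φ, ← hk', hc, hc']
        ring
      have : v φ ≠ 0 := by obtain ⟨i, rfl⟩ := hk; omega
      have := mul_self_pos.mpr this
      omega
    have hsub : insert χ T ⊆ (principalBlock M G).toFinset := fun φ hφ => Set.mem_toFinset.mpr (by
      rcases mem_insert.mp hφ with rfl | h <;> [exact hχ; exact hT φ h])
    have h5 := sum_le_sum_of_subset_of_nonneg hsub (f := fun φ => v φ * v φ) fun φ _ _ => mul_self_nonneg _
    rw [sum_insert hχT, h4] at h5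
    have h6 := card_nsmul_le_sum T (fun φ => v φ * v φ) 1 hge
    rw [hT4] at h6
    have h7 : v χ * v χ = 0 := le_antisymm (by simp only [nsmul_eq_mul, mul_one, Nat.cast_ofNat] at h6; linarith)
      (mul_self_nonneg _)
    rw [hv χ, mul_self_eq_zero.mp h7, Int.cast_zero]
  -- all singular elements
  have hall : ∀ g : G, 2 ∣ orderOf g → (χ : G → ℂ) g = 0 := by
    intro g hg
    obtain ⟨x, y, rfl, hxg, hyg, hxk, hy⟩ := Transfer.exists_pPart_mul (p := 2) g
    have hcomm : Commute x y := by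
      obtain ⟨i, hi⟩ := Subgroup.mem_zpowers_iff.mp hxg
      obtain ⟨j, hj⟩ := Subgroup.mem_zpowers_iff.mp hyg
      have h := (Commute.refl (x * y)).zpow_zpow i j
      rwa [hi, hj] at h
    have hy2 : ¬ 2 ∣ orderOf y := Nat.prime_two.coprime_iff_not_dvd.mp hy.symm
    have hx1 : x ≠ 1 := fun e => hy2 (by rwa [e, one_mul] at hg)
    have key : ∀ w : G, IsConj x w → (∃ k, orderOf w = 2 ^ k) →
        HasNormalPComplement 2 (Subgroup.centralizer ({w} : Set G)) → (χ : G → ℂ) w = 0 →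
        (χ : G → ℂ) (x * y) = 0 := by
      intro w hw hwk hc hw0
      obtain ⟨c, hc'⟩ := isConj_iff.mp hw
      have hs : c * y * c⁻¹ ∈ Subgroup.centralizer ({w} : Set G) :=
        commute_iff_mem_centralizer_singleton.mpr (hc' ▸ hcomm.map (MulAut.conj c).toMonoidHom)
      rw [← irr_class χ (x * y) c, show c * (x * y) * c⁻¹ = (c * x * c⁻¹) * (c * y * c⁻¹) by group, hc']
      rw [show c * y * c⁻¹ = ((⟨_, hs⟩ : Subgroup.centralizer ({w} : Set G)) : G) from rfl,
        apply_shift_principal hM hwk (fun _ => commute_iff_mem_centralizer_singleton) hc hχ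
          (by rwa [← Subgroup.orderOf_coe, orderOf_conj])]
      exact hw0
    obtain ⟨u, huP, hxu⟩ := D.exists_conj_mem hxk
    have hu1 : u ≠ 1 := fun e => hx1 (isConj_one_left.mp (e ▸ hxu))
    have hmidc := D.complement_mid.1
    have hmid0 : (χ : G → ℂ) (midRot a σ) = 0 :=
      hvan _ (by positivity) (Nat.pow_lt_pow_right one_lt_two (by omega))
    have hmidk : ∃ k, orderOf (midRot a σ) = 2 ^ k := ⟨1, by rw [hz, pow_one]⟩
    by_cases huR : u ∈ Subgroup.zpowers σ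
    · obtain ⟨l, hl⟩ := (Submonoid.mem_powers_iff _ _).mp ((mem_powers_iff_mem_zpowers (x := σ)).mpr huR)
      have hl' : σ ^ (l % orderOf σ) = u := by rw [pow_mod_orderOf, hl]
      by_cases h2 : u * u = 1
      · rw [(D.eq_one_or_mid huR h2).resolve_left hu1] at hxu
        exact key _ hxu hmidk hmidc hmid0
      · refine key u hxu (D.isPow_two huP) (D.complement_rot huR h2).1 ?_
        rw [← hl']
        refine hvan _ (Nat.pos_of_ne_zero fun e => hu1 ?_) ?_
        · rw [← hl', e, pow_zero]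
        · exact D.order ▸ Nat.mod_lt _ (orderOf_pos σ)
    · by_cases hnc : IsConj u (midRot a σ)
      · exact key _ (hxu.trans hnc) hmidk hmidc hmid0
      · exact key u hxu (D.isPow_two huP) (D.complement_refl huP huR hnc).1 (hu u huP huR hnc)
  have hB0 : IsPBlock M (principalBlock M G) := BrauerPairs.isPBlock_principal
  have hreg : ∀ ψ : IrrCharacter G, ψ ≠ χ → regInner 2 (χ : G → ℂ) (ψ : G → ℂ) = 0 := by
    intro ψ hne
    rw [regInner, show pRegularPart 2 (χ : G → ℂ) = (χ : G → ℂ) from funext fun g => ?_,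
      Char.classInner_irr_of_ne χ.2 ψ.2 fun e => hne (Subtype.ext e.symm)]
    by_cases hg : 2 ∣ orderOf g
    · rw [pRegularPart_of_singular hg, hall g hg]
    · rw [pRegularPart_of_regular hg]
  obtain ⟨ψ, hψ, hψ0⟩ := exists_height_zero hM hB0 (p := 2)
  by_cases hψχ : ψ = χ
  · subst hψχ
    obtain ⟨φ, hφ⟩ : T.Nonempty := card_pos.mp (by omega)
    refine regInner_ne_zero hM hB0 (hT φ hφ) hψ hψ0 ?_
    rw [← conj_regInner, hreg φ (fun e => hχT (e ▸ hφ)), map_zero]
  · exact regInner_ne_zero hM hB0 hχ hψ hψ0 (hreg ψ hψχ)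

end DihedralData

end Cfsg.Agent.SecondMain
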