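import Cfsg.Agent.Lib.Transfer.DihedralFusion
import Cfsg.Agent.Lib.Transfer.Tate
import Cfsg.Agent.Lib.Transfer.Focal

/-!
# Centralisers of 2-elements for a dihedral Sylow 2-subgroup

`DihedralData`: a dihedral Sylow 2-subgroup `P` with a rotation `σ` of maximal order.
`conj_rot` (fusion of rotations), `complement_rot`, `complement_mid`, `complement_refl` (normal
2-complements of centralisers, with Sylow orders) and `card_regular_mul`.
-/

set_option autoImplicit false

namespace Cfsg.Agent.SecondMain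

open Cfsg Subgroup

variable {G : Type*} [Group G]

/-- A dihedral Sylow 2-subgroup with a rotation of maximal order. -/
structure DihedralData (P : Sylow 2 G) (a : ℕ) (σ : G) : Prop where
  iso : Nonempty ((P : Subgroup G) ≃* DihedralGroup (2 ^ (a + 2)))
  mem : σ ∈ (P : Subgroup G)
  order : orderOf σ = 2 ^ (a + 2)

/-- The central involution of the rotations. -/
def midRot (a : ℕ) (σ : G) : G := σ ^ 2 ^ (a + 1)

variable [Finite G]

open scoped Classical in
theorem card_regular_mul {p : ℕ} [Fact p.Prime] {H : Type*} [Group H] [Fintype H]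
    (hc : HasNormalPComplement p H) (S : Sylow p H) :
    (Finset.univ.filter fun s : H => ¬ p ∣ orderOf s).card * Nat.card S = Nat.card H := by
  have h2 := ((Transfer.isComplement'_pResidual_iff S).mpr
    (Transfer.hasNormalPComplement_iff_coprime.mp hc)).card_mul
  rw [← h2]
  congr 1
  rw [Nat.card_eq_fintype_card, Fintype.card_subtype]
  congr 1
  refine Finset.filter_congr fun s _ => ?_
  rw [Transfer.mem_pResidual_iff hc, Nat.coprime_comm, (Fact.out : p.Prime).coprime_iff_not_dvd]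

/-- A complement criterion: each subgroup has a 2-group of automorphisms or is a four-group
containing a fixed central element. -/
theorem complement_of_fix {H : Type*} [Group H] [Finite H] (S : Sylow 2 H) {u : H}
    (hu : u ∈ center H) (hu1 : u ≠ 1)
    (h : ∀ R : Subgroup H, R ≤ (S : Subgroup H) → IsPGroup 2 (MulAut R) ∨ (u ∈ R ∧ Nat.card R = 4)) :
    HasNormalPComplement 2 H := by
  classical
  have := Fact.mk Nat.prime_two
  refine Transfer.hasNormalPComplement_of_local S fun R hR _ y hy hco => ?_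
  rcases h R hR.1 with h1 | ⟨huR, hcard⟩
  · exact Transfer.centralizes_of_isPGroup_mulAut h1 hy hco
  refine mem_centralizer_iff.mpr fun q hq => ?_
  have hyu : y * u * y⁻¹ = u := by rw [mem_center_iff.mp hu y, mul_inv_cancel_right]
  have := Fintype.ofFinite R
  obtain ⟨q, rfl⟩ : ∃ q' : R, (q' : H) = q := ⟨⟨q, hq⟩, rfl⟩
  have hc : ∀ c : R, y * (c : H) * y⁻¹ ∈ R := fun c => (mem_normalizer_iff.mp hy _).mp c.2
  suffices hfix : y * (q : H) * y⁻¹ = q from (mul_inv_eq_iff_eq_mul.mp hfix).symm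
  by_cases hq1 : (q : H) = 1
  · rw [hq1, mul_one, mul_inv_cancel]
  by_cases hqu : (q : H) = u
  · rw [hqu, hyu]
  let f : R → R := fun c => ⟨y * (c : H) * y⁻¹, hc c⟩
  have hf : Function.Injective f := fun c d h => Subtype.ext (by simpa [f] using congrArg Subtype.val h)
  set w : R := ⟨u, huR⟩
  have h2 : f (f q) = q := by
    by_contra hne
    have hfw : f w = w := Subtype.ext hyu
    have hf1 : f 1 = 1 := Subtype.ext (by simp [f])
    have n1 : (1 : R) ≠ w := fun e => hu1 (congrArg Subtype.val e).symm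
    have n2 : (1 : R) ≠ q := fun e => hq1 (congrArg Subtype.val e).symm
    have n3 : w ≠ q := fun e => hqu (congrArg Subtype.val e).symm
    have n4 : (1 : R) ≠ f q := fun e => n2 (hf (hf1.trans e))
    have n5 : w ≠ f q := fun e => n3 (hf (hfw.trans e))
    have n6 : q ≠ f q := fun e => hne (by rw [← e, ← e])
    have n7 : (1 : R) ≠ f (f q) := fun e => n4 (hf (hf1.trans e))
    have n8 : w ≠ f (f q) := fun e => n5 (hf (hfw.trans e))
    have n9 : f q ≠ f (f q) := fun e => n6 (hf e)
    have h5 : ({1, w, q, f q, f (f q)} : Finset R).card = 5 := by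
      simp [n1, n2, n3, n4, n5, n6, n7, n8, n9, Ne.symm hne]
    have h4 := Finset.card_le_univ ({1, w, q, f q, f (f q)} : Finset R)
    rw [h5, ← Nat.card_eq_fintype_card, hcard] at h4
    omega
  have h2' : Commute (y ^ 2) (q : H) := by
    refine mul_inv_eq_iff_eq_mul.mp ?_
    have h := congrArg Subtype.val h2
    simp only [f] at h
    rw [pow_two, mul_inv_rev]
    simpa only [mul_assoc] using h
  obtain ⟨k, hk⟩ := exists_pow_eq_self_of_coprime (n := 2) hco.symm
  have h3 : Commute y (q : H) := hk ▸ h2'.pow_left k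
  rw [h3.eq, mul_inv_cancel_right]

namespace DihedralData

variable {P : Sylow 2 G} {a : ℕ} {σ : G} (D : DihedralData P a σ)
include D

omit [Finite G] in
theorem card_P : Nat.card P = 2 * 2 ^ (a + 2) := by
  obtain ⟨e⟩ := D.iso
  rw [Nat.card_congr e.toEquiv, DihedralGroup.nat_card]

omit [Finite G] in
theorem zpowers_le : zpowers σ ≤ (P : Subgroup G) := Subgroup.zpowers_le.mpr D.mem

omit [Finite G] in
theorem four_le : 4 ≤ orderOf σ := by
  rw [D.order]
  calc 4 = 2 ^ 2 := by norm_num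
    _ ≤ _ := Nat.pow_le_pow_right two_pos (by omega)

theorem sq_eq_one {x : G} (hx : x ∈ (P : Subgroup G)) (hxR : x ∉ zpowers σ) : x * x = 1 := by
  obtain ⟨e⟩ := D.iso
  set m := 2 ^ (a + 2) with hm
  have : NeZero m := ⟨by positivity⟩
  set s : P := ⟨σ, D.mem⟩
  have hrot : ∀ (j : ZMod m) (y : P), e y = DihedralGroup.r j → y ∈ zpowers s := by
    intro j y hy
    have hs : ∃ i, e s = DihedralGroup.r i := by
      cases h : e s with
      | r i => exact ⟨i, rfl⟩
      | sr i =>
        exfalso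
        have h2 := DihedralGroup.orderOf_sr (n := m) i
        rw [← h, MulEquiv.orderOf_eq, Subgroup.orderOf_mk, D.order] at h2
        have := D.four_le
        rw [D.order] at this
        omega
    obtain ⟨i, hi⟩ := hs
    have hle : zpowers (DihedralGroup.r i) ≤ zpowers (DihedralGroup.r (1 : ZMod m)) := by
      rw [Subgroup.zpowers_le]
      exact mem_zpowers_iff.mpr ⟨i.val, by rw [zpow_natCast, DihedralGroup.r_one_pow, ZMod.natCast_zmod_val]⟩
    have heq : zpowers (DihedralGroup.r i) = zpowers (DihedralGroup.r (1 : ZMod m)) := by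
      refine eq_of_le_of_card_ge hle (le_of_eq ?_)
      rw [Nat.card_zpowers, Nat.card_zpowers, DihedralGroup.orderOf_r_one, ← hi, MulEquiv.orderOf_eq,
        Subgroup.orderOf_mk, D.order]
    have hy' : e y ∈ zpowers (e s) := by
      rw [hy, hi, heq]
      exact mem_zpowers_iff.mpr ⟨j.val, by rw [zpow_natCast, DihedralGroup.r_one_pow, ZMod.natCast_zmod_val]⟩
    obtain ⟨k, hk⟩ := hy'
    exact ⟨k, e.injective (by simpa using hk)⟩
  cases h : e ⟨x, hx⟩ with
  | r j =>
    exfalso
    obtain ⟨k, hk⟩ := hrot j _ h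
    exact hxR ⟨k, congrArg Subtype.val hk⟩
  | sr i =>
    have h2 : e (⟨x, hx⟩ * ⟨x, hx⟩) = e 1 := by rw [map_mul, h, DihedralGroup.sr_mul_self, map_one]
    exact congrArg Subtype.val (e.injective h2)

theorem conj_inv {x : G} (hx : x ∈ (P : Subgroup G)) (hxR : x ∉ zpowers σ) {w : G}
    (hw : w ∈ zpowers σ) : x * w * x⁻¹ = w⁻¹ := by
  have h1 := D.sq_eq_one hx hxR
  have h2 : x * w * (x * w) = 1 := by
    refine D.sq_eq_one (mul_mem hx (D.zpowers_le hw)) fun h => hxR ?_
    simpa using mul_mem h (inv_mem hw)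
  rw [inv_eq_of_mul_eq_one_right h1]
  refine eq_inv_of_mul_eq_one_left ?_
  simpa [mul_assoc] using h2

omit [Finite G] in
theorem orderOf_midRot : orderOf (midRot a σ) = 2 := by
  rw [midRot, orderOf_pow' _ (by positivity), D.order, pow_succ' 2 (a + 1),
    Nat.gcd_mul_left_left, Nat.mul_div_cancel _ (by positivity)]

omit [Finite G] in
theorem midRot_mem : midRot a σ ∈ zpowers σ := pow_mem (mem_zpowers σ) _

theorem eq_one_or_mid {w : G} (hw : w ∈ zpowers σ) (h : w * w = 1) : w = 1 ∨ w = midRot a σ := by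
  obtain ⟨k, rfl⟩ := mem_zpowers_iff.mp hw
  rw [← zpow_add, ← orderOf_dvd_iff_zpow_eq_one, D.order, ← two_mul,
    show ((2 ^ (a + 2) : ℕ) : ℤ) = 2 * 2 ^ (a + 1) by push_cast; ring,
    mul_dvd_mul_iff_left two_ne_zero] at h
  obtain ⟨j, rfl⟩ := h
  have hz : midRot a σ ^ (2 : ℕ) = 1 := D.orderOf_midRot ▸ pow_orderOf_eq_one _
  have e : σ ^ ((2 : ℤ) ^ (a + 1) * j) = midRot a σ ^ j := by
    rw [midRot, ← zpow_natCast, ← zpow_mul]; push_cast; rfl
  rw [e]
  rcases Int.even_or_odd' j with ⟨i, rfl | rfl⟩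
  · left; rw [zpow_mul, zpow_ofNat, hz, one_zpow]
  · right; rw [zpow_add_one, zpow_mul, zpow_ofNat, hz, one_zpow, one_mul]

theorem commute_midRot {x : G} (hx : x ∈ (P : Subgroup G)) : Commute (midRot a σ) x := by
  by_cases hxR : x ∈ zpowers σ
  · obtain ⟨k, rfl⟩ := mem_zpowers_iff.mp hxR
    exact ((Commute.refl σ).pow_left _).zpow_right k
  · refine (mul_inv_eq_iff_eq_mul.mp ((D.conj_inv hx hxR D.midRot_mem).trans ?_)).symm
    refine inv_eq_of_mul_eq_one_right ?_
    rw [← sq, ← D.orderOf_midRot, pow_orderOf_eq_one]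

theorem mem_of_commute {w y : G} (hw : w ∈ zpowers σ) (hw1 : w * w ≠ 1) (hy : y ∈ (P : Subgroup G))
    (hc : Commute y w) : y ∈ zpowers σ := by
  by_contra h
  have h1 := D.conj_inv hy h hw
  rw [hc.eq, mul_inv_cancel_right] at h1
  exact hw1 (mul_eq_one_iff_eq_inv.mpr h1)

theorem commute_refl_cases {x y : G} (hx : x ∈ (P : Subgroup G)) (hxR : x ∉ zpowers σ)
    (hy : y ∈ (P : Subgroup G)) (hc : Commute y x) :
    y = 1 ∨ y = midRot a σ ∨ y = x ∨ y = midRot a σ * x := by
  by_cases hyR : y ∈ zpowers σ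
  · have h1 := D.conj_inv hx hxR hyR
    rw [hc.symm.eq, mul_inv_cancel_right] at h1
    rcases D.eq_one_or_mid hyR (mul_eq_one_iff_eq_inv.mpr h1) with h | h
    · exact Or.inl h
    · exact Or.inr (Or.inl h)
  · have hxy : y * x ∈ zpowers σ := by
      by_contra h
      -- two reflections times a reflection: compare the actions on `σ`
      have e1 := D.conj_inv (mul_mem hy hx) h (mem_zpowers σ)
      have e2 : y * x * σ * (y * x)⁻¹ = σ := by
        calc y * x * σ * (y * x)⁻¹ = y * (x * σ * x⁻¹) * y⁻¹ := by group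
          _ = σ := by rw [D.conj_inv hx hxR (mem_zpowers σ), D.conj_inv hy hyR (inv_mem (mem_zpowers σ)), inv_inv]
      have h2 : orderOf σ ∣ 2 := orderOf_dvd_of_pow_eq_one (by
        rw [sq]; exact mul_eq_one_iff_eq_inv.mpr (e2.symm.trans e1))
      have := Nat.le_of_dvd two_pos h2
      have := D.four_le
      omega
    have hsq : (y * x) * (y * x) = 1 := by
      rw [show y * x * (y * x) = y * y * (x * x) by rw [hc.mul_mul_mul_comm], D.sq_eq_one hx hxR,
        D.sq_eq_one hy hyR, one_mul]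
    have hxx : y = y * x * x := by rw [mul_assoc, D.sq_eq_one hx hxR, mul_one]
    rcases D.eq_one_or_mid hxy hsq with h | h
    · exact Or.inr (Or.inr (Or.inl (by rw [hxx, h, one_mul])))
    · exact Or.inr (Or.inr (Or.inr (by rw [hxx, h])))

theorem exists_conj_mem {x : G} (hx : ∃ k, orderOf x = 2 ^ k) :
    ∃ y ∈ (P : Subgroup G), IsConj x y := by
  have := Fact.mk Nat.prime_two
  obtain ⟨k, hk⟩ := hx
  obtain ⟨S, hS⟩ := (IsPGroup.of_card (n := k) (p := 2) (G := zpowers x)
    (by rw [Nat.card_zpowers, hk])).exists_le_sylow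
  obtain ⟨c, rfl⟩ := MulAction.exists_smul_eq G P S
  refine ⟨c⁻¹ * x * c, ?_, isConj_iff.mpr ⟨c⁻¹, by rw [inv_inv]⟩⟩
  have := hS (mem_zpowers x)
  rwa [Sylow.coe_subgroup_smul, mem_pointwise_smul_iff_inv_smul_mem, ← map_inv,
    MulAut.smul_def, MulAut.conj_apply, inv_inv] at this

/-- A conjugate into `P` of a rotation of order at least four generates with it the same subgroup. -/
theorem conj_mem_rot {g : G} {w : G} (hw : w ∈ zpowers σ) (hw1 : w * w ≠ 1)
    (h : g * w * g⁻¹ ∈ (P : Subgroup G)) : g * w * g⁻¹ ∈ zpowers σ := by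
  by_contra hR
  refine hw1 ((conj_injective (x := g)) ?_)
  show g * (w * w) * g⁻¹ = g * 1 * g⁻¹
  rw [mul_one, mul_inv_cancel, show g * (w * w) * g⁻¹ = (g * w * g⁻¹) * (g * w * g⁻¹) by group]
  exact D.sq_eq_one h hR

/-- The rotations form a Sylow subgroup of the centraliser of a rotation of order at least four. -/
theorem le_rot_of_commute {w : G} (hw : w ∈ zpowers σ) (hw1 : w * w ≠ 1) (T : Subgroup G)
    (hT : IsPGroup 2 T) (hRT : zpowers σ ≤ T) (hTw : ∀ y ∈ T, Commute y w) : T ≤ zpowers σ := by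
  have := Fact.mk Nat.prime_two
  obtain ⟨S, hS⟩ := hT.exists_le_sylow
  obtain ⟨c, rfl⟩ := MulAction.exists_smul_eq G P S
  have hmem : ∀ y ∈ T, c⁻¹ * y * c ∈ (P : Subgroup G) := fun y hy => by
    have := hS hy
    rwa [Sylow.coe_subgroup_smul, mem_pointwise_smul_iff_inv_smul_mem, ← map_inv,
      MulAut.smul_def, MulAut.conj_apply, inv_inv] at this
  have hσ : c⁻¹ * σ * c ∈ zpowers σ := by
    have h := D.conj_mem_rot (g := c⁻¹) (mem_zpowers σ) (fun h => by
      have := Nat.le_of_dvd two_pos (orderOf_dvd_of_pow_eq_one (x := σ) (n := 2) (by rw [sq]; exact h))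
      have := D.four_le
      omega) (by rw [inv_inv]; exact hmem σ (hRT (mem_zpowers σ)))
    rwa [inv_inv] at h
  have hconj : ∀ y ∈ zpowers σ, c⁻¹ * y * c ∈ zpowers σ := fun y hy => by
    obtain ⟨k, rfl⟩ := mem_zpowers_iff.mp hy
    have h := zpow_mem hσ k
    rwa [← show (c⁻¹ * σ * c) ^ k = c⁻¹ * σ ^ k * c by
      have := conj_zpow (a := c⁻¹) (b := σ) (i := k); rwa [inv_inv] at this]
  have hmap : (zpowers σ).map (MulAut.conj c⁻¹).toMonoidHom = zpowers σ := by
    refine eq_of_le_of_card_ge ?_ (le_of_eq (Subgroup.card_map_of_injective (MulAut.conj c⁻¹).injective).symm)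
    rintro _ ⟨y, hy, rfl⟩
    simpa using hconj y hy
  intro y hy
  have h1 : c⁻¹ * y * c ∈ zpowers σ := by
    refine D.mem_of_commute (hconj w hw) ?_ (hmem y hy) ?_
    · intro h
      refine hw1 ((conj_injective (x := c⁻¹)) ?_)
      show c⁻¹ * (w * w) * c⁻¹⁻¹ = c⁻¹ * 1 * c⁻¹⁻¹
      rw [inv_inv, mul_one, inv_mul_cancel, show c⁻¹ * (w * w) * c = (c⁻¹ * w * c) * (c⁻¹ * w * c) by group, h]
    · have h := (hTw y hy).map (MulAut.conj c⁻¹).toMonoidHom
      simpa using h
  rw [← hmap] at h1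
  obtain ⟨y', hy', he⟩ := h1
  simp only [MulEquiv.coe_toMonoidHom, MulAut.conj_apply, inv_inv] at he
  rwa [mul_left_cancel (mul_right_cancel he)] at hy'

theorem exists_sylow_rot {w : G} (hw : w ∈ zpowers σ) (hw1 : w * w ≠ 1) :
    ∃ S : Sylow 2 (centralizer ({w} : Set G)),
      (S : Subgroup (centralizer ({w} : Set G))).map (centralizer ({w} : Set G)).subtype = zpowers σ := by
  have := Fact.mk Nat.prime_two
  set H := centralizer ({w} : Set G)
  have hle : zpowers σ ≤ H := fun y hy => mem_centralizer_singleton_iff.mpr (by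
    obtain ⟨i, rfl⟩ := mem_zpowers_iff.mp hy
    obtain ⟨j, rfl⟩ := mem_zpowers_iff.mp hw
    exact ((Commute.refl σ).zpow_zpow i j).eq)
  have hp : IsPGroup 2 (zpowers σ) := IsPGroup.of_card (n := a + 2) (by rw [Nat.card_zpowers, D.order])
  obtain ⟨S, hS⟩ := (hp.of_equiv (subgroupOfEquivOfLe hle).symm).exists_le_sylow
  have hge : zpowers σ ≤ (S : Subgroup H).map H.subtype := fun y hy =>
    ⟨⟨y, hle hy⟩, hS (mem_subgroupOf.mpr hy), rfl⟩
  refine ⟨S, le_antisymm (D.le_rot_of_commute hw hw1 _ (S.2.map H.subtype) hge fun y hy => ?_) hge⟩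
  obtain ⟨y', -, rfl⟩ := hy
  exact mem_centralizer_singleton_iff.mp y'.2

theorem complement_rot {w : G} (hw : w ∈ zpowers σ) (hw1 : w * w ≠ 1) :
    HasNormalPComplement 2 (centralizer ({w} : Set G)) ∧
      ∃ S : Sylow 2 (centralizer ({w} : Set G)), Nat.card S = 2 ^ (a + 2) := by
  have := Fact.mk Nat.prime_two
  obtain ⟨S, hS⟩ := D.exists_sylow_rot hw hw1
  have hcard : Nat.card S = 2 ^ (a + 2) := by
    rw [← D.order, ← Nat.card_zpowers, ← hS,
      Subgroup.card_map_of_injective (Subgroup.subtype_injective _)]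
  refine ⟨complement_of_fix S (u := ⟨w, mem_centralizer_singleton_iff.mpr rfl⟩)
    (mem_center_iff.mpr fun g => Subtype.ext (mem_centralizer_singleton_iff.mp g.2))
    (fun h => hw1 (by rw [show w = 1 from congrArg Subtype.val h, one_mul])) fun R hR => Or.inl ?_, S, hcard⟩
  have : IsCyclic (zpowers σ) := inferInstance
  let f : R →* zpowers σ :=
    ((centralizer ({w} : Set G)).subtype.comp R.subtype).codRestrict _ fun x => hS ▸ ⟨x, hR x.2, rfl⟩
  have : IsCyclic R := isCyclic_of_injective f fun x y h =>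
    Subtype.ext (Subtype.ext (congrArg Subtype.val h :))
  exact Transfer.isPGroup_mulAut_of_isCyclic (S.2.to_le hR)

theorem complement_mid :
    HasNormalPComplement 2 (centralizer ({midRot a σ} : Set G)) ∧
      ∃ S : Sylow 2 (centralizer ({midRot a σ} : Set G)), Nat.card S = 2 * 2 ^ (a + 2) := by
  have := Fact.mk Nat.prime_two
  set H := centralizer ({midRot a σ} : Set G)
  have hle : (P : Subgroup G) ≤ H := fun y hy =>
    mem_centralizer_singleton_iff.mpr (D.commute_midRot hy).eq.symm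
  obtain ⟨e⟩ := D.iso
  let S := P.subtype hle
  let e' : (S : Subgroup H) ≃* DihedralGroup (2 ^ (a + 2)) := (subgroupOfEquivOfLe hle).trans e
  have hz1 : midRot a σ ≠ 1 := fun h => by
    have := D.orderOf_midRot
    rw [h, orderOf_one] at this
    omega
  refine ⟨complement_of_fix S (u := ⟨midRot a σ, mem_centralizer_singleton_iff.mpr rfl⟩)
    (mem_center_iff.mpr fun g => Subtype.ext (mem_centralizer_singleton_iff.mp g.2))
    (fun h => hz1 (congrArg Subtype.val h)) fun R hR => ?_, S, ?_⟩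
  · rcases Transfer.klein_or_isPGroup_mulAut S (by positivity) e' hR with h | h
    · exact Or.inl h
    refine Or.inr ⟨?_, h.card_four⟩
    classical
    have hinv : ∀ q : R, ((q : H) : G) * ((q : H) : G) = 1 := fun q =>
      congrArg (fun x : R => ((x : H) : G)) (IsKleinFour.mul_self q)
    have hPm : ∀ q : R, ((q : H) : G) ∈ (P : Subgroup G) := fun q => hR q.2
    by_contra hzR
    have hz : ∀ q : R, ((q : H) : G) ≠ midRot a σ := fun q hq => hzR (by
      have : (q : H) = ⟨midRot a σ, mem_centralizer_singleton_iff.mpr rfl⟩ := Subtype.ext hq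
      exact this ▸ q.2)
    have := Fintype.ofFinite R
    have hrot : ∀ q : R, ((q : H) : G) ∈ zpowers σ → q = 1 := fun q hq =>
      (D.eq_one_or_mid hq (hinv q)).elim (fun e => Subtype.ext (Subtype.ext e)) fun e => absurd e (hz q)
    obtain ⟨x, hx⟩ : ∃ x : R, x ≠ 1 := by
      by_contra hcon
      push Not at hcon
      have h4 := h.card_four
      rw [Nat.card_eq_one_iff_unique.mpr ⟨⟨fun a b => (hcon a).trans (hcon b).symm⟩, ⟨1⟩⟩] at h4
      omega
    have hlist : ∀ q : R, q = 1 ∨ ((q : H) : G) = ((x : H) : G) ∨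
        ((q : H) : G) = midRot a σ * ((x : H) : G) := fun q => by
      rcases D.commute_refl_cases (hPm x) (fun hh => hx (hrot x hh)) (hPm q)
        (congrArg (fun c : R => ((c : H) : G)) (IsKleinFour.isMulCommutative.is_comm.comm q x)) with
        e | e | e | e
      · exact Or.inl (Subtype.ext (Subtype.ext e))
      · exact absurd e (hz q)
      · exact Or.inr (Or.inl e)
      · exact Or.inr (Or.inr e)
    have hsub : (Finset.univ.image fun q : R => ((q : H) : G)) ⊆
        {1, ((x : H) : G), midRot a σ * ((x : H) : G)} := by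
      intro y hy
      obtain ⟨q, -, rfl⟩ := Finset.mem_image.mp hy
      rcases hlist q with e | e | e
      · rw [e]; simp
      · simp [e]
      · simp [e]
    have h3 := (Finset.card_le_card hsub).trans Finset.card_le_three
    rw [Finset.card_image_of_injective _ (fun q q' hqq => Subtype.ext (Subtype.ext hqq)),
      Finset.card_univ, ← Nat.card_eq_fintype_card, h.card_four] at h3
    omega
  · rw [← D.card_P]
    exact Nat.card_congr (subgroupOfEquivOfLe hle).toEquiv

theorem complement_refl {u : G} (hu : u ∈ (P : Subgroup G)) (huR : u ∉ zpowers σ)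
    (hnc : ¬ IsConj u (midRot a σ)) :
    HasNormalPComplement 2 (centralizer ({u} : Set G)) ∧
      ∃ S : Sylow 2 (centralizer ({u} : Set G)), Nat.card S = 4 := by
  classical
  have := Fact.mk Nat.prime_two
  have := Fintype.ofFinite G
  set H := centralizer ({u} : Set G)
  set z := midRot a σ
  have hu2 := D.sq_eq_one hu huR
  have hu1 : u ≠ 1 := fun h => huR (h ▸ one_mem _)
  have hzu : u ≠ z := fun h => huR (h ▸ D.midRot_mem)
  have hz1 : z ≠ 1 := fun h => by
    have := D.orderOf_midRot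
    rw [show midRot a σ = 1 from h, orderOf_one] at this
    omega
  set Q := (P : Subgroup G) ⊓ H
  have hQmem : ∀ y, y ∈ Q ↔ y = 1 ∨ y = z ∨ y = u ∨ y = z * u := fun y => by
    constructor
    · rintro ⟨hy, hyH⟩
      exact D.commute_refl_cases hu huR hy (mem_centralizer_singleton_iff.mp hyH)
    · have hzP := D.zpowers_le D.midRot_mem
      rintro (rfl | rfl | rfl | rfl)
      · exact one_mem _
      · exact ⟨hzP, mem_centralizer_singleton_iff.mpr (D.commute_midRot hu).eq⟩
      · exact ⟨hu, mem_centralizer_singleton_iff.mpr rfl⟩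
      · exact ⟨mul_mem hzP hu,
          mem_centralizer_singleton_iff.mpr ((D.commute_midRot hu).mul_left (Commute.refl u)).eq⟩
  have hQ4 : Nat.card Q = 4 := by
    rw [Nat.card_eq_fintype_card, Fintype.card_subtype]
    have e : (Finset.univ.filter fun y => y ∈ Q) = ({1, z, u, z * u} : Finset G) := by
      ext y; simp [hQmem]
    rw [e]
    have h1 : z * u ≠ 1 := fun h => hzu (by
      rw [← mul_left_cancel_iff (a := z), h, ← sq, ← D.orderOf_midRot, pow_orderOf_eq_one])
    have h2 : z * u ≠ z := fun h => hu1 (mul_eq_left.mp h)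
    have h3 : z * u ≠ u := fun h => hz1 (mul_eq_right.mp h)
    simp [hz1.symm, hu1.symm, hzu.symm, h1.symm, h2.symm, h3.symm]
  have hQp : IsPGroup 2 Q := IsPGroup.of_card (n := 2) (by rw [hQ4]; norm_num)
  obtain ⟨S, hS⟩ := (hQp.of_equiv (subgroupOfEquivOfLe (inf_le_right : Q ≤ H)).symm).exists_le_sylow
  obtain ⟨T, hT⟩ := (S.2.map H.subtype).exists_le_sylow
  obtain ⟨c, rfl⟩ := MulAction.exists_smul_eq G P T
  have hmem : ∀ y : H, y ∈ (S : Subgroup H) → c⁻¹ * (y : G) * c ∈ (P : Subgroup G) := fun y hy => by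
    have := hT ⟨y, hy, rfl⟩
    rwa [Sylow.coe_subgroup_smul, mem_pointwise_smul_iff_inv_smul_mem, ← map_inv,
      MulAut.smul_def, MulAut.conj_apply, inv_inv] at this
  have hv : c⁻¹ * u * c ∈ (P : Subgroup G) :=
    hmem ⟨u, mem_centralizer_singleton_iff.mpr rfl⟩ (hS (mem_subgroupOf.mpr ((hQmem u).mpr (Or.inr (Or.inr (Or.inl rfl))))))
  have hvR : c⁻¹ * u * c ∉ zpowers σ := fun h => by
    rcases D.eq_one_or_mid h (by
      rw [show c⁻¹ * u * c * (c⁻¹ * u * c) = c⁻¹ * (u * u) * c by group, hu2, mul_one, inv_mul_cancel])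
      with e | e
    · exact hu1 (conj_eq_one_iff.mp (show c⁻¹ * u * c⁻¹⁻¹ = 1 by rw [inv_inv]; exact e))
    · exact hnc (isConj_iff.mpr ⟨c⁻¹, by rw [inv_inv]; exact e⟩)
  have hle4 : Nat.card S ≤ 4 := by
    have hsub : ((Finset.univ.filter fun y : H => y ∈ (S : Subgroup H)).image fun y : H => c⁻¹ * (y : G) * c)
        ⊆ ({1, z, c⁻¹ * u * c, z * (c⁻¹ * u * c)} : Finset G) := by
      intro w hw
      obtain ⟨y, hy, rfl⟩ := Finset.mem_image.mp hw
      have hc : Commute (c⁻¹ * (y : G) * c) (c⁻¹ * u * c) := by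
        simpa using (show Commute (y : G) u from mem_centralizer_singleton_iff.mp y.2).map
          (MulAut.conj c⁻¹).toMonoidHom
      simp only [Finset.mem_insert, Finset.mem_singleton]
      exact D.commute_refl_cases hv hvR (hmem y (Finset.mem_filter.mp hy).2) hc
    have h4 := (Finset.card_le_card hsub).trans Finset.card_le_four
    rw [Finset.card_image_of_injective _ (fun y y' h => Subtype.ext (mul_left_cancel (mul_right_cancel h))),
      ← Fintype.card_subtype, ← Nat.card_eq_fintype_card] at h4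
    exact h4
  have hS4 : Nat.card S = 4 := le_antisymm hle4 (by
    rw [← hQ4, ← Nat.card_congr (subgroupOfEquivOfLe (inf_le_right : Q ≤ H)).toEquiv]
    exact Subgroup.card_le_of_le hS)
  refine ⟨complement_of_fix S (u := ⟨u, mem_centralizer_singleton_iff.mpr rfl⟩)
    (mem_center_iff.mpr fun g => Subtype.ext (mem_centralizer_singleton_iff.mp g.2))
    (fun h => hu1 (congrArg Subtype.val h)) fun R hR => ?_, S, hS4⟩
  have hd : Nat.card R ∣ 2 ^ 2 := by
    rw [show (2 : ℕ) ^ 2 = Nat.card S by rw [hS4]; norm_num]; exact Subgroup.card_dvd_of_le hR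
  obtain ⟨i, hi, hcard⟩ := (Nat.dvd_prime_pow Nat.prime_two).mp hd
  interval_cases i
  · left
    have : IsCyclic R := by
      have := (Nat.card_eq_one_iff_unique.mp hcard).1
      infer_instance
    exact Transfer.isPGroup_mulAut_of_isCyclic (S.2.to_le hR)
  · left
    have : IsCyclic R := isCyclic_of_prime_card (p := 2) (by simpa using hcard)
    exact Transfer.isPGroup_mulAut_of_isCyclic (S.2.to_le hR)
  · right
    refine ⟨?_, by simpa using hcard⟩
    rw [eq_of_le_of_card_ge hR (by rw [hcard, hS4]; norm_num)]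
    exact hS (mem_subgroupOf.mpr ((hQmem u).mpr (Or.inr (Or.inr (Or.inl rfl)))))

/-- Fusion of rotations. -/
theorem conj_rot {i j : ℕ} (hi : σ ^ i ≠ 1) (hij : IsConj (σ ^ i) (σ ^ j)) :
    σ ^ j = σ ^ i ∨ σ ^ j = (σ ^ i)⁻¹ := by
  have := Fact.mk Nat.prime_two
  have hmi : σ ^ i ∈ zpowers σ := pow_mem (mem_zpowers σ) i
  have hmj : σ ^ j ∈ zpowers σ := pow_mem (mem_zpowers σ) j
  obtain ⟨g, hg⟩ := isConj_iff.mp hij
  by_cases h2 : σ ^ i * σ ^ i = 1
  · have h3 : σ ^ j * σ ^ j = 1 := by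
      rw [← hg, show g * σ ^ i * g⁻¹ * (g * σ ^ i * g⁻¹) = g * (σ ^ i * σ ^ i) * g⁻¹ by group, h2]
      group
    have hne : σ ^ j ≠ 1 := fun h => hi (conj_eq_one_iff.mp (hg.trans h))
    exact Or.inl (((D.eq_one_or_mid hmj h3).resolve_left hne).trans
      (((D.eq_one_or_mid hmi h2).resolve_left hi).symm))
  have h2j : σ ^ j * σ ^ j ≠ 1 := fun h => h2 (by
    refine (conj_eq_one_iff (a := g)).mp ?_
    rw [show g * (σ ^ i * σ ^ i) * g⁻¹ = (g * σ ^ i * g⁻¹) * (g * σ ^ i * g⁻¹) by group, hg, h])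
  obtain ⟨T, hT⟩ := D.exists_sylow_rot hmj h2j
  let H := centralizer ({σ ^ j} : Set G)
  -- move the rotations back by an element of the centraliser
  have hσ2 : σ ∈ centralizer ({σ ^ i} : Set G) :=
    mem_centralizer_singleton_iff.mpr ((Commute.refl σ).pow_right i).eq
  let x : H := ⟨g * σ * g⁻¹, mem_centralizer_singleton_iff.mpr (by
    rw [← hg]; exact (((Commute.refl σ).pow_right i).map (MulAut.conj g).toMonoidHom).eq)⟩
  have hxp : IsPGroup 2 (zpowers x) := IsPGroup.of_card (n := a + 2) (by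
    rw [Nat.card_zpowers, ← Subgroup.orderOf_coe, ← D.order]
    exact orderOf_injective (MulAut.conj g).toMonoidHom (MulAut.conj g).injective σ)
  obtain ⟨T', hT'⟩ := hxp.exists_le_sylow
  obtain ⟨d, hd⟩ := MulAction.exists_smul_eq H T' T
  set n := (d : G) * g
  have hn1 : n * σ * n⁻¹ ∈ zpowers σ := by
    rw [← hT]
    refine ⟨d * x * d⁻¹, ?_, by simp [n, x]; group⟩
    rw [← hd, Sylow.coe_subgroup_smul]
    exact ⟨x, hT' (mem_zpowers x), rfl⟩
  have hni : n * σ ^ i * n⁻¹ = σ ^ j := by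
    have hdj : Commute (d : G) (σ ^ j) := mem_centralizer_singleton_iff.mp d.2
    calc n * σ ^ i * n⁻¹ = (d : G) * (g * σ ^ i * g⁻¹) * (d : G)⁻¹ := by simp only [n]; group
      _ = σ ^ j := by rw [hg, hdj.eq, mul_inv_cancel_right]
  suffices hn : n * σ * n⁻¹ = σ ∨ n * σ * n⁻¹ = σ⁻¹ by
    rw [← hni, ← conj_pow]
    rcases hn with h | h <;> rw [h]
    · exact Or.inl rfl
    · exact Or.inr (inv_pow σ i)
  -- the group acting on `σ` by signs
  let K : Subgroup G :=
    { carrier := {y | y * σ * y⁻¹ = σ ∨ y * σ * y⁻¹ = σ⁻¹}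
      one_mem' := Or.inl (by group)
      mul_mem' := by
        rintro y y' hy (hy' | hy')
        · rcases hy with h | h
          · left; rw [show y * y' * σ * (y * y')⁻¹ = y * (y' * σ * y'⁻¹) * y⁻¹ by group, hy', h]
          · right; rw [show y * y' * σ * (y * y')⁻¹ = y * (y' * σ * y'⁻¹) * y⁻¹ by group, hy', h]
        · rcases hy with h | h
          · right
            rw [show y * y' * σ * (y * y')⁻¹ = y * (y' * σ * y'⁻¹) * y⁻¹ by group, hy',
              show y * σ⁻¹ * y⁻¹ = (y * σ * y⁻¹)⁻¹ by group, h]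
          · left
            rw [show y * y' * σ * (y * y')⁻¹ = y * (y' * σ * y'⁻¹) * y⁻¹ by group, hy',
              show y * σ⁻¹ * y⁻¹ = (y * σ * y⁻¹)⁻¹ by group, h, inv_inv]
      inv_mem' := by
        rintro y (h | h)
        · left
          calc y⁻¹ * σ * y⁻¹⁻¹ = y⁻¹ * (y * σ * y⁻¹) * y⁻¹⁻¹ := by rw [h]
            _ = σ := by group
        · right
          calc y⁻¹ * σ * y⁻¹⁻¹ = y⁻¹ * (y * σ⁻¹ * y⁻¹) * y⁻¹⁻¹ := by
                rw [show y * σ⁻¹ * y⁻¹ = (y * σ * y⁻¹)⁻¹ by group, h, inv_inv σ]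
            _ = σ⁻¹ := by group }
  show n ∈ K
  set N := normalizer (zpowers σ : Set G)
  have hnN : n ∈ N := by
    rw [mem_normalizer_iff_map_conj_eq]
    refine eq_of_le_of_card_ge ?_ (le_of_eq (Subgroup.card_map_of_injective (MulAut.conj n).injective).symm)
    rintro _ ⟨y, hy, rfl⟩
    obtain ⟨k, rfl⟩ := mem_zpowers_iff.mp hy
    simpa [← conj_zpow] using zpow_mem hn1 k
  have hPK : (P : Subgroup G) ≤ K := fun y hy => by
    by_cases hyR : y ∈ zpowers σ
    · left
      obtain ⟨k, rfl⟩ := mem_zpowers_iff.mp hyR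
      group
    · exact Or.inr (D.conj_inv hy hyR (mem_zpowers σ))
  have hPN : (P : Subgroup G) ≤ N := fun y hy => by
    rw [mem_normalizer_iff_map_conj_eq]
    refine eq_of_le_of_card_ge ?_ (le_of_eq (Subgroup.card_map_of_injective (MulAut.conj y).injective).symm)
    rintro _ ⟨w, hw, rfl⟩
    exact (mem_zpowers_iff.mpr (by
      by_cases hyR : y ∈ zpowers σ
      · obtain ⟨k, rfl⟩ := mem_zpowers_iff.mp hw
        obtain ⟨l, rfl⟩ := mem_zpowers_iff.mp hyR
        exact ⟨k, by simp only [MonoidHom.coe_coe, MulAut.conj_apply]; group⟩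
      · obtain ⟨k, rfl⟩ := mem_zpowers_iff.mp hw
        exact ⟨-k, by simp only [MonoidHom.coe_coe, MulAut.conj_apply,
          D.conj_inv hy hyR hw, zpow_neg]⟩))
  obtain ⟨s, o, ho, hord⟩ := Nat.exists_eq_pow_mul_and_not_dvd (orderOf_pos n).ne' 2 (by norm_num)
  have h1 : n ^ o ∈ K := by
    set y : N := ⟨n, hnN⟩ ^ o
    have hy : IsPGroup 2 (zpowers y) := by
      have hd : orderOf y ∣ 2 ^ s := by
        refine orderOf_dvd_of_pow_eq_one (Subtype.ext ?_)
        simp only [y, Subgroup.coe_pow, Subgroup.coe_one]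
        rw [← pow_mul, mul_comm, ← hord, pow_orderOf_eq_one]
      obtain ⟨i, -, hi⟩ := (Nat.dvd_prime_pow Nat.prime_two).mp hd
      exact IsPGroup.of_card (n := i) (by rw [Nat.card_zpowers, hi])
    obtain ⟨U, hU⟩ := hy.exists_le_sylow
    obtain ⟨c, rfl⟩ := MulAction.exists_smul_eq N (P.subtype hPN) U
    have h3 := hU (mem_zpowers y)
    rw [Sylow.coe_subgroup_smul] at h3
    obtain ⟨v, hv, hve⟩ := h3
    have hve' : (c : G) * (v : G) * (c : G)⁻¹ = n ^ o := by
      simpa [y] using congrArg Subtype.val hve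
    have hc : (c : G)⁻¹ * σ * (c : G) ∈ zpowers σ := (mem_normalizer_iff''.mp c.2 σ).mp (mem_zpowers σ)
    obtain ⟨k, hk⟩ := mem_zpowers_iff.mp hc
    rcases hPK (hv : (v : G) ∈ (P : Subgroup G)) with h | h <;> rw [Subgroup.coe_subtype] at h
    · left
      rw [← hve', show (c : G) * v * (c : G)⁻¹ * σ * ((c : G) * v * (c : G)⁻¹)⁻¹
        = (c : G) * ((v : G) * ((c : G)⁻¹ * σ * c) * (v : G)⁻¹) * (c : G)⁻¹ by group, ← hk, ← conj_zpow,
        h, hk]
      group
    · right
      rw [← hve', show (c : G) * v * (c : G)⁻¹ * σ * ((c : G) * v * (c : G)⁻¹)⁻¹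
        = (c : G) * ((v : G) * ((c : G)⁻¹ * σ * c) * (v : G)⁻¹) * (c : G)⁻¹ by group, ← hk, ← conj_zpow,
        h, inv_zpow, hk]
      group
  have h2' : n ^ 2 ^ (a + 1) ∈ K := by
    left
    obtain ⟨k, hk⟩ := (Submonoid.mem_powers_iff _ _).mp
      ((mem_powers_iff_mem_zpowers (x := σ)).mpr hn1)
    have hrep : ∀ l : ℕ, n ^ l * σ * (n ^ l)⁻¹ = σ ^ k ^ l := by
      intro l
      induction l with
      | zero => simp
      | succ l ih =>
        rw [pow_succ' n, show n * n ^ l * σ * (n * n ^ l)⁻¹ = n * (n ^ l * σ * (n ^ l)⁻¹) * n⁻¹ by group,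
          ih, ← conj_pow, ← hk, ← pow_mul, ← pow_succ']
    have hcop : Nat.Coprime k (2 ^ (a + 2)) := by
      rw [Nat.coprime_pow_right_iff (by omega), Nat.coprime_comm, Nat.prime_two.coprime_iff_not_dvd]
      rintro ⟨l, rfl⟩
      have h4 : orderOf (σ ^ (2 * l)) = orderOf σ := by
        rw [hk]; exact orderOf_injective (MulAut.conj n).toMonoidHom (MulAut.conj n).injective σ
      have h5 : (σ ^ (2 * l)) ^ 2 ^ (a + 1) = 1 := by
        rw [← pow_mul, show 2 * l * 2 ^ (a + 1) = 2 ^ (a + 2) * l by ring, ← D.order, pow_mul,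
          pow_orderOf_eq_one, one_pow]
      have h6 := orderOf_dvd_of_pow_eq_one h5
      rw [h4, D.order] at h6
      have := Nat.le_of_dvd (by positivity) h6
      have : 2 ^ (a + 1) < 2 ^ (a + 2) := Nat.pow_lt_pow_right one_lt_two (by omega)
      omega
    have htot := Nat.ModEq.pow_totient hcop
    rw [Nat.totient_prime_pow_succ Nat.prime_two, show (2 - 1) = 1 from rfl, mul_one] at htot
    rw [hrep]
    conv_rhs => rw [← pow_one σ]
    exact pow_eq_pow_iff_modEq.mpr (D.order ▸ htot)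
  have hcop : Nat.Coprime o (2 ^ (a + 1)) :=
    ((Nat.prime_two.coprime_iff_not_dvd).mpr ho).symm.pow_right _
  have hgcd := Nat.gcd_eq_gcd_ab o (2 ^ (a + 1))
  rw [hcop.gcd_eq_one, Nat.cast_one] at hgcd
  rw [← zpow_one n, hgcd, zpow_add, zpow_mul, zpow_mul, zpow_natCast, zpow_natCast]
  exact mul_mem (K.zpow_mem h1 _) (K.zpow_mem h2' _)

end DihedralData

end Cfsg.Agent.SecondMain
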