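import Cfsg.Agent.Lib.SecondMain.Columns

/-!
# Ranks and sizes of the column pieces

`regInner η ζ` is the scalar product on the `p'`-elements; `blockRank_eq_regular`;
`sum_shift_inner_mul` (the scalar products of the shifted characters of `B` reproduce `regInner`);
`card_block_eq` (`k(B)` is the sum of the ranks of the blocks inducing `B`).
-/

set_option autoImplicit false

open scoped ComplexConjugate

namespace Cfsg.Agent.SecondMain

open Cfsg Blocks

variable {G : Type*} [Group G] {p : ℕ} {M : Ideal AlgInt}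

theorem pRegularPart_of_regular {f : G → ℂ} {g : G} (h : ¬ p ∣ orderOf g) :
    pRegularPart p f g = f g := if_pos h

theorem pRegularPart_of_singular {f : G → ℂ} {g : G} (h : p ∣ orderOf g) :
    pRegularPart p f g = 0 := if_neg (not_not_intro h)

variable [Fintype G]

/-- The scalar product on the `p'`-elements. -/
noncomputable def regInner (p : ℕ) (η ζ : G → ℂ) : ℂ := classInner (pRegularPart p η) ζ

open scoped Classical in
theorem regInner_eq_sum (η ζ : G → ℂ) : regInner p η ζ
    = (Nat.card G : ℂ)⁻¹ * ∑ g ∈ Finset.univ.filter (fun g => ¬ p ∣ orderOf g), η g * conj (ζ g) := by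
  rw [regInner, classInner, Finset.sum_filter]
  congr 1
  refine Finset.sum_congr rfl fun g _ => ?_
  by_cases h : p ∣ orderOf g
  · rw [pRegularPart_of_singular h, if_neg (not_not_intro h), zero_mul]
  · rw [pRegularPart_of_regular h, if_pos h]

theorem conj_regInner (η ζ : G → ℂ) : conj (regInner p η ζ) = regInner p ζ η := by
  classical
  simp only [regInner_eq_sum, map_mul, map_sum, map_inv₀, Complex.conj_natCast, Complex.conj_conj,
    mul_comm (ζ _)]

theorem regInner_eq_zero (hM : IsPModular p M) {b : Set (IrrCharacter G)} (hb : IsPBlock M b)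
    {η ζ : IrrCharacter G} (hη : η ∈ b) (hζ : ζ ∉ b) : regInner p (η : G → ℂ) (ζ : G → ℂ) = 0 :=
  BrauerPairs.classInner_pRegularPart_eq_zero hM hb hη hζ

/-- The scalar products on the `p'`-elements form an idempotent matrix. -/
theorem regInner_idem (hM : IsPModular p M) {b : Set (IrrCharacter G)} (hb : IsPBlock M b)
    {η : IrrCharacter G} (hη : η ∈ b) (ζ : G → ℂ) :
    ∑ᶠ φ ∈ b, regInner p (η : G → ℂ) (φ : G → ℂ) * regInner p (φ : G → ℂ) ζ
      = regInner p (η : G → ℂ) ζ := by
  classical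
  have := Fintype.ofFinite (IrrCharacter G)
  rw [finsum_mem_eq_toFinset_sum]
  conv_rhs => rw [regInner_eq_sum]
  simp only [regInner_eq_sum (η := (Subtype.val _)) (ζ := ζ)]
  simp only [Finset.mul_sum]
  rw [Finset.sum_comm]
  refine Finset.sum_congr rfl fun g hg => ?_
  have h := congrFun (BrauerPairs.pRegularPart_eq_sum hM hb hη) g
  rw [pRegularPart_of_regular (Finset.mem_filter.mp hg).2, Finset.sum_apply] at h
  conv_rhs => rw [h]
  simp only [Pi.smul_apply, smul_eq_mul, Finset.sum_mul, Finset.mul_sum]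
  refine Finset.sum_congr rfl fun φ _ => ?_
  show _ = _ * (regInner p _ _ * _ * _)
  rw [regInner_eq_sum (η := (η : G → ℂ))]
  ring

open scoped Classical in
theorem blockRank_eq_regular (hM : IsPModular p M) {b : Set (IrrCharacter G)} (hb : IsPBlock M b) :
    (blockRank p b : ℂ) = (Nat.card G : ℂ)⁻¹ *
      ∑ g ∈ Finset.univ.filter (fun g => ¬ p ∣ orderOf g), colSum b g g := by
  classical
  have := Fintype.ofFinite (IrrCharacter G)
  rw [BrauerPairs.card_mul_blockRank hM hb]
  show ∑ᶠ χ ∈ b, regInner p (χ : G → ℂ) (χ : G → ℂ) = _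
  simp only [colSum, finsum_mem_eq_toFinset_sum, regInner_eq_sum, ← Finset.mul_sum]
  rw [Finset.sum_comm]

variable {H : Subgroup G} {x : G} {B : Set (IrrCharacter G)}

/-- The scalar products, on the `p'`-elements of `H = C(x)`, of the shifts of the characters of `B`
with two members of a block inducing `B`. -/
theorem sum_shift_inner_mul [Fintype H] (hM : IsPModular p M) (hx : ∃ k, orderOf x = p ^ k)
    (hH : ∀ g, g ∈ H ↔ Commute x g) (hB : IsPBlock M B) {b : Set (IrrCharacter H)}
    (hb : IsInducedBlock M H b B) {η η' : IrrCharacter H} (hη : η ∈ b) (hη' : η' ∈ b) :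
    ∑ᶠ χ ∈ B, regInner p (fun c : H => (χ : G → ℂ) (x * (c : G))) (η : H → ℂ) *
        conj (regInner p (fun c : H => (χ : G → ℂ) (x * (c : G))) (η' : H → ℂ))
      = regInner p (η' : H → ℂ) (η : H → ℂ) := by
  classical
  have := Fintype.ofFinite (IrrCharacter G)
  have := Fintype.ofFinite (IrrCharacter H)
  let F : Finset H := Finset.univ.filter fun c => ¬ p ∣ orderOf c
  have hfin : (inducedSet M H B).Finite := Set.toFinite _
  let S : Set (Set (IrrCharacter H)) := inducedSet M H B
  have h1 : ∑ᶠ χ ∈ B, regInner p (fun c : H => (χ : G → ℂ) (x * (c : G))) (η : H → ℂ) *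
        conj (regInner p (fun c : H => (χ : G → ℂ) (x * (c : G))) (η' : H → ℂ))
      = (Nat.card H : ℂ)⁻¹ * (Nat.card H : ℂ)⁻¹ * ∑ m ∈ F, ∑ n ∈ F,
          conj ((η : H → ℂ) m) * (η' : H → ℂ) n * colSum B (x * (m : G)) (x * (n : G)) := by
    simp only [regInner_eq_sum, colSum, finsum_mem_eq_toFinset_sum, map_mul, map_sum, map_inv₀,
      Complex.conj_natCast, Complex.conj_conj, Finset.mul_sum, Finset.sum_mul]
    rw [Finset.sum_comm]
    conv_lhs => rw [Finset.sum_congr rfl fun n _ => Finset.sum_comm]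
    rw [Finset.sum_comm]
    exact Finset.sum_congr rfl fun m _ => Finset.sum_congr rfl fun n _ =>
      Finset.sum_congr rfl fun χ _ => by ring
  rw [h1]
  have h2 : ∀ m ∈ F, ∀ n ∈ F, colSum B (x * (m : G)) (x * (n : G))
      = ∑ᶠ ζ ∈ ⋃₀ S, (ζ : H → ℂ) m * conj ((ζ : H → ℂ) n) := fun m hm n hn => by
    rw [colSum_eq_sum hM hB hx hH (Finset.mem_filter.mp hm).2 (Finset.mem_filter.mp hn).2]
    exact finsum_blocks_eq hM (fun c hc => hc.1) _
  rw [Finset.sum_congr rfl fun m hm => Finset.sum_congr rfl fun n hn => by rw [h2 m hm n hn]]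
  have h3 : (Nat.card H : ℂ)⁻¹ * (Nat.card H : ℂ)⁻¹ * ∑ m ∈ F, ∑ n ∈ F,
          conj ((η : H → ℂ) m) * (η' : H → ℂ) n *
            ∑ᶠ ζ ∈ ⋃₀ S, (ζ : H → ℂ) m * conj ((ζ : H → ℂ) n)
      = ∑ ζ ∈ (⋃₀ S).toFinset, regInner p (η' : H → ℂ) (ζ : H → ℂ) *
          regInner p (ζ : H → ℂ) (η : H → ℂ) := by
    simp only [regInner_eq_sum, finsum_mem_eq_toFinset_sum, Finset.mul_sum, Finset.sum_mul]
    rw [Finset.sum_comm]
    conv_lhs => rw [Finset.sum_congr rfl fun n _ => Finset.sum_comm]
    rw [Finset.sum_comm]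
    refine Finset.sum_congr rfl fun ζ _ => ?_
    rw [Finset.sum_comm]
    exact Finset.sum_congr rfl fun m _ => Finset.sum_congr rfl fun n _ => by ring
  rw [h3, ← regInner_idem hM hb.1 hη' (η : H → ℂ), finsum_mem_eq_toFinset_sum]
  refine (Finset.sum_subset ?_ fun ζ _ hζ => ?_).symm
  · intro ζ hζ
    exact Set.mem_toFinset.mpr ⟨b, hb, Set.mem_toFinset.mp hζ⟩
  · rw [regInner_eq_zero hM hb.1 hη' fun h => hζ (Set.mem_toFinset.mpr h), zero_mul]

open scoped Classical in
/-- The squares of the local pieces of the columns of `B` add up to `|H| * blockRank`. -/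
theorem sum_blockPart_sq [Fintype H] (hM : IsPModular p M) (hx : ∃ k, orderOf x = p ^ k)
    (hH : ∀ g, g ∈ H ↔ Commute x g) (hB : IsPBlock M B) {b : Set (IrrCharacter H)}
    (hb : IsInducedBlock M H b B) :
    ∑ᶠ χ ∈ B, ∑ s ∈ Finset.univ.filter (fun s : H => ¬ p ∣ orderOf s),
        blockPart b (fun c : H => (χ : G → ℂ) (x * (c : G))) s *
          conj (blockPart b (fun c : H => (χ : G → ℂ) (x * (c : G))) s)
      = (Nat.card H : ℂ) * (blockRank p b : ℂ) := by
  have := Fintype.ofFinite (IrrCharacter G)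
  have := Fintype.ofFinite (IrrCharacter H)
  let F : Finset H := Finset.univ.filter fun c => ¬ p ∣ orderOf c
  let θ : IrrCharacter G → H → ℂ := fun χ c => (χ : G → ℂ) (x * (c : G))
  have hP : ∀ χ, ∀ s ∈ F, blockPart b (θ χ) s
      = ∑ η ∈ b.toFinset, regInner p (θ χ) (η : H → ℂ) * (η : H → ℂ) s := fun χ s hs => by
    rw [blockPart_congr_regular hM hb.1 (θ' := pRegularPart p (θ χ))
      (fun m hm => (pRegularPart_of_regular hm).symm) (Finset.mem_filter.mp hs).2, blockPart_apply,
      finsum_mem_eq_toFinset_sum]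
    rfl
  have hF : ∀ η η' : IrrCharacter H, ∑ s ∈ F, (η : H → ℂ) s * conj ((η' : H → ℂ) s)
      = (Nat.card H : ℂ) * regInner p (η : H → ℂ) (η' : H → ℂ) := fun η η' => by
    rw [regInner_eq_sum, ← mul_assoc, mul_inv_cancel₀ (Nat.cast_ne_zero.mpr Nat.card_pos.ne'),
      one_mul]
  have hsum : ∀ χ, ∑ s ∈ F, blockPart b (θ χ) s * conj (blockPart b (θ χ) s)
      = (Nat.card H : ℂ) * ∑ η ∈ b.toFinset, ∑ η' ∈ b.toFinset,
          regInner p (η : H → ℂ) (η' : H → ℂ) *
            (regInner p (θ χ) (η : H → ℂ) * conj (regInner p (θ χ) (η' : H → ℂ))) := fun χ => by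
    rw [Finset.sum_congr rfl fun s hs => by rw [hP χ s hs]]
    simp only [map_sum, map_mul, Finset.sum_mul_sum, Finset.mul_sum, ← mul_assoc (Nat.card H : ℂ),
      ← hF, Finset.sum_mul]
    rw [Finset.sum_comm]
    conv_rhs => rw [Finset.sum_comm]
    refine Finset.sum_congr rfl fun η _ => ?_
    rw [Finset.sum_comm]
    exact Finset.sum_congr rfl fun η' _ => Finset.sum_congr rfl fun s _ => by ring
  rw [finsum_mem_eq_toFinset_sum, Finset.sum_congr rfl fun χ _ => hsum χ, ← Finset.mul_sum,
    BrauerPairs.card_mul_blockRank hM hb.1, finsum_mem_eq_toFinset_sum]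
  congr 1
  rw [Finset.sum_comm]
  refine Finset.sum_congr rfl fun η hη => ?_
  rw [Finset.sum_comm]
  show _ = regInner p (η : H → ℂ) (η : H → ℂ)
  rw [← regInner_idem hM hb.1 (Set.mem_toFinset.mp hη) (η : H → ℂ), finsum_mem_eq_toFinset_sum]
  refine Finset.sum_congr rfl fun η' hη' => ?_
  rw [← Finset.mul_sum, ← sum_shift_inner_mul hM hx hH hB hb (Set.mem_toFinset.mp hη)
    (Set.mem_toFinset.mp hη'), finsum_mem_eq_toFinset_sum]

/-- The number of characters of a block. -/
theorem card_block_eq (hM : IsPModular p M) (hB : IsPBlock M B) (X : Finset G)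
    (hX : ∀ x ∈ X, ∃ k, orderOf x = p ^ k)
    (hXrep : ∀ g : G, (∃ k : ℕ, orderOf g = p ^ k) → ∃! x, x ∈ X ∧ IsConj g x) :
    Nat.card B = ∑ x ∈ X,
      ∑ᶠ b ∈ inducedSet M (Subgroup.centralizer ({x} : Set G)) B, blockRank p b := by
  classical
  haveI : Fact p.Prime := ⟨hM.1⟩
  have := Fintype.ofFinite (IrrCharacter G)
  apply Nat.cast_injective (R := ℂ)
  have hf : IsClassFunction G fun g => colSum B g g := fun g h => by
    simp only [colSum, irr_class _ g h]
  have h1 : (Nat.card B : ℂ) = (Nat.card G : ℂ)⁻¹ * ∑ g, colSum B g g := by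
    simp only [colSum, finsum_mem_eq_toFinset_sum]
    rw [Finset.sum_comm, Finset.mul_sum]
    refine Eq.trans ?_ (Finset.sum_congr rfl fun χ _ =>
      (Char.classInner_irr_self χ.2).symm.trans rfl)
    rw [Finset.sum_const, nsmul_eq_mul, mul_one, Nat.card_eq_fintype_card, Set.toFinset_card]
  rw [h1, sum_eq_sum_sections hf X hX hXrep, Finset.mul_sum, Nat.cast_sum]
  refine Finset.sum_congr rfl fun x hx => ?_
  let C := Subgroup.centralizer ({x} : Set G)
  have hfin : (inducedSet M C B).Finite := Set.toFinite _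
  rw [finsum_mem_eq_finite_toFinset_sum _ hfin, Nat.cast_sum, ← mul_assoc, ← mul_assoc,
    inv_mul_cancel₀ card_ne_zero_C, one_mul, Finset.mul_sum]
  rw [Finset.sum_congr rfl fun b hb =>
    blockRank_eq_regular (p := p) hM ((Set.Finite.mem_toFinset hfin).mp hb).1]
  simp only [Finset.mul_sum]
  rw [Finset.sum_comm (s := hfin.toFinset), Finset.sum_filter]
  refine Finset.sum_congr rfl fun s _ => ?_
  by_cases hs : p ∣ orderOf s
  · rw [if_neg (not_not_intro hs), if_neg (not_not_intro hs), mul_zero]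
  · rw [if_pos hs, if_pos hs, ← Finset.mul_sum,
      colSum_eq_sum hM hB (hX x hx) (fun _ => commute_iff_mem_centralizer_singleton) hs hs,
      finsum_mem_eq_finite_toFinset_sum _ hfin]

end Cfsg.Agent.SecondMain
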