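import Cfsg.Agent.Lib.SecondMain.Rank

/-!
# Brauer pairs of cyclic subgroups and conjugation of columns

`induced_of_brauerPair`, `blockPart_conj_inv`.
-/

set_option autoImplicit false

open scoped ComplexConjugate

namespace Cfsg.Agent.SecondMain

open Cfsg Blocks

variable {G : Type*} [Group G] [Finite G] {p : ℕ} {M : Ideal AlgInt}

theorem colSum_inv (b : Set (IrrCharacter G)) (g h : G) :
    colSum b g⁻¹ h⁻¹ = conj (colSum b g h) := by
  classical
  have := Fintype.ofFinite (IrrCharacter G)
  simp only [colSum, finsum_mem_eq_toFinset_sum, map_sum, map_mul, Complex.conj_conj,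
    Char.IsCharacter.apply_inv (Char.IsIrrCharacter.isCharacter (Subtype.prop _))]

theorem blockPart_conj_inv (b : Set (IrrCharacter G)) (θ : G → ℂ) (s : G) :
    blockPart b (fun c => conj (θ c⁻¹)) s⁻¹ = conj (blockPart b θ s) := by
  have := Fintype.ofFinite G
  simp only [colSum_eq_sum_classInner, map_mul, map_sum, map_inv₀, Complex.conj_natCast]
  congr 1
  refine Fintype.sum_equiv (Equiv.inv G) _ _ fun m => ?_
  show conj (θ m⁻¹) * _ = conj (θ m⁻¹) * _
  rw [← colSum_inv]
  show _ = conj (θ m⁻¹) * colSum b s⁻¹ m⁻¹⁻¹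
  rw [inv_inv]

/-- A Brauer pair of `B` at a cyclic `p`-subgroup induces `B`. -/
theorem induced_of_brauerPair (hM : IsPModular p M) {B : Set (IrrCharacter G)} {u : G}
    (hu : ∃ k, orderOf u = p ^ k)
    {e : Set (IrrCharacter (Subgroup.centralizer (Subgroup.zpowers u : Set G)))}
    (hBe : IsBrauerPairOf p M B (Subgroup.zpowers u) e) :
    IsInducedBlock M (Subgroup.centralizer (Subgroup.zpowers u : Set G)) e B := by
  classical
  obtain ⟨⟨-, he⟩, hB, hcong⟩ := hBe
  obtain ⟨B', hB'⟩ := exists_induced_centralizer hM hu (fun _ => mem_centralizer_zpowers_iff) he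
  obtain ⟨ξ, hξ⟩ := isPBlock_nonempty hM he
  obtain ⟨χ, hχ⟩ := isPBlock_nonempty hM hB'.2.1
  suffices hχB : χ ∈ B by rwa [isPBlock_eq_of_mem hM hB hB'.2.1 hχB hχ]
  by_contra hn
  have := Fintype.ofFinite (Subgroup.centralizer (Subgroup.zpowers u : Set G))
  have h1 := hcong ξ hξ
  have h2 := omega_restrict_congr hM hB' hξ hχ (isClassFunction_blockCoeff B) (memR_blockCoeff hM hB)
  have h3 : brauerOmega (Subgroup.zpowers u) (blockCoeff B)
      (ξ : Subgroup.centralizer (Subgroup.zpowers u : Set G) → ℂ)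
      = omega (ξ : Subgroup.centralizer (Subgroup.zpowers u : Set G) → ℂ)
          (fun k : Subgroup.centralizer (Subgroup.zpowers u : Set G) => blockCoeff B (k : G)) := by
    rw [brauerOmega, finsum_eq_sum_of_fintype, omega_eq_sum, Finset.sum_div]
  have h4 : omega (χ : G → ℂ) (blockCoeff B) = 0 := by
    rw [blockCoeff_eq_ofOmega, omega_ofOmega, blockInd_of_notMem hn]
  rw [h4, sub_zero, ← h3] at h2
  exact not_memI_one hM (by simpa using memI_sub hM h2 h1)

end Cfsg.Agent.SecondMain
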