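import Cfsg.Agent.Lib.SecondMain.CycloTrace

/-!
# Means over the primitive `2 ^ (n + 1)`-th roots of unity

`exists_int_avg` (for a real `P(ζ) = 2 ^ h * w` the mean is `2 ^ h * c` with `c ≡ w`) and
`pow_le_avg_normSq` (the squared absolute values have mean at least `4 ^ h`).
-/

set_option autoImplicit false

open scoped ComplexConjugate

namespace Cfsg.Agent.CycloTrace

open Polynomial Finset Cfsg Blocks

variable {n : ℕ} {M : Ideal AlgInt}

theorem pow_half {z : ℂ} (hz : z ∈ prim 2 n) : z ^ 2 ^ n = -1 := by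
  have : Fact (Nat.Prime 2) := ⟨Nat.prime_two⟩
  have h := (mem_prim.mp hz).pow (NeZero.pos _) (pow_succ 2 n)
  exact h.eq_neg_one_of_two_right

/-- The reduced representative. -/
noncomputable def red (n : ℕ) (P : ℤ[X]) : ℤ[X] := P %ₘ (X ^ 2 ^ n + C 1)

theorem natDegree_red_lt (P : ℤ[X]) : (red n P).natDegree < 2 ^ n := by
  have hmo : (X ^ 2 ^ n + C (1 : ℤ)).Monic := monic_X_pow_add_C 1 (pow_ne_zero _ two_ne_zero)
  have hne : (X ^ 2 ^ n + C (1 : ℤ)) ≠ 1 := fun h => by
    have := congrArg natDegree h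
    rw [natDegree_X_pow_add_C, natDegree_one] at this
    exact pow_ne_zero n two_ne_zero this
  exact (natDegree_modByMonic_lt P hmo hne).trans_le (natDegree_X_pow_add_C).le

theorem aeval_red (P : ℤ[X]) {z : ℂ} (hz : z ∈ prim 2 n) : aeval z (red n P) = aeval z P := by
  conv_rhs => rw [← modByMonic_add_div P (X ^ 2 ^ n + C (1 : ℤ))]
  simp [red, pow_half hz]

theorem aeval_red_eq_sum (P : ℤ[X]) {z : ℂ} (hz : z ∈ prim 2 n) :
    aeval z P = ∑ i ∈ range (2 ^ n), ((red n P).coeff i : ℂ) * z ^ i := by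
  rw [← aeval_red P hz, aeval_eq_sum_range' (natDegree_red_lt P)]
  simp [zsmul_eq_mul]

theorem sum_pow_two (j : ℕ) : ∑ z ∈ prim 2 n, z ^ j =
    (if 2 ^ (n + 1) ∣ j then (2 : ℂ) ^ (n + 1) else 0) - (if 2 ^ n ∣ j then (2 : ℂ) ^ n else 0) := by
  have : Fact (Nat.Prime 2) := ⟨Nat.prime_two⟩
  simpa using sum_pow (p := 2) (n := n) j

theorem sum_aeval_mul (P : ℤ[X]) (j : ℕ) :
    ∑ z ∈ prim 2 n, aeval z P * z ^ j
      = ∑ i ∈ range (2 ^ n), ((red n P).coeff i : ℂ) *
          ((if 2 ^ (n + 1) ∣ i + j then (2 : ℂ) ^ (n + 1) else 0)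
            - (if 2 ^ n ∣ i + j then (2 : ℂ) ^ n else 0)) := by
  rw [sum_congr rfl fun z hz => by rw [aeval_red_eq_sum P hz, sum_mul], sum_comm]
  refine sum_congr rfl fun i _ => ?_
  rw [← sum_pow_two, mul_sum]
  exact sum_congr rfl fun z _ => by rw [pow_add, mul_assoc]

theorem sum_aeval (P : ℤ[X]) :
    ∑ z ∈ prim 2 n, aeval z P = (2 : ℂ) ^ n * ((red n P).coeff 0 : ℂ) := by
  have h := sum_aeval_mul (n := n) P 0
  simp only [pow_zero, mul_one, add_zero] at h
  rw [h, sum_eq_single 0]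
  · simp only [dvd_zero, if_true]; ring
  · intro i hi hi0
    have h1 : ¬ 2 ^ n ∣ i := fun hd =>
      absurd (Nat.le_of_dvd (Nat.pos_of_ne_zero hi0) hd) (not_le.mpr (mem_range.mp hi))
    rw [if_neg h1, if_neg fun hd => h1 ((pow_dvd_pow 2 n.le_succ).trans hd), sub_self, mul_zero]
  · exact fun h0 => absurd (mem_range.mpr (pow_pos two_pos n)) h0

variable [Fact (Nat.Prime 2)]

/-- A real value forces the coefficients to be antisymmetric. -/
theorem coeff_red_reflect {P : ℤ[X]} (hreal : conj (aeval (root 2 n) P) = aeval (root 2 n) P)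
    {j : ℕ} (hj0 : 0 < j) (hj : j < 2 ^ n) :
    (red n P).coeff j = -(red n P).coeff (2 ^ n - j) := by
  have hrealz : ∀ z ∈ prim 2 n, conj (aeval z P) = aeval z P := fun z hz => by
    rw [conj_aeval (mem_prim.mp hz)]
    refine aeval_eq ?_ hz
    rw [← conj_aeval isPrimitiveRoot_root, hreal]
  set M := 2 ^ n with hM
  have hN : 2 ^ (n + 1) = 2 * M := pow_succ' 2 n
  set c := fun i => (red n P).coeff i
  have h1 : ∑ z ∈ prim 2 n, aeval z P * z ^ (2 * M - j) = (2 : ℂ) ^ n * (c j : ℂ) := by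
    rw [sum_aeval_mul, sum_eq_single j]
    · rw [show j + (2 * M - j) = 2 ^ (n + 1) by omega, if_pos dvd_rfl,
        if_pos (pow_dvd_pow 2 n.le_succ)]
      ring
    · intro i hi hij
      have h2 : ¬ M ∣ i + (2 * M - j) := fun hd => by
        obtain ⟨k, hk⟩ := hd
        have hi' := mem_range.mp hi
        rcases lt_trichotomy k 2 with hk2 | hk2 | hk2
        · nlinarith [show i + (2 * M - j) > M by omega]
        · subst hk2; omega
        · nlinarith [show i + (2 * M - j) < 3 * M by omega]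
      rw [if_neg h2, if_neg fun hd => h2 ((pow_dvd_pow 2 n.le_succ).trans hd), sub_self, mul_zero]
    · exact fun h => absurd (mem_range.mpr hj) h
  have h2 : ∑ z ∈ prim 2 n, aeval z P * z ^ j = -((2 : ℂ) ^ n * (c (M - j) : ℂ)) := by
    rw [sum_aeval_mul, sum_eq_single (M - j)]
    · rw [show M - j + j = M by omega, if_neg fun hd => by
        have := Nat.le_of_dvd (by omega) hd; omega, if_pos dvd_rfl]
      ring
    · intro i hi hij
      have h2 : ¬ M ∣ i + j := fun hd => by
        obtain ⟨k, hk⟩ := hd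
        have hi' := mem_range.mp hi
        rcases lt_trichotomy k 1 with hk2 | hk2 | hk2
        · interval_cases k; omega
        · subst hk2; omega
        · nlinarith [show i + j < 2 * M by omega]
      rw [if_neg h2, if_neg fun hd => h2 ((pow_dvd_pow 2 n.le_succ).trans hd), sub_self, mul_zero]
    · exact fun h => absurd (mem_range.mpr (by omega)) h
  have h3 : ∑ z ∈ prim 2 n, aeval z P * z ^ (2 * M - j)
      = conj (∑ z ∈ prim 2 n, aeval z P * z ^ j) := by
    rw [map_sum]
    refine sum_congr rfl fun z hz => ?_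
    have hzp := mem_prim.mp hz
    rw [map_mul, hrealz z hz, map_pow, conj_eq_pow hzp, ← pow_mul]
    congr 1
    have key : z ^ (2 * M - j) * z ^ j = z ^ ((2 ^ (n + 1) - 1) * j) * z ^ j := by
      rw [← pow_add, ← pow_add, show 2 * M - j + j = 2 ^ (n + 1) by omega, hzp.pow_eq_one,
        ← Nat.succ_mul, Nat.succ_eq_add_one, Nat.sub_add_cancel NeZero.one_le, pow_mul,
        hzp.pow_eq_one, one_pow]
    exact mul_right_cancel₀ (pow_ne_zero _ (hzp.ne_zero (NeZero.ne _))) key
  rw [h1, h2, map_neg, map_mul, map_pow, map_ofNat, map_intCast, ← mul_neg] at h3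
  have := mul_left_cancel₀ (pow_ne_zero n two_ne_zero) h3
  exact_mod_cast this

theorem eval_one_red {P : ℤ[X]} (hreal : conj (aeval (root 2 n) P) = aeval (root 2 n) P) :
    (red n P).eval 1 = (red n P).coeff 0 := by
  set M := 2 ^ n
  set c := fun i => (red n P).coeff i
  rw [eval_eq_sum_range' (natDegree_red_lt P)]
  simp only [one_pow, mul_one]
  have h0 : (0 : ℕ) ∈ range M := mem_range.mpr (pow_pos two_pos n)
  rw [← add_sum_erase _ _ h0]
  have hS : ∑ i ∈ (range M).erase 0, c i = -∑ i ∈ (range M).erase 0, c i := by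
    rw [← sum_neg_distrib]
    refine sum_nbij' (fun i => M - i) (fun i => M - i) ?_ ?_ ?_ ?_ ?_ <;> intro i hi <;>
      simp only [coe_erase, coe_range, Set.mem_sdiff, Set.mem_Iio, Set.mem_singleton_iff, mem_erase, mem_range] at hi ⊢
    · omega
    · omega
    · omega
    · omega
    · exact coeff_red_reflect hreal (by omega) (by omega)
  simp only [c] at hS
  omega

theorem exists_two_eq (hM : IsPModular 2 M) :
    ∃ r : ℂ, MemLocalRing M r ∧ (2 : ℂ) = (1 - root 2 n) ^ 2 ^ n * r := by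
  classical
  set ζ := root 2 n
  have hζ : IsPrimitiveRoot ζ (2 ^ (n + 1)) := isPrimitiveRoot_root
  have h1 : (2 : ℂ) = ∏ z ∈ prim 2 n, (1 - z) := by
    have h := congrArg (eval 1) (cyclotomic_eq_prod_X_sub_primitiveRoots hζ)
    rw [eval_one_cyclotomic_prime_pow, eval_prod] at h
    simpa [prim] using h
  have h2 : ∀ z ∈ prim 2 n, ∃ r : ℂ, MemLocalRing M r ∧ 1 - z = (1 - ζ) * r := fun z hz => by
    obtain ⟨i, -, -, rfl⟩ := hζ.isPrimitiveRoot_iff.mp (mem_prim.mp hz)
    exact ⟨∑ j ∈ range i, ζ ^ j, memR_sum hM _ fun j _ =>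
      memR_pow hM (memR_of_isIntegral hM (hζ.isIntegral (NeZero.pos _))) j, (mul_neg_geom_sum ζ i).symm⟩
  choose r hr hr2 using h2
  refine ⟨∏ z ∈ (prim 2 n).attach, r z z.2, memR_prod hM _ fun z _ => hr z z.2, ?_⟩
  rw [h1, ← prod_attach, prod_congr rfl fun (z : {x // x ∈ prim 2 n}) _ => hr2 z.1 z.2, prod_mul_distrib, prod_const,
    card_attach, card_prim]
  simp

theorem even_coeff (hM : IsPModular 2 M) {P : ℤ[X]} (hdeg : P.natDegree < 2 ^ n) {w : ℂ}
    (hw : MemLocalRing M w) (h : aeval (root 2 n) P = 2 * w) (j : ℕ) : (2 : ℤ) ∣ P.coeff j := by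
  set π := root 2 n - 1 with hπ
  have hπR : MemLocalRing M π :=
    memR_sub hM (memR_of_isIntegral hM (isPrimitiveRoot_root.isIntegral (NeZero.pos _))) (memR_one hM)
  have hπI : MemLocalIdeal M π := by simpa using memI_root_pow_sub_one hM (n := n) 1
  obtain ⟨r, hr, hr2⟩ := exists_two_eq (n := n) hM
  set Q := P.comp (X + C 1) with hQ
  have hQd : Q.natDegree < 2 ^ n := by
    rwa [hQ, natDegree_comp, natDegree_X_add_C, mul_one]
  have hQv : aeval π Q = aeval (root 2 n) P := by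
    rw [hQ, aeval_comp]
    simp [π]
  have heven : ∀ i, (2 : ℤ) ∣ Q.coeff i := by
    intro i
    induction i using Nat.strong_induction_on with
    | _ i ih =>
      by_cases hi : i < 2 ^ n
      · have hsum : aeval π Q = ∑ k ∈ range (2 ^ n), (Q.coeff k : ℂ) * π ^ k := by
          rw [aeval_eq_sum_range' hQd]
          simp [zsmul_eq_mul]
        rw [← sum_range_add_sum_Ico _ hi.le, sum_eq_sum_Ico_succ_bot hi] at hsum
        obtain ⟨s, hs, hlow⟩ : ∃ s, MemLocalRing M s ∧
            ∑ k ∈ range i, (Q.coeff k : ℂ) * π ^ k = 2 * s := by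
          refine ⟨∑ k ∈ range i, ((Q.coeff k / 2 : ℤ) : ℂ) * π ^ k,
            memR_sum hM _ fun k _ => memR_mul hM (memR_intCast hM _) (memR_pow hM hπR k), ?_⟩
          rw [mul_sum]
          refine sum_congr rfl fun k hk => ?_
          rw [← mul_assoc]
          congr 1
          rw [← Int.cast_ofNat, ← Int.cast_mul, Int.mul_ediv_cancel' (ih k (mem_range.mp hk))]
        obtain ⟨u, hu, hhigh⟩ : ∃ u, MemLocalRing M u ∧
            ∑ k ∈ Ico (i + 1) (2 ^ n), (Q.coeff k : ℂ) * π ^ k = π ^ i * (π * u) := by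
          refine ⟨∑ k ∈ Ico (i + 1) (2 ^ n), (Q.coeff k : ℂ) * π ^ (k - (i + 1)),
            memR_sum hM _ fun k _ => memR_mul hM (memR_intCast hM _) (memR_pow hM hπR _), ?_⟩
          rw [mul_sum, mul_sum]
          refine sum_congr rfl fun k hk => ?_
          rw [mul_left_comm π, mul_left_comm (π ^ i), ← mul_assoc (π ^ i), ← pow_succ, ← pow_add,
            Nat.add_sub_cancel' (mem_Ico.mp hk).1]
        rw [hQv, h, hlow, hhigh] at hsum
        have hkey : (Q.coeff i : ℂ) + π * u = π ^ (2 ^ n - i) * ((-1) ^ 2 ^ n * r * (w - s)) := by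
          refine mul_left_cancel₀ (pow_ne_zero i (sub_ne_zero.mpr
            (isPrimitiveRoot_root.ne_one (Nat.one_lt_two_pow n.succ_ne_zero)))) ?_
          rw [← mul_assoc (π ^ i) (π ^ _), ← pow_add, Nat.add_sub_cancel' hi.le]
          have e : (1 - root 2 n) ^ 2 ^ n = (-1) ^ 2 ^ n * π ^ 2 ^ n := by
            rw [← mul_pow]; congr 1; simp [π]
          rw [e] at hr2
          linear_combination (w - s) * hr2 - hsum
        have hI : MemLocalIdeal M ((Q.coeff i : ℂ) + π * u) := by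
          rw [hkey]
          refine memI_mul_right hM (memI_pow hM hπI (by omega))
            (memR_mul hM (memR_mul hM (memR_pow hM (memR_neg (memR_one hM)) _) hr) (memR_sub hM hw hs))
        have hI2 : MemLocalIdeal M (Q.coeff i : ℂ) := by
          simpa using memI_sub hM hI (memI_mul_right hM hπI hu)
        obtain ⟨m, hm | hm⟩ := Int.eq_nat_or_neg (Q.coeff i)
        · rw [hm, Int.cast_natCast] at hI2
          rw [hm]
          exact_mod_cast (memI_natCast hM).mp hI2
        · rw [hm, Int.cast_neg, Int.cast_natCast] at hI2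
          rw [hm, dvd_neg]
          exact_mod_cast (memI_natCast hM).mp (by simpa using memI_neg hI2)
      · rw [coeff_eq_zero_of_natDegree_lt (lt_of_lt_of_le hQd (not_lt.mp hi))]
        exact dvd_zero _
  have hback : P = Q.comp (X - C 1) := by
    rw [hQ, comp_assoc, add_comp, X_comp, C_comp, sub_add_cancel, comp_X]
  obtain ⟨R, hR⟩ := (C_dvd_iff_dvd_coeff _ _).mpr heven
  rw [hback, hR, mul_comp, C_comp, coeff_C_mul]
  exact dvd_mul_right _ _

theorem dvd_coeff_red (hM : IsPModular 2 M) {P : ℤ[X]} {h : ℕ} {w : ℂ}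
    (hw : MemLocalRing M w) (hP : aeval (root 2 n) P = 2 ^ h * w) :
    ∃ Q : ℤ[X], red n P = C ((2 : ℤ) ^ h) * Q ∧ Q.natDegree < 2 ^ n ∧ aeval (root 2 n) Q = w := by
  induction h generalizing w with
  | zero =>
    exact ⟨red n P, by simp, natDegree_red_lt P, by rw [aeval_red P root_mem, hP]; simp⟩
  | succ h ih =>
    obtain ⟨Q, hQ, hd, hv⟩ := ih (w := 2 * w) (memR_mul hM (memR_natCast hM 2) hw)
      (by rw [hP, pow_succ, mul_assoc])
    obtain ⟨R, hR⟩ := (C_dvd_iff_dvd_coeff _ _).mpr (even_coeff hM hd hw hv)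
    refine ⟨R, by rw [hQ, hR, ← mul_assoc, ← C_mul, pow_succ], ?_, ?_⟩
    · rwa [hR, natDegree_C_mul two_ne_zero] at hd
    · refine mul_left_cancel₀ (two_ne_zero (α := ℂ)) ?_
      rw [← hv, hR, map_mul, aeval_C]
      simp

/-- The mean of a real value `2 ^ h * w`. -/
theorem exists_int_avg (hM : IsPModular 2 M) {P : ℤ[X]} {h : ℕ} {w : ℂ} (hw : MemLocalRing M w)
    (hP : aeval (root 2 n) P = 2 ^ h * w)
    (hreal : conj (aeval (root 2 n) P) = aeval (root 2 n) P) :
    ∃ c : ℤ, avg 2 n (fun z => (aeval z P).re) = 2 ^ h * (c : ℝ) ∧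
      MemLocalIdeal M (w - (c : ℂ)) := by
  obtain ⟨Q, hQ, -, hv⟩ := dvd_coeff_red hM hw hP
  refine ⟨Q.coeff 0, ?_, ?_⟩
  · rw [avg, ← Complex.re_sum, sum_aeval, hQ, coeff_C_mul, card_prim]
    have e : ((2 : ℂ) ^ n * (((2 : ℤ) ^ h * Q.coeff 0 : ℤ) : ℂ))
        = (((2 : ℤ) ^ n * (2 ^ h * Q.coeff 0) : ℤ) : ℂ) := by push_cast; ring
    rw [e, Complex.intCast_re]
    push_cast
    field_simp
  · have h1 : Q.eval 1 = Q.coeff 0 := by
      have := eval_one_red hreal
      rw [hQ, eval_mul, eval_C, coeff_C_mul] at this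
      exact mul_left_cancel₀ (pow_ne_zero h two_ne_zero) this
    rw [← hv, ← h1]
    exact memI_aeval_sub_eval hM Q

theorem pow_le_avg_normSq (hM : IsPModular 2 M) {P : ℤ[X]} {h : ℕ} {w : ℂ}
    (hw : MemLocalRing M w) (hw0 : w ≠ 0) (hP : aeval (root 2 n) P = 2 ^ h * w) :
    (4 : ℝ) ^ h ≤ avg 2 n fun z => Complex.normSq (aeval z P) := by
  obtain ⟨Q, hQ, -, hv⟩ := dvd_coeff_red hM hw hP
  rw [avg_congr (g := fun z => (4 : ℝ) ^ h * Complex.normSq (aeval z Q)) (fun z hz => ?_),
    avg_const_mul]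
  · exact le_mul_of_one_le_right (by positivity) (one_le_avg_normSq (hv ▸ hw0))
  · rw [← aeval_red P hz, hQ, map_mul, map_mul, aeval_C]
    simp only [map_pow, algebraMap_int_eq, eq_intCast, Int.cast_ofNat, Complex.normSq_ofNat]
    norm_num

end Cfsg.Agent.CycloTrace
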