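import Cfsg.Agent.Lib.SecondMain.CycloData
import Cfsg.Agent.Lib.SecondMain.CycloTwo

/-!
# Counting with contribution matrices at the prime two

`count_rank` and `count_height` are the arithmetic of the bounds; `CData.card_bounds`,
`CData.height_bound` and `CData.card_le_of_corank` apply them to a contribution matrix.
-/

set_option autoImplicit false

open scoped ComplexConjugate

namespace Cfsg.Agent.CycloTrace

open Finset Cfsg Blocks

theorem count_rank {ι : Type*} [Fintype ι] (s : Finset ι) (q : ι → ℤ) (a : ι → ι → ℝ) (N l : ℕ)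
    (hodd : ∀ i ∈ s, Odd (q i)) (hnn : ∀ i, 0 ≤ q i) (hsum : ∑ i, q i = (N : ℤ) * l)
    (hrow : ∀ i, ∑ j, a i j = (N : ℝ) * q i) (hone : ∀ i ∈ s, ∀ j ∈ s, 1 ≤ a i j)
    (hsq : ∀ i, (q i : ℝ) ^ 2 ≤ a i i) (ha : ∀ i j, 0 ≤ a i j) :
    (Odd (Nat.sqrt l) → s.card ≤ Nat.sqrt l * N) ∧
      (¬ Odd (Nat.sqrt l) → (Nat.sqrt l + 1) * s.card ≤ l * N) := by
  classical
  have hpos : ∀ i ∈ s, 1 ≤ q i := fun i hi => by
    obtain ⟨k, hk⟩ := hodd i hi
    have := hnn i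
    omega
  have key : ∀ i ∈ s, (s.card : ℤ) ≤ (N : ℤ) * q i := fun i hi => by
    have h1 : ((s.card : ℝ) - 1) + (q i : ℝ) ^ 2 ≤ (N : ℝ) * q i := by
      rw [← hrow i]
      refine le_trans ?_ (sum_le_sum_of_subset_of_nonneg (subset_univ s) fun j _ _ => ha i j)
      rw [← add_sum_erase _ _ hi, add_comm]
      refine add_le_add (hsq i) (le_trans (le_of_eq ?_) (sum_le_sum fun j hj => hone i hi j (mem_of_mem_erase hj)))
      rw [sum_const, nsmul_eq_mul, mul_one, card_erase_of_mem hi, Nat.cast_sub (card_pos.mpr ⟨i, hi⟩),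
        Nat.cast_one]
    have h2 : ((s.card : ℤ) - 1) + q i ^ 2 ≤ (N : ℤ) * q i := by exact_mod_cast h1
    nlinarith [hpos i hi]
  have htot : ∀ c : ℤ, (∀ i ∈ s, c ≤ q i) → (s.card : ℤ) * c ≤ (N : ℤ) * l := fun c hc => by
    rw [← hsum]
    refine le_trans ?_ (sum_le_sum_of_subset_of_nonneg (subset_univ s) fun i _ _ => hnn i)
    simpa using sum_le_sum hc
  set r := Nat.sqrt l with hr
  have hr2 : r * r ≤ l := Nat.sqrt_le l
  have hr3 : l ≤ r * r + r + r := Nat.sqrt_le_add l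
  zify at hr2 hr3
  constructor
  · intro ho
    zify
    by_cases hex : ∃ i ∈ s, q i ≤ (r : ℤ)
    · obtain ⟨i, hi, hq⟩ := hex
      nlinarith [key i hi]
    · push Not at hex
      have h2 := htot ((r : ℤ) + 2) fun i hi => by
        obtain ⟨k, hk⟩ := hodd i hi
        obtain ⟨k', hk'⟩ := ho
        have := hex i hi
        omega
      refine le_of_mul_le_mul_right (a := (r : ℤ) + 2) ?_ (by positivity)
      nlinarith
  · intro he
    zify
    by_cases hex : ∃ i ∈ s, q i ≤ (r : ℤ)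
    · obtain ⟨i, hi, hq⟩ := hex
      obtain ⟨k, hk⟩ := hodd i hi
      obtain ⟨k', hk'⟩ := Nat.not_odd_iff_even.mp he
      have hq' : q i ≤ (r : ℤ) - 1 := by omega
      have h0 : (0 : ℤ) ≤ N := Int.natCast_nonneg N
      nlinarith [mul_le_mul_of_nonneg_left (key i hi) (show (0 : ℤ) ≤ (r : ℤ) + 1 by positivity),
        mul_le_mul_of_nonneg_left hq' (mul_nonneg (show (0 : ℤ) ≤ (r : ℤ) + 1 by positivity) h0)]
    · push Not at hex
      have h2 := htot ((r : ℤ) + 1) fun i hi => hex i hi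
      linarith

theorem count_height {ι : Type*} [Fintype ι] (h : ι → ℕ) (q : ι → ℤ) (a : ι → ι → ℝ) (N : ℕ)
    (hodd : ∀ i, h i = 0 → Odd (q i)) (hpos : ∀ i, 0 < q i)
    (hdvd : ∀ i, h i ≠ 0 → (2 : ℤ) ^ (h i + 1) ∣ q i)
    (hsum : ∑ i, q i ≤ 3 * (N : ℤ)) (hrow : ∀ i, ∑ j, a i j = (N : ℝ) * q i)
    (hlow : ∀ i j, h i = 0 → (4 : ℝ) ^ h j ≤ a i j) :
    3 * (univ.filter fun i => h i = 0).card + 2 * ∑ i ∈ univ.filter (fun i => h i ≠ 0), 2 ^ h i
      ≤ 3 * N := by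
  classical
  let f : ι → ℤ := fun i => if h i = 0 then 3 else 2 * 2 ^ h i
  have hf : ((3 * (univ.filter fun i => h i = 0).card +
      2 * ∑ i ∈ univ.filter (fun i => h i ≠ 0), 2 ^ h i : ℕ) : ℤ) = ∑ i, f i := by
    push_cast
    rw [sum_ite, sum_const, nsmul_eq_mul, mul_sum, mul_comm (3 : ℤ)]
  refine Int.ofNat_le.mp (hf.trans_le ?_)
  push_cast
  by_cases hex : ∃ i, h i = 0 ∧ q i = 1
  · obtain ⟨i, hi, hq⟩ := hex
    have h1 : ((∑ j, (4 : ℤ) ^ h j : ℤ) : ℝ) ≤ ((N : ℤ) : ℝ) := by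
      push_cast
      rw [show (N : ℝ) = (N : ℝ) * q i by rw [hq, Int.cast_one, mul_one], ← hrow i]
      exact sum_le_sum fun j _ => hlow i j hi
    have h2 : ∑ j, (4 : ℤ) ^ h j ≤ (N : ℤ) := Int.cast_le.mp h1
    refine le_trans (sum_le_sum (g := fun j => 3 * (4 : ℤ) ^ h j) fun j _ => ?_)
      (by rw [← mul_sum]; linarith)
    simp only [f]
    split_ifs with hj
    · simp [hj]
    · have h24 : (2 : ℤ) ^ h j ≤ 4 ^ h j := pow_le_pow_left₀ zero_le_two (by norm_num) _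
      linarith [pow_pos (two_pos (α := ℤ)) (h j)]
  · push Not at hex
    refine le_trans (sum_le_sum fun j _ => ?_) hsum
    simp only [f]
    split_ifs with hj
    · obtain ⟨k, hk⟩ := hodd j hj
      have := hex j hj
      have := hpos j
      omega
    · rw [← pow_succ']
      exact Int.le_of_dvd (hpos j) (hdvd j hj)

namespace CData

variable {n K l : ℕ} [Fact (Nat.Prime 2)] {M : Ideal AlgInt} {ι κ : Type*} [Fintype ι] [Fintype κ]
  (D : CData 2 n K ι κ)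

theorem avg_row {p n K : ℕ} [Fact p.Prime] {ι κ : Type*} [Fintype ι] [Fintype κ]
    (D : CData p n K ι κ) (χ : ι) :
    ∑ ψ, avg p n (fun z => Complex.normSq (D.U z χ ψ))
      = (K : ℝ) * avg p n fun z => (D.U z χ χ).re := by
  rw [← avg_sum, avg_congr fun z hz => D.sum_normSq hz χ, avg_const_mul]

theorem sum_avg {p n K : ℕ} [Fact p.Prime] {ι κ : Type*} [Fintype ι] [Fintype κ]
    (D : CData p n K ι κ) {l : ℕ} (htr : ∑ a, D.C a a = ((K * l : ℕ) : ℤ)) :
    ∑ χ, avg p n (fun z => (D.U z χ χ).re) = (K : ℝ) * l := by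
  rw [← avg_sum, avg_congr (g := fun _ => (K : ℝ) * l) fun z hz => ?_, avg_const]
  rw [← Complex.re_sum, D.trace hz, ← Int.cast_sum, Complex.intCast_re, htr]
  push_cast
  rfl

theorem one_le_avg_U {p n K : ℕ} [Fact p.Prime] {ι κ : Type*} [Fintype ι] [Fintype κ]
    (D : CData p n K ι κ) {χ ψ : ι} (h : D.U (root p n) χ ψ ≠ 0) :
    1 ≤ avg p n fun z => Complex.normSq (D.U z χ ψ) := by
  rw [← avg_congr fun z hz => congrArg Complex.normSq (D.aeval_UP hz χ ψ)]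
  exact one_le_avg_normSq (by rwa [D.aeval_UP root_mem])

/-- The mean of a diagonal entry. -/
theorem exists_diag (hM : IsPModular 2 M) {χ : ι} {h : ℕ} {w : ℂ} (hw : MemLocalRing M w)
    (hU : D.U (root 2 n) χ χ = 2 ^ h * w) :
    ∃ c : ℤ, avg 2 n (fun z => (D.U z χ χ).re) = 2 ^ h * (c : ℝ) ∧
      (MemLocalIdeal M w ↔ (2 : ℤ) ∣ c) := by
  obtain ⟨c, hc, hcw⟩ := exists_int_avg hM (P := D.UP χ χ) hw (by rw [D.aeval_UP root_mem, hU])
    (by rw [D.aeval_UP root_mem, D.U_conj])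
  refine ⟨c, ?_, ?_⟩
  · rw [← hc]
    exact avg_congr fun z hz => by rw [D.aeval_UP hz]
  · rw [memI_iff_of_sub hM hcw]
    constructor
    · intro hI
      obtain ⟨m, rfl | rfl⟩ := Int.eq_nat_or_neg c
      · exact_mod_cast (memI_natCast hM).mp (by simpa using hI)
      · rw [dvd_neg]
        exact_mod_cast (memI_natCast hM).mp (by simpa using memI_neg hI)
    · exact fun hd => memI_intCast hM (by exact_mod_cast hd)

theorem memR_U {p n K : ℕ} [Fact p.Prime] {M : Ideal AlgInt} (hM : IsPModular p M) {ι κ : Type*}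
    [Fintype ι] [Fintype κ] (D : CData p n K ι κ) (χ ψ : ι) :
    MemLocalRing M (D.U (root p n) χ ψ) := by
  rw [← D.aeval_UP root_mem]
  exact memR_aeval hM _

/-- Bounds by the rank. -/
theorem card_bounds (hM : IsPModular 2 M) (s : Finset ι)
    (hs : ∀ i ∈ s, ∀ j ∈ s, ¬ MemLocalIdeal M (D.U (root 2 n) i j))
    (htr : ∑ a, D.C a a = ((K * l : ℕ) : ℤ)) :
    (Odd (Nat.sqrt l) → s.card ≤ Nat.sqrt l * K) ∧
      (¬ Odd (Nat.sqrt l) → (Nat.sqrt l + 1) * s.card ≤ l * K) := by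
  choose q hq hpar using fun χ => D.exists_diag hM (χ := χ) (h := 0) (D.memR_U hM χ χ)
    (by rw [pow_zero, one_mul])
  simp only [pow_zero, one_mul] at hq
  refine count_rank s q (fun i j => avg 2 n fun z => Complex.normSq (D.U z i j)) K l
    (fun i hi => ?_) (fun i => ?_) ?_ (fun i => by rw [D.avg_row, hq])
    (fun i hi j hj => D.one_le_avg_U (ne_zero_of_not_memI hM (hs i hi j hj))) (fun i => ?_)
    (fun i j => avg_nonneg fun z _ => Complex.normSq_nonneg _)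
  · exact Int.not_even_iff_odd.mp fun he =>
      hs i hi i hi ((hpar i).mpr (even_iff_two_dvd.mp he))
  · have h : (0 : ℝ) ≤ (q i : ℝ) := hq i ▸ avg_nonneg fun z hz => D.U_re_nonneg hz i
    exact_mod_cast h
  · have h := D.sum_avg htr
    simp only [hq] at h
    exact_mod_cast h
  · rw [← hq]
    refine (sq_avg_le _).trans (le_of_eq (avg_congr fun z _ => ?_))
    rw [Complex.normSq_apply, D.U_im z i]
    ring

variable {h : ι → ℕ}

/-- The weighted bound by heights. -/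
theorem height_bound (hM : IsPModular 2 M)
    (hU : ∀ χ ψ, ∃ w : ℂ, MemLocalRing M w ∧ D.U (root 2 n) χ ψ = (2 : ℂ) ^ h χ * w ∧
      (h ψ = 0 → ¬ MemLocalIdeal M w) ∧ (ψ = χ → h χ ≠ 0 → MemLocalIdeal M w))
    {χ₀ : ι} (h₀ : h χ₀ = 0) (htr : ∑ a, D.C a a = ((K * l : ℕ) : ℤ)) (hl : l ≤ 3) :
    3 * (univ.filter fun i => h i = 0).card + 2 * ∑ i ∈ univ.filter (fun i => h i ≠ 0), 2 ^ h i
      ≤ 3 * K := by
  have hdiag : ∀ χ, ∃ c : ℤ, avg 2 n (fun z => (D.U z χ χ).re) = (((2 : ℤ) ^ h χ * c : ℤ) : ℝ) ∧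
      (h χ = 0 → ¬ (2 : ℤ) ∣ c) ∧ (h χ ≠ 0 → (2 : ℤ) ∣ c) := fun χ => by
    obtain ⟨w, hwR, hw, hw0, hwh⟩ := hU χ χ
    obtain ⟨c, hc, hcw⟩ := D.exists_diag hM hwR hw
    exact ⟨c, by rw [hc]; push_cast; rfl, fun h0 hd => hw0 h0 (hcw.mpr hd),
      fun h0 => hcw.mp (hwh rfl h0)⟩
  choose c hc hodd heven using hdiag
  have hne : ∀ χ, D.U (root 2 n) χ χ₀ ≠ 0 := fun χ => by
    obtain ⟨w, -, hw, hw0, -⟩ := hU χ χ₀
    rw [hw]
    exact mul_ne_zero (pow_ne_zero _ two_ne_zero) (ne_zero_of_not_memI hM (hw0 h₀))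
  refine count_height h (fun i => (2 : ℤ) ^ h i * c i)
    (fun i j => avg 2 n fun z => Complex.normSq (D.U z i j)) K (fun i hi => ?_) (fun i => ?_)
    (fun i hi => ?_) ?_ (fun i => by rw [D.avg_row, hc]) (fun i j hi => ?_)
  · rw [hi, pow_zero, one_mul]
    exact Int.not_even_iff_odd.mp fun he => hodd i hi (even_iff_two_dvd.mp he)
  · have hp : (0 : ℝ) < (((2 : ℤ) ^ h i * c i : ℤ) : ℝ) :=
      hc i ▸ avg_pos fun z hz => D.U_re_pos hz (hne i)
    exact_mod_cast hp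
  · rw [pow_succ]
    exact mul_dvd_mul_left _ (heven i hi)
  · have h1 := D.sum_avg htr
    simp only [hc] at h1
    have h2 : ∑ i, (2 : ℤ) ^ h i * c i = (K : ℤ) * l := by exact_mod_cast h1
    rw [h2, mul_comm (3 : ℤ)]
    exact mul_le_mul_of_nonneg_left (by exact_mod_cast hl) (Int.natCast_nonneg K)
  · obtain ⟨w, hwR, hw, hw0, -⟩ := hU j i
    rw [avg_congr (g := fun z => Complex.normSq (Polynomial.aeval z (D.UP j i))) fun z hz => by
      rw [D.aeval_UP hz, ← D.U_conj z i j, Complex.normSq_conj]]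
    exact pow_le_avg_normSq hM hwR (ne_zero_of_not_memI hM (hw0 hi)) (by rw [D.aeval_UP root_mem, hw])

theorem card_le_of_corank {d : ℕ} (D : CData 2 n (2 ^ d) ι κ) (hM : IsPModular 2 M)
    (hU : ∀ χ ψ, ∃ w : ℂ, MemLocalRing M w ∧ D.U (root 2 n) χ ψ = (2 : ℂ) ^ h χ * w ∧
      (h ψ = 0 → ¬ MemLocalIdeal M w) ∧ (ψ = χ → h χ ≠ 0 → MemLocalIdeal M w))
    {χ₀ : ι} (h₀ : h χ₀ = 0) (htr : ∑ a, D.C a a = ((2 ^ d * l : ℕ) : ℤ))
    (hl : Fintype.card ι ≤ l + 3) : Fintype.card ι ≤ 2 ^ d := by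
  classical
  by_cases h1 : Fintype.card ι ≤ 1
  · exact h1.trans Nat.one_le_two_pow
  have hpair : ∀ χ ψ, χ ≠ ψ → h ψ = 0 → h χ < d ∧ ∀ z ∈ prim 2 n,
      0 < (2 ^ d : ℕ) - (D.U z χ χ).re ∧ 0 < (2 ^ d : ℕ) - (D.U z ψ ψ).re := by
    intro χ ψ hne hψ
    obtain ⟨w, hwR, hw, hw0, -⟩ := hU χ ψ
    have hw' := ne_zero_of_not_memI hM (hw0 hψ)
    have hne' : D.U (root 2 n) χ ψ ≠ 0 := by
      rw [hw]; exact mul_ne_zero (pow_ne_zero _ two_ne_zero) hw'
    have hb : ∀ z ∈ prim 2 n, ∀ a c : ι, a ≠ c → Complex.normSq (D.U z a c) ≤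
        (D.U z a a).re * ((2 ^ d : ℕ) - (D.U z a a).re) := by
      intro z hz a c hac
      have h2 := sum_le_sum_of_subset_of_nonneg (subset_univ ({a, c} : Finset ι))
        (f := fun e => Complex.normSq (D.U z a e)) fun e _ _ => Complex.normSq_nonneg _
      rw [sum_pair hac, D.sum_normSq hz, Complex.normSq_apply (D.U z a a), D.U_im z a] at h2
      linarith
    refine ⟨?_, fun z hz => ?_⟩
    · have h3 : (4 : ℝ) ^ h χ ≤ ((2 ^ d : ℕ) : ℝ) ^ 2 / 4 := by
        refine (pow_le_avg_normSq hM hwR hw' (P := D.UP χ ψ) (by rw [D.aeval_UP root_mem, hw])).trans ?_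
        rw [← avg_const (p := 2) (n := n) (((2 ^ d : ℕ) : ℝ) ^ 2 / 4)]
        refine avg_mono fun z hz => ?_
        rw [D.aeval_UP hz]
        refine (hb z hz χ ψ hne).trans ?_
        nlinarith [sq_nonneg (2 * (D.U z χ χ).re - ((2 ^ d : ℕ) : ℝ))]
      rw [le_div_iff₀ (by norm_num : (0 : ℝ) < 4), ← pow_succ, Nat.cast_pow, ← pow_mul, mul_comm d 2,
        pow_mul, Nat.cast_ofNat, show ((2 : ℝ) ^ 2) = 4 by norm_num] at h3
      exact (pow_le_pow_iff_right₀ (by norm_num : (1 : ℝ) < 4)).mp h3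
    · have hnz : D.U z χ ψ ≠ 0 := by
        rw [← D.aeval_UP hz]; exact aeval_ne_zero (by rwa [D.aeval_UP root_mem]) hz
      have hpos := Complex.normSq_pos.mpr hnz
      refine ⟨pos_of_mul_pos_right (hpos.trans_le (hb z hz χ ψ hne)) (D.U_re_nonneg hz χ), ?_⟩
      refine pos_of_mul_pos_right ((hpos.trans_eq ?_).trans_le (hb z hz ψ χ hne.symm))
        (D.U_re_nonneg hz ψ)
      rw [← D.U_conj z χ ψ, Complex.normSq_conj]
  obtain ⟨χ₁, hχ₁⟩ := Fintype.exists_ne_of_one_lt_card (by omega) χ₀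
  have hlt : ∀ χ, h χ < d ∧ ∀ z ∈ prim 2 n, 0 < (2 ^ d : ℕ) - (D.U z χ χ).re := fun χ => by
    by_cases hχ : χ = χ₀
    · rw [hχ]
      have h2 := hpair χ₁ χ₀ hχ₁ h₀
      exact ⟨h₀ ▸ lt_of_le_of_lt (Nat.zero_le _) h2.1, fun z hz => (h2.2 z hz).2⟩
    · exact ⟨(hpair χ χ₀ hχ h₀).1, fun z hz => ((hpair χ χ₀ hχ h₀).2 z hz).1⟩
  have hdiag : ∀ χ, ∃ c : ℤ, avg 2 n (fun z => ((2 ^ d : ℕ) : ℝ) - (D.U z χ χ).re)
      = (((2 : ℤ) ^ h χ * c : ℤ) : ℝ) ∧ (h χ = 0 → ¬ (2 : ℤ) ∣ c) ∧ (h χ ≠ 0 → (2 : ℤ) ∣ c) := fun χ => by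
    obtain ⟨w, hwR, hw, hw0, hwh⟩ := hU χ χ
    obtain ⟨c, hc, hcw⟩ := D.exists_diag hM hwR hw
    obtain ⟨j, hj⟩ : ∃ j, d = h χ + (j + 1) := ⟨d - h χ - 1, by have := (hlt χ).1; omega⟩
    refine ⟨(2 : ℤ) ^ (j + 1) - c, ?_, fun h0 hd => hw0 h0 (hcw.mpr ?_), fun h0 => ?_⟩
    · rw [avg_sub, avg_const, hc]
      push_cast
      rw [hj, pow_add]
      ring
    · exact (dvd_sub_right (dvd_pow_self (2 : ℤ) j.succ_ne_zero)).mp hd
    · exact dvd_sub (dvd_pow_self (2 : ℤ) j.succ_ne_zero) (hcw.mp (hwh rfl h0))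
  choose c hc hodd heven using hdiag
  let W : ℂ → ι → ι → ℝ := fun z i j =>
    if i = j then (((2 ^ d : ℕ) : ℝ) - (D.U z i i).re) ^ 2 else Complex.normSq (D.U z i j)
  have hrow : ∀ z ∈ prim 2 n, ∀ i,
      ∑ j, W z i j = ((2 ^ d : ℕ) : ℝ) * (((2 ^ d : ℕ) : ℝ) - (D.U z i i).re) := fun z hz i => by
    have h2 := D.sum_normSq hz i
    rw [← add_sum_erase _ _ (mem_univ i), Complex.normSq_apply (D.U z i i), D.U_im z i] at h2
    rw [← add_sum_erase _ _ (mem_univ i)]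
    simp only [W, if_pos rfl]
    rw [sum_congr rfl fun j hj => if_neg (ne_of_mem_erase hj).symm]
    linarith
  have hmain := count_height h (fun i => (2 : ℤ) ^ h i * c i) (fun i j => avg 2 n fun z => W z i j)
    (2 ^ d) (fun i hi => ?_) (fun i => ?_) (fun i hi => ?_) ?_ (fun i => ?_) (fun i j hi => ?_)
  · have hle : (univ.filter fun i => h i ≠ 0).card * 3 ≤
        2 * ∑ i ∈ univ.filter (fun i => h i ≠ 0), 2 ^ h i := by
      rw [← smul_eq_mul, ← sum_const, mul_sum]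
      refine sum_le_sum fun i hi => ?_
      have h2 : 2 ^ 1 ≤ 2 ^ h i :=
        Nat.pow_le_pow_right two_pos (Nat.one_le_iff_ne_zero.mpr (mem_filter.mp hi).2)
      omega
    have hsplit := card_filter_add_card_filter_not (s := (univ : Finset ι)) fun i => h i = 0
    rw [card_univ] at hsplit
    simp only [ne_eq] at hle hmain
    omega
  · rw [hi, pow_zero, one_mul]
    exact Int.not_even_iff_odd.mp fun he => hodd i hi (even_iff_two_dvd.mp he)
  · have hp : (0 : ℝ) < (((2 : ℤ) ^ h i * c i : ℤ) : ℝ) := hc i ▸ avg_pos fun z hz => (hlt i).2 z hz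
    exact_mod_cast hp
  · rw [pow_succ]
    exact mul_dvd_mul_left _ (heven i hi)
  · have h2 : ((∑ i, (2 : ℤ) ^ h i * c i : ℤ) : ℝ)
        = (Fintype.card ι : ℝ) * ((2 ^ d : ℕ) : ℝ) - ((2 ^ d : ℕ) : ℝ) * l := by
      rw [Int.cast_sum, sum_congr rfl fun i _ => (hc i).symm]
      simp only [avg_sub, avg_const, sum_sub_distrib, sum_const, card_univ, nsmul_eq_mul,
        D.sum_avg htr]
    have h3 : (∑ i, (2 : ℤ) ^ h i * c i)
        = (Fintype.card ι : ℤ) * ((2 ^ d : ℕ) : ℤ) - ((2 ^ d : ℕ) : ℤ) * l := by exact_mod_cast h2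
    rw [h3]
    have hl' : (Fintype.card ι : ℤ) ≤ l + 3 := by exact_mod_cast hl
    nlinarith [Int.natCast_nonneg (2 ^ d)]
  · rw [← avg_sum, avg_congr fun z hz => hrow z hz i, avg_const_mul, hc]
  · by_cases hij : i = j
    · subst hij
      rw [hi, pow_zero]
      simp only [W, if_pos rfl]
      rw [avg_congr (g := fun z => Complex.normSq
        (Polynomial.aeval z (Polynomial.C ((2 ^ d : ℕ) : ℤ) - D.UP i i))) fun z hz => ?_]
      · refine one_le_avg_normSq fun h2 => ?_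
        have h3 := (hlt i).2 _ root_mem
        have h4 := congrArg Complex.re h2
        rw [map_sub, Polynomial.aeval_C, D.aeval_UP root_mem, Complex.sub_re, Complex.zero_re] at h4
        simp only [algebraMap_int_eq, eq_intCast, Int.cast_natCast, Complex.natCast_re] at h4
        linarith
      · rw [map_sub, Polynomial.aeval_C, D.aeval_UP hz, Complex.normSq_apply, Complex.sub_re,
          Complex.sub_im, D.U_im z i]
        simp only [algebraMap_int_eq, eq_intCast, Int.cast_natCast, Complex.natCast_re,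
          Complex.natCast_im]
        ring
    · simp only [W, if_neg hij]
      obtain ⟨w, hwR, hw, hw0, -⟩ := hU j i
      rw [avg_congr (g := fun z => Complex.normSq (Polynomial.aeval z (D.UP j i))) fun z hz => by
        rw [D.aeval_UP hz, ← D.U_conj z i j, Complex.normSq_conj]]
      exact pow_le_avg_normSq hM hwR (ne_zero_of_not_memI hM (hw0 hi))
        (by rw [D.aeval_UP root_mem, hw])

end CData

end Cfsg.Agent.CycloTrace
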