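import Cfsg.Agent.Lib.SecondMain.Contribution
import Cfsg.Agent.Lib.SecondMain.TwoBounds

/-!
# Major subsections

`blockDefect_eq_of_major`, and translations between `Nat.card`, `finsum` and sums over a block.
-/

set_option autoImplicit false

namespace Cfsg.Agent.SecondMain

open Cfsg Blocks

variable {G : Type*} [Group G] [Finite G] {p : ℕ} {M : Ideal AlgInt}

/-- A major subsection has the defect of the block, and its element is a `p`-element. -/
theorem blockDefect_eq_of_major [Fact p.Prime] (hM : IsPModular p M) {B : Set (IrrCharacter G)}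
    (hB : IsPBlock M B) {D : Subgroup G} (hD : IsDefectGroup p M B D) {z : G} (hzD : z ∈ D)
    (hzc : ∀ d ∈ D, d * z = z * d)
    {b : Set (IrrCharacter ↥(Subgroup.centralizer ({z} : Set G)))}
    (hb : IsPBlock M b)
    (hbD : IsDefectGroup p M b (D.subgroupOf (Subgroup.centralizer ({z} : Set G)))) :
    blockDefect p b = blockDefect p B ∧ ∃ j, orderOf z = p ^ j := by
  refine ⟨?_, ?_⟩
  · have hle : D ≤ Subgroup.centralizer ({z} : Set G) := fun d hd =>
      commute_iff_mem_centralizer_singleton.mpr (hzc d hd).symm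
    have h := Nat.card_congr (Subgroup.subgroupOfEquivOfLe hle).toEquiv
    rw [card_defectGroup hM hb hbD, card_defectGroup hM hB hD] at h
    exact Nat.pow_right_injective (Fact.out (p := p.Prime)).two_le h
  · obtain ⟨k, hk⟩ := IsPGroup.iff_orderOf.mp (isPGroup_defectGroup hM hD) ⟨z, hzD⟩
    exact ⟨k, by rwa [Subgroup.orderOf_mk] at hk⟩

omit [Finite G] in
theorem card_height_zero (B : Set (IrrCharacter G)) [Fintype B] (f : IrrCharacter G → ℕ) :
    Nat.card {χ : IrrCharacter G // χ ∈ B ∧ f χ = 0}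
      = (Finset.univ.filter fun i : B => f i = 0).card := by
  rw [← Fintype.card_subtype, ← Nat.card_eq_fintype_card]
  exact Nat.card_congr ((Equiv.subtypeSubtypeEquivSubtypeInter (· ∈ B) fun χ => f χ = 0).symm)

theorem finsum_height_pos (B : Set (IrrCharacter G)) [Fintype B] (f : IrrCharacter G → ℕ) :
    ∑ᶠ χ ∈ {χ : IrrCharacter G | χ ∈ B ∧ 1 ≤ f χ}, 2 ^ f χ
      = ∑ i ∈ Finset.univ.filter (fun i : B => f i ≠ 0), 2 ^ f i := by
  classical
  have := Fintype.ofFinite (IrrCharacter G)
  rw [finsum_mem_eq_toFinset_sum]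
  refine (Finset.sum_congr ?_ fun _ _ => rfl).trans
    (Finset.sum_map _ (Function.Embedding.subtype (· ∈ B)) (fun χ => 2 ^ f χ))
  ext χ
  simp [Nat.one_le_iff_ne_zero]
  tauto

end Cfsg.Agent.SecondMain
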