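import Cfsg.Agent.Lib.SecondMain.Vanishing
import Cfsg.Agent.Lib.Blocks.NilOmega

/-!
# Brauer's second main theorem

`sum_blockCoeff_mul_eq_zero_of_induced` (the form with the idempotent), `blockPart_eq_sum`,
`blockPart_shift_eq_zero` (the form with sections), and for a `p`-element `x`:
`exists_induced_centralizer`, `induced_unique`.
-/

set_option autoImplicit false

namespace Cfsg.Agent.SecondMain

open Cfsg Blocks

variable {G : Type*} [Group G] [Finite G] {p : ℕ} {M : Ideal AlgInt}

/-- The central character of the restriction of a class function to a subgroup through induced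
central characters. -/
theorem omega_restrict_eq_sum [Fintype (ConjClasses G)] (hM : IsPModular p M) (H : Subgroup G)
    (ξ : IrrCharacter H) {z : G → ℂ} (hz : IsClassFunction G z) :
    omega (ξ : H → ℂ) (fun k : H => z (k : G)) = ∑ q : ConjClasses G,
      z (Quotient.out q) * inducedCentralChar H (ξ : H → ℂ) (Quotient.out q) := by
  classical
  have := Fintype.ofFinite H
  simp only [inducedCentralChar_eq_omega hM, omega_eq_sum, ← mul_div_assoc]
  rw [← Finset.sum_div]
  congr 1
  simp only [Finset.mul_sum]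
  rw [Finset.sum_comm]
  refine Finset.sum_congr rfl fun k _ => ?_
  rw [classFunction_eq_sum_classInd hz (k : G), Finset.sum_mul]
  exact Finset.sum_congr rfl fun q _ => mul_assoc _ _ _

/-- Congruence of the central characters at every integral central element. -/
theorem omega_restrict_congr (hM : IsPModular p M) {H : Subgroup G} {b : Set (IrrCharacter H)}
    {B : Set (IrrCharacter G)} (hind : IsInducedBlock M H b B) {ξ : IrrCharacter H} (hξ : ξ ∈ b)
    {χ : IrrCharacter G} (hχ : χ ∈ B) {z : G → ℂ} (hz : IsClassFunction G z)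
    (hzR : ∀ g, MemLocalRing M (z g)) :
    MemLocalIdeal M (omega (ξ : H → ℂ) (fun k : H => z (k : G)) - omega (χ : G → ℂ) z) := by
  have := Fintype.ofFinite (ConjClasses G)
  rw [omega_restrict_eq_sum hM H ξ hz, omega_eq_sum_classes hz, ← Finset.sum_sub_distrib]
  refine memI_sum hM _ fun q _ => ?_
  rw [← mul_sub]
  exact memI_mul_left hM (hzR _) (hind.2.2 ξ hξ χ hχ _)

/-- The second main theorem in terms of idempotents. -/
theorem sum_blockCoeff_mul_eq_zero_of_induced (hM : IsPModular p M) {H : Subgroup G} [Fintype H]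
    {b : Set (IrrCharacter H)} {B : Set (IrrCharacter G)} (hind : IsInducedBlock M H b B)
    {x y : G} (hx : ∃ k, orderOf x = p ^ k) (hxy : Commute x y) (hy : ¬ p ∣ orderOf y)
    (hC : ∀ g, Commute x g → g ∈ H) {χ : IrrCharacter G} (hχ : χ ∉ B) :
    ∑ k : H, blockCoeff b k * (χ : G → ℂ) ((k : G) * (x * y)) = 0 := by
  let B' : Set (IrrCharacter G) := blockOf M (χ : G → ℂ)
  have hB' : IsPBlock M B' := ⟨χ, rfl⟩
  have hχ' : χ ∈ B' := mem_blockOf_self hM χ
  obtain ⟨ψ, hψ⟩ := isPBlock_nonempty hM hind.2.1
  have hψ' : ψ ∉ B' := fun h => hχ (isPBlock_eq_of_mem hM hind.2.1 hB' hψ h ▸ hχ')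
  refine sum_blockCoeff_mul_eq_zero hM hind.1 hB' (fun ξ hξ => ?_) hx hxy hy hC hχ'
  have h := omega_restrict_congr hM hind hξ hψ (isClassFunction_blockCoeff B')
    (memR_blockCoeff hM hB')
  rw [blockCoeff_eq_ofOmega, omega_ofOmega, blockInd_of_notMem hψ', sub_zero] at h
  rwa [blockCoeff_eq_ofOmega]

/-- The block component of a class function through the block idempotent. -/
theorem blockPart_eq_sum {H : Type*} [Group H] [Finite H] [Fintype H] (b : Set (IrrCharacter H))
    {θ : H → ℂ} (hθ : IsClassFunction H θ) (y : H) :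
    blockPart b θ y = ∑ k, blockCoeff b k * θ (k * y) := by
  classical
  have := Fintype.ofFinite (IrrCharacter H)
  conv_rhs => rw [Char.classFunction_eq_sum hθ]
  simp only [Finset.sum_apply, Pi.smul_apply, smul_eq_mul, Finset.mul_sum, blockCoeff_eq_ofOmega]
  rw [Finset.sum_comm, blockPart, finsum_mem_def, finsum_eq_sum_of_fintype]
  refine Finset.sum_congr rfl fun η _ => ?_
  simp only [mul_left_comm (ofOmega (blockInd b) _)]
  rw [← Finset.mul_sum, sum_mul_apply_mul (isClassFunction_ofOmega (blockInd b)), omega_ofOmega]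
  by_cases h : η ∈ b
  · rw [Set.indicator_of_mem h, blockInd_of_mem h, one_mul]
    congr!
  · rw [Set.indicator_of_notMem h, blockInd_of_notMem h, zero_mul, mul_zero]

/-- The shift of a class function by an element, on the centraliser of that element. -/
theorem isClassFunction_shift {H : Subgroup G} {x : G} (hx : ∀ h ∈ H, Commute x h)
    {χ : G → ℂ} (hχ : IsClassFunction G χ) :
    IsClassFunction H fun c : H => χ (x * (c : G)) := by
  intro c n
  simp only [Subgroup.coe_mul, Subgroup.coe_inv]
  rw [← hχ (x * (c : G)) (n : G)]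
  congr 1
  calc x * ((n : G) * c * (n : G)⁻¹) = x * (n : G) * c * (n : G)⁻¹ := by group
    _ = _ := by rw [(hx n n.2).eq]; group

/-- Brauer's second main theorem, for a subgroup `H` equal to the centraliser of `x`. -/
theorem blockPart_shift_eq_zero (hM : IsPModular p M) {x : G} (hx : ∃ k, orderOf x = p ^ k)
    {H : Subgroup G} (hH : ∀ g, g ∈ H ↔ Commute x g) {b : Set (IrrCharacter H)}
    {B : Set (IrrCharacter G)} (hind : IsInducedBlock M H b B)
    {χ : IrrCharacter G} (hχ : χ ∉ B) {y : H} (hy : ¬ p ∣ orderOf y) :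
    blockPart b (fun c : H => (χ : G → ℂ) (x * (c : G))) y = 0 := by
  have := Fintype.ofFinite H
  rw [blockPart_eq_sum b (isClassFunction_shift (fun h hh => (hH h).mp hh) (irr_class χ)),
    ← sum_blockCoeff_mul_eq_zero_of_induced hM hind hx ((hH y).mp y.2)
      (by rwa [Subgroup.orderOf_coe]) (fun g hg => (hH g).mpr hg) hχ]
  refine Finset.sum_congr rfl fun k _ => ?_
  congr 2
  rw [Subgroup.coe_mul, ← mul_assoc, ((hH k).mp k.2).eq, mul_assoc]

/-- A block of the centraliser of a `p`-element induces at most one block. -/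
theorem induced_unique (hM : IsPModular p M) {H : Subgroup G} {b : Set (IrrCharacter H)}
    {B B' : Set (IrrCharacter G)} (h : IsInducedBlock M H b B) (h' : IsInducedBlock M H b B') :
    B = B' := by
  obtain ⟨ξ, hξ⟩ := isPBlock_nonempty hM h.1
  obtain ⟨χ, hχ⟩ := isPBlock_nonempty hM h.2.1
  obtain ⟨ψ, hψ⟩ := isPBlock_nonempty hM h'.2.1
  have hs : SameBlock M (χ : G → ℂ) (ψ : G → ℂ) := fun g =>
    memI_sub_trans hM (memI_sub_comm (h.2.2 ξ hξ χ hχ g)) (h'.2.2 ξ hξ ψ hψ g)
  have : ψ ∈ B := by
    rw [isPBlock_eq_blockOf hM h.2.1 hχ]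
    exact hs
  exact isPBlock_eq_of_mem hM h.2.1 h'.2.1 this hψ

omit [Finite G] in
theorem commute_iff_mem_centralizer_singleton {x g : G} :
    g ∈ Subgroup.centralizer ({x} : Set G) ↔ Commute x g := by
  rw [Subgroup.mem_centralizer_iff]
  exact ⟨fun h => h x rfl, fun h u hu => by rw [Set.mem_singleton_iff.mp hu]; exact h.eq⟩

theorem brauerPhi_centralizer {x : G} {H : Subgroup G} (hH : ∀ g, g ∈ H ↔ Commute x g)
    (ξ : IrrCharacter H) (c : IrrCharacter G → ℂ) :
    brauerPhi (Subgroup.zpowers x) H ξ c
      = omega (ξ : H → ℂ) (fun k : H => ofOmega c (k : G)) := by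
  rw [brauerPhi]
  congr 1
  funext k
  exact if_pos (mem_centralizer_zpowers_iff.mpr ((hH k).mp k.2))

/-- Every block of the centraliser of a `p`-element induces a block. -/
theorem exists_induced_centralizer (hM : IsPModular p M) {x : G} (hx : ∃ k, orderOf x = p ^ k)
    {H : Subgroup G} (hH : ∀ g, g ∈ H ↔ Commute x g) {b : Set (IrrCharacter H)}
    (hb : IsPBlock M b) : ∃ B, IsInducedBlock M H b B := by
  classical
  haveI : Fact p.Prime := ⟨hM.1⟩
  obtain ⟨ξ₀, hξ₀⟩ := isPBlock_nonempty hM hb
  have hP : IsPGroup p (Subgroup.zpowers x) := by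
    obtain ⟨k, hk⟩ := hx
    exact IsPGroup.of_card (n := k) (by rw [Nat.card_zpowers, hk])
  have hle : Subgroup.centralizer (Subgroup.zpowers x : Set G) ≤ H := fun g hg =>
    (hH g).mpr (mem_centralizer_zpowers_iff.mp hg)
  have hnorm : H ≤ Subgroup.normalizer (Subgroup.zpowers x : Set G) := fun g hg => by
    have hc : g ∈ Subgroup.centralizer (Subgroup.zpowers x : Set G) :=
      mem_centralizer_zpowers_iff.mpr ((hH g).mp hg)
    rw [Subgroup.mem_normalizer_iff]
    intro u
    constructor
    · intro hu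
      rwa [← Subgroup.mem_centralizer_iff.mp hc u hu, mul_inv_cancel_right]
    · intro hu
      have h1 := Subgroup.mem_centralizer_iff.mp hc _ hu
      rw [inv_mul_cancel_right, mul_assoc g] at h1
      have h2 : u = g * u * g⁻¹ := by
        rw [mul_assoc]
        exact mul_left_cancel h1
      rwa [h2]
  obtain ⟨B, hB, -, hcong⟩ := exists_block_brauerPhi hM hP hle hnorm ξ₀
  refine ⟨B, hb, hB, fun ξ hξ χ hχ g => ?_⟩
  have hz : IsClassFunction G (classInd g) := isClassFunction_classInd g
  have h1 := hcong χ hχ _ (classInd_mem_intRing hM g)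
  rw [brauerPhi_centralizer hH, ofOmega_omega hz] at h1
  simp only [omegaFun_classInd] at h1
  refine memI_sub_trans hM ?_ h1
  rw [inducedCentralChar_eq_omega hM]
  let z : H → ℂ := fun k => classInd g (k : G)
  have hz' : IsClassFunction _ z := fun a n => by
    simp only [z, Subgroup.coe_mul, Subgroup.coe_inv]
    exact hz _ _
  exact intRing_congr hM (omega_mem_intRing hM hz' fun k => classInd_mem (locRing hM) g _)
    (sameBlock_of_mem hM hb hξ hξ₀)

end Cfsg.Agent.SecondMain
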