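import Cfsg.Agent.Lib.SecondMain.CycloForm

/-!
# An abstract contribution matrix at roots of unity

`CData`: an integral symmetric matrix `C` with `C² = K C` and monomial vectors with
`Y* Y = K C` for `Y = A C`.  `U = A C A*` then satisfies `U² = K U` at every primitive root.
-/

set_option autoImplicit false

open scoped ComplexConjugate

namespace Cfsg.Agent.CycloTrace

open Polynomial Finset

/-- The data of a contribution matrix. -/
structure CData (p n K : ℕ) (ι κ : Type*) [Fintype ι] [Fintype κ] where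
  C : κ → κ → ℤ
  m : ι → κ → ℤ
  e : ι → κ → ℕ
  K_pos : 0 < K
  sym : ∀ a c, C a c = C c a
  sq : ∀ a c, ∑ k, C a k * C k c = (K : ℤ) * C a c
  orth : ∀ a c, ∑ χ, (∑ k, (m χ k : ℂ) * root p n ^ e χ k * (C k a : ℂ)) *
    conj (∑ k, (m χ k : ℂ) * root p n ^ e χ k * (C k c : ℂ)) = (K : ℂ) * (C a c : ℂ)

namespace CData

variable {p n K : ℕ} [Fact p.Prime] {ι κ : Type*} [Fintype ι] [Fintype κ] (D : CData p n K ι κ)

/-- The coordinates. -/
noncomputable def co (z : ℂ) (χ : ι) (a : κ) : ℂ := (D.m χ a : ℂ) * z ^ D.e χ a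

/-- The coordinates times the matrix. -/
noncomputable def y (z : ℂ) (χ : ι) (a : κ) : ℂ := ∑ k, D.co z χ k * (D.C k a : ℂ)

/-- The contributions. -/
noncomputable def U (z : ℂ) (χ ψ : ι) : ℂ := ∑ a, D.y z χ a * conj (D.co z ψ a)

/-- A polynomial with the value `y`. -/
noncomputable def yP (χ : ι) (a : κ) : ℤ[X] :=
  ∑ k, Polynomial.C (D.m χ k * D.C k a) * X ^ D.e χ k

/-- A polynomial with the value `U`. -/
noncomputable def UP (χ ψ : ι) : ℤ[X] :=
  ∑ a, D.yP χ a * (Polynomial.C (D.m ψ a) * X ^ D.e ψ a).comp (X ^ (p ^ (n + 1) - 1))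

omit [Fact p.Prime] in
theorem aeval_yP (z : ℂ) (χ : ι) (a : κ) : aeval z (D.yP χ a) = D.y z χ a := by
  simp only [yP, y, co, map_sum, map_mul, aeval_C, map_pow, aeval_X, algebraMap_int_eq, eq_intCast,
    map_intCast, Int.cast_mul]
  exact sum_congr rfl fun k _ => by ring

theorem aeval_UP {z : ℂ} (hz : z ∈ prim p n) (χ ψ : ι) : aeval z (D.UP χ ψ) = D.U z χ ψ := by
  simp only [UP, U, map_sum, map_mul, D.aeval_yP]
  refine sum_congr rfl fun a _ => ?_
  rw [← conj_aeval (mem_prim.mp hz)]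
  simp [co]

theorem orth_at {z : ℂ} (hz : z ∈ prim p n) (a c : κ) :
    ∑ χ, D.y z χ a * conj (D.y z χ c) = (K : ℂ) * (D.C a c : ℂ) := by
  have h := aeval_eq (P := ∑ χ, D.yP χ a * (D.yP χ c).comp (X ^ (p ^ (n + 1) - 1)))
    (Q := Polynomial.C ((K : ℤ) * D.C a c)) ?_ hz
  · simp only [map_sum, map_mul, aeval_C, ← conj_aeval (mem_prim.mp hz), D.aeval_yP] at h
    simpa using h
  · simp only [map_sum, map_mul, aeval_C, ← conj_aeval (isPrimitiveRoot_root (p := p) (n := n)),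
      D.aeval_yP]
    simpa [y, co] using D.orth a c

omit [Fact p.Prime] in
theorem y_C (z : ℂ) (χ : ι) (c : κ) :
    ∑ a, D.y z χ a * (D.C a c : ℂ) = (K : ℂ) * D.y z χ c := by
  simp only [y, sum_mul, mul_sum]
  rw [sum_comm]
  refine sum_congr rfl fun k _ => ?_
  have h : ∑ a, (D.C k a : ℂ) * (D.C a c : ℂ) = (K : ℂ) * (D.C k c : ℂ) := by
    exact_mod_cast D.sq k c
  rw [show (∑ a, D.co z χ k * (D.C k a : ℂ) * (D.C a c : ℂ))
    = D.co z χ k * ∑ a, (D.C k a : ℂ) * (D.C a c : ℂ) by rw [mul_sum]; simp only [mul_assoc], h]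
  ring

omit [Fact p.Prime] in
theorem K_mul_U (z : ℂ) (χ ψ : ι) :
    (K : ℂ) * D.U z χ ψ = ∑ a, D.y z χ a * conj (D.y z ψ a) := by
  rw [U, mul_sum]
  calc ∑ a, (K : ℂ) * (D.y z χ a * conj (D.co z ψ a))
      = ∑ a, (∑ k, D.y z χ k * (D.C k a : ℂ)) * conj (D.co z ψ a) :=
        sum_congr rfl fun a _ => by rw [D.y_C]; ring
    _ = _ := by
      simp only [sum_mul]
      rw [sum_comm]
      refine sum_congr rfl fun k _ => ?_
      rw [show conj (D.y z ψ k) = ∑ a, conj (D.co z ψ a * (D.C a k : ℂ)) from map_sum _ _ _, mul_sum]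
      exact sum_congr rfl fun a _ => by rw [map_mul, map_intCast, D.sym k a]; ring

include D in
omit [Fact p.Prime] in
theorem K_ne_zero : (K : ℂ) ≠ 0 := Nat.cast_ne_zero.mpr D.K_pos.ne'

omit [Fact p.Prime] in
theorem U_conj (z : ℂ) (χ ψ : ι) : conj (D.U z χ ψ) = D.U z ψ χ := by
  refine mul_left_cancel₀ D.K_ne_zero ?_
  rw [← Complex.conj_natCast K, ← map_mul, D.K_mul_U, Complex.conj_natCast, D.K_mul_U, map_sum]
  exact sum_congr rfl fun a _ => by rw [map_mul, Complex.conj_conj, mul_comm]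

theorem U_sq {z : ℂ} (hz : z ∈ prim p n) (χ ψ : ι) :
    ∑ φ, D.U z χ φ * D.U z φ ψ = (K : ℂ) * D.U z χ ψ := by
  refine mul_left_cancel₀ D.K_ne_zero (mul_left_cancel₀ D.K_ne_zero ?_)
  calc (K : ℂ) * ((K : ℂ) * ∑ φ, D.U z χ φ * D.U z φ ψ)
      = ∑ φ, ((K : ℂ) * D.U z χ φ) * ((K : ℂ) * D.U z φ ψ) := by
        rw [mul_sum, mul_sum]; exact sum_congr rfl fun φ _ => by ring
    _ = ∑ a, ∑ c, (D.y z χ a * conj (D.y z ψ c)) *
          ∑ φ, D.y z φ c * conj (D.y z φ a) := by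
        simp only [D.K_mul_U, sum_mul_sum]
        simp only [mul_sum]
        rw [sum_comm]
        refine sum_congr rfl fun a _ => ?_
        rw [sum_comm]
        exact sum_congr rfl fun c _ => sum_congr rfl fun φ _ => by ring
    _ = ∑ a, ∑ c, (D.y z χ a * conj (D.y z ψ c)) * ((K : ℂ) * (D.C a c : ℂ)) := by
        refine sum_congr rfl fun a _ => sum_congr rfl fun c _ => ?_
        rw [D.orth_at hz, D.sym c a]
    _ = (K : ℂ) * ∑ c, (∑ a, D.y z χ a * (D.C a c : ℂ)) * conj (D.y z ψ c) := by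
        rw [sum_comm]
        simp only [mul_sum, sum_mul]
        exact sum_congr rfl fun c _ => sum_congr rfl fun a _ => by ring
    _ = _ := by
        simp only [D.y_C, mul_assoc, ← mul_sum, D.K_mul_U]

omit [Fact p.Prime] in
theorem U_im (z : ℂ) (χ : ι) : (D.U z χ χ).im = 0 := Complex.conj_eq_iff_im.mp (D.U_conj z χ χ)

/-- The rows. -/
theorem sum_normSq {z : ℂ} (hz : z ∈ prim p n) (χ : ι) :
    ∑ ψ, Complex.normSq (D.U z χ ψ) = (K : ℝ) * (D.U z χ χ).re := by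
  have h := congrArg Complex.re (D.U_sq hz χ χ)
  rw [Complex.re_sum, sum_congr rfl fun φ _ => show (D.U z χ φ * D.U z φ χ).re
      = Complex.normSq (D.U z χ φ) by rw [← D.U_conj z χ φ, Complex.mul_conj, Complex.ofReal_re],
    Complex.mul_re, Complex.natCast_re, Complex.natCast_im, zero_mul, sub_zero] at h
  exact h

theorem U_re_nonneg {z : ℂ} (hz : z ∈ prim p n) (χ : ι) : 0 ≤ (D.U z χ χ).re :=
  nonneg_of_mul_nonneg_right ((sum_nonneg fun ψ _ => Complex.normSq_nonneg _).trans_eq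
    (D.sum_normSq hz χ)) (Nat.cast_pos.mpr D.K_pos)

theorem U_re_pos {z : ℂ} (hz : z ∈ prim p n) {χ ψ : ι}
    (h : D.U (root p n) χ ψ ≠ 0) : 0 < (D.U z χ χ).re := by
  have h1 : aeval z (D.UP χ ψ) ≠ 0 := aeval_ne_zero (by rwa [D.aeval_UP root_mem]) hz
  rw [D.aeval_UP hz] at h1
  refine pos_of_mul_pos_right ((Complex.normSq_pos.mpr h1).trans_le ?_) (Nat.cast_nonneg K)
  rw [← D.sum_normSq hz]
  exact single_le_sum (f := fun φ => Complex.normSq (D.U z χ φ))
    (fun φ _ => Complex.normSq_nonneg _) (mem_univ ψ)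

theorem trace {z : ℂ} (hz : z ∈ prim p n) : ∑ χ, D.U z χ χ = ∑ a, (D.C a a : ℂ) := by
  refine mul_left_cancel₀ D.K_ne_zero ?_
  simp only [mul_sum, D.K_mul_U]
  rw [sum_comm]
  exact sum_congr rfl fun a _ => D.orth_at hz a a

omit [Fact p.Prime] in
theorem U_eq_val (z : ℂ) (χ : ι) : D.U z χ χ = val D.C (D.m χ) (D.e χ) z := by
  simp only [U, y, co, val, sum_mul]
  rw [sum_comm]

end CData

end Cfsg.Agent.CycloTrace
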