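import Cfsg.Agent.Lib.SecondMain.Heights
import Cfsg.Agent.Lib.SecondMain.Support
import Cfsg.Agent.Lib.SecondMain.CycloData
import Cfsg.Agent.Lib.RegPart.Contribution

/-!
# The contribution matrix of a subsection

`memR_localCol` (the class functions carrying a column of local scalar products have local integral
values), `exists_monomial` (the coordinates of `χ (x c)` on `C(x)` are monomials in a root of unity)
and `exists_contrib` (the matrix of a subsection as a `CData`, with its congruences).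
-/

set_option autoImplicit false

open scoped ComplexConjugate

namespace Cfsg.Agent.SecondMain

open Cfsg Blocks CycloTrace

variable {G : Type*} [Group G] [Fintype G] {p : ℕ} {M : Ideal AlgInt} {x : G} {H : Subgroup G}
  [Fintype H] {B : Set (IrrCharacter G)} {b : Set (IrrCharacter H)}

omit [Fintype G] in
theorem regInner_eq_sum_block (hM : IsPModular p M) (hb : IsPBlock M b) [Fintype b] {θ : H → ℂ}
    (hθ : IsClassFunction H θ) {η : IrrCharacter H} (hη : η ∈ b) :
    regInner p θ (η : H → ℂ) = ∑ η' : b, classInner θ ((η' : IrrCharacter H) : H → ℂ) *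
      regInner p ((η' : IrrCharacter H) : H → ℂ) (η : H → ℂ) := by
  classical
  have := Fintype.ofFinite (IrrCharacter H)
  have h1 : regInner p θ (η : H → ℂ) = ∑ η' : IrrCharacter H,
      classInner θ (η' : H → ℂ) * regInner p (η' : H → ℂ) (η : H → ℂ) := by
    conv_lhs => rw [Char.classFunction_eq_sum hθ]
    simp only [regInner_eq_sum, Finset.sum_apply, Pi.smul_apply, smul_eq_mul, Finset.mul_sum,
      Finset.sum_mul]
    rw [Finset.sum_comm]
    exact Finset.sum_congr rfl fun η' _ => Finset.sum_congr rfl fun g _ => by ring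
  rw [h1, ← Finset.sum_subset (Finset.subset_univ b.toFinset) fun η' _ hη' => ?_,
    ← Finset.sum_subtype b.toFinset (fun a => Set.mem_toFinset) fun η' : IrrCharacter H =>
      classInner θ (η' : H → ℂ) * regInner p (η' : H → ℂ) (η : H → ℂ)]
  rw [← conj_regInner, regInner_eq_zero hM hb hη fun h => hη' (Set.mem_toFinset.mpr h), map_zero,
    mul_zero]

/-- The class function with central characters the scaled local scalar products at `η`. -/
noncomputable def localCol (p : ℕ) (x : G) (B : Set (IrrCharacter G)) (η : IrrCharacter H) (g : G) :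
    ℂ :=
  ∑ᶠ φ ∈ B, regInner p (fun c : H => (φ : G → ℂ) (x * (c : G))) (η : H → ℂ) *
    conj ((φ : G → ℂ) g)

theorem isClassFunction_localCol (η : IrrCharacter H) :
    IsClassFunction G (localCol p x B η) := fun g h => by
  simp only [localCol, irr_class _ g h]

theorem memR_localCol (hM : IsPModular p M) (hx : ∃ k, orderOf x = p ^ k)
    (hH : ∀ g, g ∈ H ↔ Commute x g) (hB : IsPBlock M B) (hb : IsInducedBlock M H b B)
    {η : IrrCharacter H} (hη : η ∈ b) (g : G) : MemLocalRing M (localCol p x B η g) := by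
  classical
  haveI : Fact p.Prime := ⟨hM.1⟩
  have := Fintype.ofFinite (IrrCharacter G)
  have := Fintype.ofFinite (IrrCharacter H)
  let F : Finset H := Finset.univ.filter fun c => ¬ p ∣ orderOf c
  have h1 : localCol p x B η g = (Nat.card H : ℂ)⁻¹ *
      ∑ c ∈ F, conj ((η : H → ℂ) c) * colSum B (x * (c : G)) g := by
    simp only [localCol, colSum, finsum_mem_eq_toFinset_sum, regInner_eq_sum, Finset.mul_sum,
      Finset.sum_mul]
    rw [Finset.sum_comm]
    exact Finset.sum_congr rfl fun c _ => Finset.sum_congr rfl fun φ _ => by ring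
  obtain ⟨a, t, hab, hma, hmt, hak, htc⟩ := Transfer.exists_pPart_mul (p := p) g
  have ht : ¬ p ∣ orderOf t := hM.1.coprime_iff_not_dvd.mp htc.symm
  have hat : Commute a t := by
    obtain ⟨i, rfl⟩ := Subgroup.mem_zpowers_iff.mp hma
    obtain ⟨j, rfl⟩ := Subgroup.mem_zpowers_iff.mp hmt
    exact (Commute.refl g).zpow_zpow i j
  by_cases hconj : IsConj x a
  · obtain ⟨d, hd⟩ := isConj_iff.mp hconj
    have hcomm : Commute x (d⁻¹ * t * d) := by
      have h2 := hat.map (MulAut.conj d⁻¹).toMonoidHom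
      simp only [MulEquiv.coe_toMonoidHom, MulAut.conj_apply, inv_inv] at h2
      rwa [← hd, show d⁻¹ * (d * x * d⁻¹) * d = x by group] at h2
    set s : H := ⟨d⁻¹ * t * d, (hH _).mpr hcomm⟩
    have hs : ¬ p ∣ orderOf s := by
      have h3 := orderOf_conj d⁻¹ t
      rw [inv_inv] at h3
      rw [← Subgroup.orderOf_coe]
      exact h3.symm ▸ ht
    have hg : ∀ φ : IrrCharacter G, (φ : G → ℂ) g = (φ : G → ℂ) (x * (s : G)) := fun φ => by
      rw [show g = d * (x * (s : G)) * d⁻¹ by
        rw [hab, ← hd]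
        show _ = d * (x * (d⁻¹ * t * d)) * d⁻¹
        group]
      exact irr_class φ (x * (s : G)) d
    have h2 : localCol p x B η g = conj ((η : H → ℂ) s) := by
      rw [h1]
      have hcol : ∀ c ∈ F, colSum B (x * (c : G)) g
          = ∑ᶠ ζ ∈ ⋃₀ inducedSet M H B, (ζ : H → ℂ) c * conj ((ζ : H → ℂ) s) := fun c hc => by
        rw [show colSum B (x * (c : G)) g = colSum B (x * (c : G)) (x * (s : G)) by
          simp only [colSum, hg], colSum_eq_sum hM hB hx hH (Finset.mem_filter.mp hc).2 hs]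
        exact finsum_blocks_eq hM (fun u hu => hu.1) _
      rw [Finset.sum_congr rfl fun c hc => by rw [hcol c hc]]
      have h3 : (Nat.card H : ℂ)⁻¹ * ∑ c ∈ F, conj ((η : H → ℂ) c) *
            ∑ᶠ ζ ∈ ⋃₀ inducedSet M H B, (ζ : H → ℂ) c * conj ((ζ : H → ℂ) s)
          = ∑ ζ ∈ (⋃₀ inducedSet M H B).toFinset,
              regInner p (ζ : H → ℂ) (η : H → ℂ) * conj ((ζ : H → ℂ) s) := by
        simp only [regInner_eq_sum, finsum_mem_eq_toFinset_sum, Finset.mul_sum, Finset.sum_mul]
        rw [Finset.sum_comm]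
        exact Finset.sum_congr rfl fun ζ _ => Finset.sum_congr rfl fun c _ => by ring
      have h4 : (η : H → ℂ) s = ∑ ζ ∈ b.toFinset,
          regInner p (η : H → ℂ) (ζ : H → ℂ) * (ζ : H → ℂ) s := by
        have h := congrFun (BrauerPairs.pRegularPart_eq_sum hM hb.1 hη) s
        rw [pRegularPart_of_regular hs, Finset.sum_apply] at h
        exact h
      rw [h3, h4, map_sum]
      simp only [map_mul, conj_regInner]
      refine (Finset.sum_subset ?_ fun ζ _ hζ => ?_).symm
      · intro ζ hζ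
        exact Set.mem_toFinset.mpr ⟨b, hb, Set.mem_toFinset.mp hζ⟩
      · rw [← conj_regInner, regInner_eq_zero hM hb.1 hη fun h => hζ (Set.mem_toFinset.mpr h),
          map_zero, zero_mul]
    rw [h2]
    exact memR_of_isIntegral hM
      ((isIntegral_irr η s).map ((starRingEnd ℂ).toIntAlgHom : ℂ →ₐ[ℤ] ℂ))
  · rw [h1, Finset.sum_eq_zero fun c hc => ?_, mul_zero]
    · exact memR_zero hM
    · rw [hab, colSum_eq_zero hM hB hx hak (by rw [Subgroup.orderOf_coe]; exact (Finset.mem_filter.mp hc).2)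
        ht ((hH c).mp c.2) hat hconj, mul_zero]

theorem omega_localCol (η : IrrCharacter H) {χ : IrrCharacter G} (hχ : χ ∈ B) :
    omega (χ : G → ℂ) (localCol p x B η) = (Nat.card G : ℂ) / (χ : G → ℂ) 1 *
      regInner p (fun c : H => (χ : G → ℂ) (x * (c : G))) (η : H → ℂ) := by
  classical
  have := Fintype.ofFinite (IrrCharacter G)
  set r := fun φ : IrrCharacter G => regInner p (fun c : H => (φ : G → ℂ) (x * (c : G))) (η : H → ℂ)
  rw [omega_eq_sum]
  have h : ∑ g, localCol p x B η g * (χ : G → ℂ) g = (Nat.card G : ℂ) * r χ := by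
    simp only [localCol, finsum_mem_eq_toFinset_sum, Finset.sum_mul]
    rw [Finset.sum_comm, Finset.sum_eq_single χ]
    · rw [show (∑ g, r χ * conj ((χ : G → ℂ) g) * (χ : G → ℂ) g)
        = r χ * ∑ g, (χ : G → ℂ) g * conj ((χ : G → ℂ) g) by
          rw [Finset.mul_sum]; exact Finset.sum_congr rfl fun g _ => by ring,
        ← Char.card_mul_classInner, Char.classInner_irr_self χ.2]
      ring
    · intro φ _ hφ
      rw [show (∑ g, r φ * conj ((φ : G → ℂ) g) * (χ : G → ℂ) g)
        = r φ * ∑ g, (χ : G → ℂ) g * conj ((φ : G → ℂ) g) by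
          rw [Finset.mul_sum]; exact Finset.sum_congr rfl fun g _ => by ring,
        ← Char.card_mul_classInner,
        Char.classInner_irr_of_ne χ.2 φ.2 fun e => hφ (Subtype.ext e).symm]
      ring
    · exact fun h => absurd (Set.mem_toFinset.mpr hχ) h
  rw [h, mul_div_right_comm]

/-- The coordinates of a shifted character are monomials in a root of unity. -/
theorem exists_monomial [Fact p.Prime] {n : ℕ} (hn : orderOf x ∣ p ^ (n + 1))
    (hH : ∀ g, g ∈ H ↔ Commute x g) (χ : IrrCharacter G) (η : IrrCharacter H) :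
    ∃ m e : ℕ, classInner (fun c : H => (χ : G → ℂ) c) (η : H → ℂ) = m ∧
      classInner (fun c : H => (χ : G → ℂ) (x * (c : G))) (η : H → ℂ) = (m : ℂ) * root p n ^ e := by
  classical
  have := Fintype.ofFinite (IrrCharacter H)
  let x' : H := ⟨x, (hH x).mpr (Commute.refl x)⟩
  have hz : x' ∈ Subgroup.center H :=
    Subgroup.mem_center_iff.mpr fun g => Subtype.ext ((hH g).mp g.2).eq.symm
  choose c hc1 hc using fun η : IrrCharacter H => exists_central_scalar hz η
  obtain ⟨m, hdec, hm⟩ := Char.IsCharacter.decompose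
    (Char.IsCharacter.restrict (Char.IsIrrCharacter.isCharacter χ.2) H)
  have hshift : (fun k : H => (χ : G → ℂ) (x * (k : G)))
      = ∑ φ : IrrCharacter H, ((m φ : ℂ) * c φ) • (φ : H → ℂ) := by
    funext k
    have h := congrFun hdec (x' * k)
    simp only [Finset.sum_apply, Pi.smul_apply, smul_eq_mul, Subgroup.coe_mul] at h ⊢
    rw [h]
    exact Finset.sum_congr rfl fun φ _ => by rw [hc φ k]; ring
  have hpow : c η ^ p ^ (n + 1) = 1 := by
    obtain ⟨k, hk⟩ := hn
    rw [hk, pow_mul, ← Subgroup.orderOf_mk x ((hH x).mpr (Commute.refl x)), hc1, one_pow]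
  obtain ⟨i, -, hi⟩ := (isPrimitiveRoot_root (p := p) (n := n)).eq_pow_of_pow_eq_one hpow
  refine ⟨m η, i, hm η, ?_⟩
  rw [hshift, Char.classInner_sum_smul _ _ η (Finset.mem_univ η), hi]

/-- The contribution matrix of a subsection. -/
theorem exists_contrib_eq [Fact p.Prime] (hM : IsPModular p M) {n : ℕ} (hn : orderOf x ∣ p ^ (n + 1))
    (hH : ∀ g, g ∈ H ↔ Commute x g) (hB : IsPBlock M B) (hb : IsInducedBlock M H b B)
    [Fintype B] [Fintype b] :
    ∃ D : CData p n (p ^ blockDefect p b) B b,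
      (∀ a c : b, (D.C a c : ℂ) = (p : ℂ) ^ blockDefect p b *
        regInner p ((a : IrrCharacter H) : H → ℂ) ((c : IrrCharacter H) : H → ℂ)) ∧
      ∑ a, D.C a a = ((p ^ blockDefect p b * blockRank p b : ℕ) : ℤ) ∧
      (∀ a a' c c', (p : ℤ) ∣ D.C a a' * D.C c c' - D.C a c' * D.C c a') ∧
      (∀ χ ψ : B, blockHeight p B ((χ : IrrCharacter G) : G → ℂ) = 0 →
        blockHeight p B ((ψ : IrrCharacter G) : G → ℂ) = 0 →
        ¬ MemLocalIdeal M (D.U (root p n) χ ψ)) ∧
      (blockDefect p b = blockDefect p B → ∀ χ ψ : B, ∃ w : ℂ, MemLocalRing M w ∧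
        D.U (root p n) χ ψ = (p : ℂ) ^ blockHeight p B ((χ : IrrCharacter G) : G → ℂ) * w ∧
        (blockHeight p B ((ψ : IrrCharacter G) : G → ℂ) = 0 → ¬ MemLocalIdeal M w) ∧
        (ψ = χ → blockHeight p B ((χ : IrrCharacter G) : G → ℂ) ≠ 0 → MemLocalIdeal M w)) := by
  classical
  have := Fintype.ofFinite (IrrCharacter G)
  have := Fintype.ofFinite (IrrCharacter H)
  have hx : ∃ k, orderOf x = p ^ k := by
    obtain ⟨k, -, hk⟩ := (Nat.dvd_prime_pow hM.1).mp hn
    exact ⟨k, hk⟩
  set δ := blockDefect p b with hδ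
  set ζ := root p n with hζ
  obtain ⟨C, hC, hCsym, -, -⟩ := RegPart.exists_contribution hM hb.1
  have hCr : ∀ a c : b, (C a c : ℂ) =
      (p : ℂ) ^ δ * regInner p ((a : IrrCharacter H) : H → ℂ) ((c : IrrCharacter H) : H → ℂ) :=
    fun a c => (hC a c).symm
  choose m e hm he using fun (χ : B) (a : b) => exists_monomial (p := p) hn hH
    (χ : IrrCharacter G) (a : IrrCharacter H)
  have hsq : ∀ a c : b, ∑ k, C a k * C k c = ((p ^ δ : ℕ) : ℤ) * C a c := by
    intro a c
    have h := regInner_idem hM hb.1 a.2 ((c : IrrCharacter H) : H → ℂ)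
    rw [finsum_mem_eq_toFinset_sum, Finset.sum_subtype b.toFinset (fun _ => Set.mem_toFinset)] at h
    have h2 : ((∑ k, C a k * C k c : ℤ) : ℂ) = ((((p ^ δ : ℕ) : ℤ) * C a c : ℤ) : ℂ) := by
      simp only [Int.cast_sum, Int.cast_mul, Int.cast_natCast, Nat.cast_pow, Int.cast_pow, hCr, ← h, Finset.mul_sum]
      exact Finset.sum_congr rfl fun k _ => by ring
    exact_mod_cast h2
  have hθ : ∀ χ : IrrCharacter G, IsClassFunction H fun k : H => (χ : G → ℂ) (x * (k : G)) :=
    fun χ => isClassFunction_shift (fun h hh => (hH h).mp hh) (irr_class χ)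
  -- the coordinates times the matrix are the scaled scalar products
  have hy : ∀ (χ : B) (a : b), ∑ k, ((m χ k : ℤ) : ℂ) * ζ ^ e χ k * (C k a : ℂ) =
      (p : ℂ) ^ δ * regInner p (fun k : H => ((χ : IrrCharacter G) : G → ℂ) (x * (k : G)))
        ((a : IrrCharacter H) : H → ℂ) := fun χ a => by
    rw [regInner_eq_sum_block hM hb.1 (hθ χ) a.2, Finset.mul_sum]
    refine Finset.sum_congr rfl fun k _ => ?_
    rw [Int.cast_natCast, hCr, he χ k]
    ring
  have horth : ∀ a c : b, ∑ χ : B, (∑ k, ((m χ k : ℤ) : ℂ) * ζ ^ e χ k * (C k a : ℂ)) *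
      conj (∑ k, ((m χ k : ℤ) : ℂ) * ζ ^ e χ k * (C k c : ℂ))
        = ((p ^ δ : ℕ) : ℂ) * (C a c : ℂ) := fun a c => by
    have h := sum_shift_inner_mul hM hx hH hB hb a.2 c.2
    rw [finsum_mem_eq_toFinset_sum, Finset.sum_subtype B.toFinset (fun _ => Set.mem_toFinset)] at h
    simp only [hy]
    rw [hCsym a c, hCr, ← h, Nat.cast_pow, Finset.mul_sum, Finset.mul_sum]
    refine Finset.sum_congr rfl fun χ _ => ?_
    rw [map_mul, map_pow, Complex.conj_natCast]
    ring
  let D : CData p n (p ^ δ) B b := ⟨C, fun χ a => (m χ a : ℤ), e, pow_pos hM.1.pos _, hCsym, hsq, horth⟩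
  have hDy : ∀ (χ : B) (a : b), D.y ζ χ a = (p : ℂ) ^ δ * regInner p
      (fun k : H => ((χ : IrrCharacter G) : G → ℂ) (x * (k : G))) ((a : IrrCharacter H) : H → ℂ) :=
    fun χ a => hy χ a
  have hrank : ∀ a a' c c', (p : ℤ) ∣ C a a' * C c c' - C a c' * C c a' := by
    intro a a' c c'
    let W : b → b → ℂ := fun a c =>
      omega ((a : IrrCharacter H) : H → ℂ) (regConj p ((c : IrrCharacter H) : H → ℂ))
    have hWR : ∀ a c, MemLocalRing M (W a c) := fun a c =>
      memR_omega hM (isClassFunction_regConj (irr_class _)) (memR_regConj hM _) _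
    have hW : ∀ a a' c : b, MemLocalIdeal M (W a c - W a' c) := fun a a' c =>
      intRing_congr hM (omega_mem_intRing hM (isClassFunction_regConj (irr_class _)) (memR_regConj hM _))
        (sameBlock_of_mem hM hb.1 a.2 a'.2)
    have hfac : ∀ a : b, ∃ f, MemLocalRing M f ∧ ∀ c : b, (C a c : ℂ) = f * W a c := fun a => by
      obtain ⟨q, r, -, hr, h⟩ := exists_degree_eq (p := p) hM.1 a.2
      refine ⟨_, memR_mul hM (memR_mul hM (memR_pow hM (memR_natCast hM p)
        (blockHeight p b ((a : IrrCharacter H) : H → ℂ))) (memR_natCast hM q))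
        (memR_natCast_inv hM hr), fun c => ?_⟩
      rw [hCr, ← h]
      simp only [W, omega_regConj, hδ]
      have := irr_one_ne_zero (a : IrrCharacter H)
      have := card_ne_zero_C (G := H)
      field_simp
    choose f hfR hf using hfac
    refine (RegPart.memI_intCast_iff hM).mp ?_
    push_cast
    rw [hf, hf, hf, hf, show f a * W a a' * (f c * W c c') - f a * W a c' * (f c * W c a')
      = f a * f c * (W a a' * (W c c' - W a c') + W a c' * (W a a' - W c a')) by ring]
    exact memI_mul_left hM (memR_mul hM (hfR a) (hfR c)) (memI_add hM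
      (memI_mul_left hM (hWR a a') (hW c a c')) (memI_mul_left hM (hWR a c') (hW a c a')))
  have heval : ∀ χ ψ : B, MemLocalIdeal M (D.U ζ χ ψ - ((∑ a, (∑ k, (m χ k : ℤ) * C k a) * (m ψ a : ℤ) : ℤ) : ℂ)) := by
    intro χ ψ
    have h := memI_aeval_sub_eval hM (D.UP χ ψ) (n := n)
    rw [D.aeval_UP root_mem] at h
    convert h using 4
    simp [CData.UP, CData.yP, Polynomial.eval_finsetSum, Polynomial.eval_comp, D]
  have hunit : ∀ χ ψ : B, blockHeight p B ((χ : IrrCharacter G) : G → ℂ) = 0 →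
      blockHeight p B ((ψ : IrrCharacter G) : G → ℂ) = 0 → ¬ MemLocalIdeal M (D.U ζ χ ψ) := by
    intro χ ψ hχ0 hψ0 hI
    obtain ⟨η₀, hη₀, h00⟩ := exists_height_zero hM hb.1
    set a₀ : b := ⟨η₀, hη₀⟩
    let X : B → ℤ := fun χ => ∑ k, (m χ k : ℤ) * C k a₀
    have hX : ∀ χ : B, blockHeight p B ((χ : IrrCharacter G) : G → ℂ) = 0 → ¬ (p : ℤ) ∣ X χ := by
      intro χ hχ hd
      have e1 : (X χ : ℂ) = (p : ℂ) ^ δ * regInner p
          (fun k : H => ((χ : IrrCharacter G) : G → ℂ) k) (η₀ : H → ℂ) := by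
        rw [regInner_eq_sum_block hM hb.1 (fun g h => by
          simp only [Subgroup.coe_mul, Subgroup.coe_inv, irr_class _ (g : G) (h : G)]) hη₀]
        simp only [X, Int.cast_sum, Int.cast_mul, Int.cast_natCast, hCr, Finset.mul_sum, hm]
        exact Finset.sum_congr rfl fun k _ => by ring
      have e2 : (X χ : ℂ) = (p : ℂ) ^ δ * regInner p (η₀ : H → ℂ)
          (fun k : H => ((χ : IrrCharacter G) : G → ℂ) k) := by
        rw [← map_intCast (starRingEnd ℂ) (X χ), e1, map_mul, map_pow, Complex.conj_natCast, conj_regInner]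
      obtain ⟨q, r, hq, hr, hdeg⟩ := exists_degree_eq (p := p) hM.1 hη₀
      rw [h00, pow_zero, one_mul] at hdeg
      have hq0 : ¬ MemLocalIdeal M ((q : ℂ) * (r : ℂ)⁻¹) := fun h => by
        have h1 := memI_mul_right hM h (memR_natCast hM r)
        rw [mul_assoc, inv_mul_cancel₀ ((Nat.cast_ne_zero.mpr fun h0 : r = 0 => hr (h0 ▸ dvd_zero p)) : (r : ℂ) ≠ 0),
          mul_one] at h1
        exact hq ((memI_natCast hM).mp h1)
      set z := regConj p ((χ : IrrCharacter G) : G → ℂ) with hz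
      have hres : (fun k : H => z (k : G))
          = regConj p (fun k : H => ((χ : IrrCharacter G) : G → ℂ) k) := by
        funext k
        by_cases hk : p ∣ orderOf k
        · rw [hz, regConj, regConj, pRegularPart_of_singular hk,
            pRegularPart_of_singular (by rwa [Subgroup.orderOf_coe])]
        · rw [hz, regConj, regConj, pRegularPart_of_regular hk,
            pRegularPart_of_regular (by rwa [Subgroup.orderOf_coe])]
      have e3 : (X χ : ℂ) = (q : ℂ) * (r : ℂ)⁻¹ * omega (η₀ : H → ℂ) (fun k : H => z (k : G)) := by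
        rw [e2, hres, omega_regConj, ← hdeg, hδ]
        have := irr_one_ne_zero η₀
        have := card_ne_zero_C (G := H)
        field_simp
      have hcong := omega_restrict_congr hM hb hη₀ χ.2
        (isClassFunction_regConj (p := p) (irr_class (χ : IrrCharacter G))) (memR_regConj hM _)
      have hu : ¬ MemLocalIdeal M (omega (η₀ : H → ℂ) (fun k : H => z (k : G))) := fun h =>
        omega_regConj_not_memI hM hB χ.2 χ.2 hχ ((memI_iff_of_sub hM hcong).mp h)
      refine not_memI_mul hM (memR_mul hM (memR_natCast hM q) (memR_natCast_inv hM hr))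
        (memR_omega hM (fun g h => by
          simp only [hz, Subgroup.coe_mul, Subgroup.coe_inv]
          exact isClassFunction_regConj (p := p) (irr_class (χ : IrrCharacter G)) _ _)
          (fun k => memR_regConj hM _ _) η₀) hq0 hu ?_
      rw [← e3]
      exact memI_intCast hM hd
    have hS := (RegPart.memI_intCast_iff hM).mp ((memI_iff_of_sub hM (heval χ ψ)).mp hI)
    have h2 : (p : ℤ) ∣ (∑ a, (∑ k, (m χ k : ℤ) * C k a) * (m ψ a : ℤ)) * C a₀ a₀ - X χ * X ψ := by
      simp only [X, Finset.sum_mul, Finset.mul_sum]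
      rw [← Finset.sum_sub_distrib]
      refine Finset.dvd_sum fun a _ => ?_
      rw [← Finset.sum_sub_distrib]
      refine Finset.dvd_sum fun k _ => ?_
      rw [hCsym a a₀, show (m χ k : ℤ) * C k a * (m ψ a : ℤ) * C a₀ a₀
          - (m χ k : ℤ) * C k a₀ * ((m ψ a : ℤ) * C a₀ a)
        = (m χ k : ℤ) * (m ψ a : ℤ) * (C k a * C a₀ a₀ - C k a₀ * C a₀ a) by ring]
      exact dvd_mul_of_dvd_right (hrank k a a₀ a₀) _
    have h3 : (p : ℤ) ∣ X χ * X ψ := (dvd_sub_right (hS.mul_right _)).mp h2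
    exact ((Nat.prime_iff_prime_int.mp hM.1).dvd_mul.mp h3).elim (hX χ hχ0) (hX ψ hψ0)
  refine ⟨D, hCr, ?_, hrank, hunit, fun hd χ ψ => ?_⟩
  · have h := BrauerPairs.card_mul_blockRank hM hb.1
    rw [finsum_mem_eq_toFinset_sum, Finset.sum_subtype b.toFinset (fun _ => Set.mem_toFinset)] at h
    have h2 : ((∑ a, C a a : ℤ) : ℂ) = (((p ^ δ * blockRank p b : ℕ) : ℤ) : ℂ) := by
      push_cast
      rw [h, Finset.mul_sum]
      exact Finset.sum_congr rfl fun a _ => hCr a a
    exact_mod_cast h2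
  -- the factorisation in the case of equal defects
  have hcoR : ∀ (ψ : B) (a : b), MemLocalRing M (conj (D.co ζ ψ a)) := fun ψ a => by
    simp only [CData.co, map_mul, map_pow, map_intCast]
    exact memR_mul hM (memR_intCast hM _) (memR_pow hM (memR_of_isIntegral hM
      ((isPrimitiveRoot_root.isIntegral (NeZero.pos _)).map
        ((starRingEnd ℂ).toIntAlgHom : ℂ →ₐ[ℤ] ℂ))) _)
  let T : B → B → ℂ := fun χ ψ => ∑ a : b,
    omega ((χ : IrrCharacter G) : G → ℂ) (localCol p x B (a : IrrCharacter H)) * conj (D.co ζ ψ a)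
  have hTR : ∀ χ ψ, MemLocalRing M (T χ ψ) := fun χ ψ => memR_sum hM _ fun a _ => memR_mul hM
    (memR_omega hM (isClassFunction_localCol _) (memR_localCol hM hx hH hB hb a.2) _) (hcoR ψ a)
  have hT : ∀ χ χ' ψ : B, MemLocalIdeal M (T χ ψ - T χ' ψ) := fun χ χ' ψ => by
    rw [← Finset.sum_sub_distrib]
    refine memI_sum hM _ fun a _ => ?_
    rw [← sub_mul]
    exact memI_mul_right hM (intRing_congr hM (omega_mem_intRing hM (isClassFunction_localCol _)
      (memR_localCol hM hx hH hB hb a.2)) (sameBlock_of_mem hM hB χ.2 χ'.2)) (hcoR ψ a)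
  have hfac : ∀ χ : B, ∃ u : ℂ, MemLocalRing M u ∧ ¬ MemLocalIdeal M u ∧ ∀ ψ, D.U ζ χ ψ =
      (p : ℂ) ^ blockHeight p B ((χ : IrrCharacter G) : G → ℂ) * (u * T χ ψ) := fun χ => by
    obtain ⟨q, r, hq, hr, h⟩ := exists_degree_eq (p := p) hM.1 χ.2
    refine ⟨(q : ℂ) * (r : ℂ)⁻¹, memR_mul hM (memR_natCast hM q) (memR_natCast_inv hM hr),
      fun hI => ?_, fun ψ => ?_⟩
    · have h1 := memI_mul_right hM hI (memR_natCast hM r)
      rw [mul_assoc, inv_mul_cancel₀ ((Nat.cast_ne_zero.mpr fun h0 : r = 0 => hr (h0 ▸ dvd_zero p)) : (r : ℂ) ≠ 0),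
        mul_one] at h1
      exact hq ((memI_natCast hM).mp h1)
    · simp only [CData.U, hDy, T, hd, omega_localCol _ χ.2, Finset.mul_sum]
      refine Finset.sum_congr rfl fun a _ => ?_
      have := irr_one_ne_zero (χ : IrrCharacter G)
      have := card_ne_zero_C (G := G)
      rw [← mul_assoc _ (_ * _) (_ * _), ← mul_assoc _ (q : ℂ), ← h]
      field_simp
  choose u hu hu' hU using hfac
  obtain ⟨φ₀, hφ₀, hφ₀0⟩ := exists_height_zero hM hB
  set χ₀ : B := ⟨φ₀, hφ₀⟩
  refine ⟨u χ * T χ ψ, memR_mul hM (hu χ) (hTR χ ψ), hU χ ψ, fun hψ => ?_, fun hψχ hχ => ?_⟩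
  · refine not_memI_mul hM (hu χ) (hTR χ ψ) (hu' χ) fun h => hunit χ₀ ψ hφ₀0 hψ ?_
    rw [hU χ₀ ψ, hφ₀0, pow_zero, one_mul]
    exact memI_mul_left hM (hu χ₀) ((memI_iff_of_sub hM (hT χ₀ χ ψ)).mpr h)
  · subst hψχ
    refine memI_mul_left hM (hu ψ) ((memI_iff_of_sub hM (hT ψ χ₀ ψ)).mpr ?_)
    by_contra h
    refine not_memI_mul hM (hu χ₀) (hTR χ₀ ψ) (hu' χ₀) h ?_
    have h1 : MemLocalIdeal M (D.U ζ ψ χ₀) := by
      rw [hU ψ χ₀]
      exact memI_mul_right hM (memI_pow hM (memI_p hM) hχ) (memR_mul hM (hu ψ) (hTR ψ χ₀))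
    have h2 : MemLocalIdeal M (D.U ζ χ₀ ψ) := by
      have ha := memI_aeval_sub_eval hM (D.UP ψ χ₀) (n := n)
      have hb' := memI_aeval_sub_eval hM ((D.UP ψ χ₀).comp (Polynomial.X ^ (p ^ (n + 1) - 1))) (n := n)
      rw [← conj_aeval isPrimitiveRoot_root, D.aeval_UP root_mem, D.U_conj,
        Polynomial.eval_comp, Polynomial.eval_pow, Polynomial.eval_X, one_pow] at hb'
      rw [D.aeval_UP root_mem] at ha
      exact (memI_iff_of_sub hM hb').mpr ((memI_iff_of_sub hM ha).mp h1)
    rwa [hU χ₀ ψ, hφ₀0, pow_zero, one_mul] at h2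

/-- `exists_contrib_eq` without the formula for the matrix. -/
theorem exists_contrib [Fact p.Prime] (hM : IsPModular p M) {n : ℕ} (hn : orderOf x ∣ p ^ (n + 1))
    (hH : ∀ g, g ∈ H ↔ Commute x g) (hB : IsPBlock M B) (hb : IsInducedBlock M H b B)
    [Fintype B] [Fintype b] :
    ∃ D : CData p n (p ^ blockDefect p b) B b,
      ∑ a, D.C a a = ((p ^ blockDefect p b * blockRank p b : ℕ) : ℤ) ∧
      (∀ a a' c c', (p : ℤ) ∣ D.C a a' * D.C c c' - D.C a c' * D.C c a') ∧
      (∀ χ ψ : B, blockHeight p B ((χ : IrrCharacter G) : G → ℂ) = 0 →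
        blockHeight p B ((ψ : IrrCharacter G) : G → ℂ) = 0 →
        ¬ MemLocalIdeal M (D.U (root p n) χ ψ)) ∧
      (blockDefect p b = blockDefect p B → ∀ χ ψ : B, ∃ w : ℂ, MemLocalRing M w ∧
        D.U (root p n) χ ψ = (p : ℂ) ^ blockHeight p B ((χ : IrrCharacter G) : G → ℂ) * w ∧
        (blockHeight p B ((ψ : IrrCharacter G) : G → ℂ) = 0 → ¬ MemLocalIdeal M w) ∧
        (ψ = χ → blockHeight p B ((χ : IrrCharacter G) : G → ℂ) ≠ 0 → MemLocalIdeal M w)) := by
  obtain ⟨D, -, h⟩ := exists_contrib_eq hM hn hH hB hb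
  exact ⟨D, h⟩

end Cfsg.Agent.SecondMain
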