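import Cfsg.Agent.Lib.SecondMain.Heights
import Cfsg.Agent.Lib.SecondMain.Support
import Cfsg.Agent.Lib.RegPart.Basic
import Cfsg.Agent.Lib.GaloisAvg.Basic
import Cfsg.Agent.Lib.CentralChar.Congr

/-!
# Contributions of a block at a subsection

For a block `b` of `C(x)` inducing `B` and `d = blockDefect p b`, the contribution of `χ`, `ψ` at
`(x, b)` is `p ^ d * ∑ η ∈ b, c χ η * conj (c ψ η)`, with `c χ η = regInner (χ (x ·)) η`.

* `sum_contribution_sq` : their squared absolute values add up to `p ^ (2 d) * blockRank p b`;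
* `contribution_mem_adjoin` : they lie in `ℤ[ζ]`, `ζ` of order `orderOf x`;
* `contribution_not_memI` : between characters of height zero they are units at `M`;
* `card_sq_le_of_heights_zero` : `k(B)² ≤ p ^ (2 d) * blockRank p b` when all heights are zero.
-/

set_option autoImplicit false

open scoped ComplexConjugate

namespace Cfsg.Agent.SecondMain

open Cfsg Blocks

variable {G : Type*} [Group G] [Finite G] {p : ℕ} {M : Ideal AlgInt}
variable {H : Subgroup G} [Fintype H] {x : G}

/-- The scalar product on the `p'`-elements with a class function, through its coefficients. -/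
theorem regInner_eq_sum_toFinset (hM : IsPModular p M) {b : Set (IrrCharacter H)} [Fintype b]
    (hb : IsPBlock M b) {f : H → ℂ} (hf : IsClassFunction H f) {η : IrrCharacter H} (hη : η ∈ b) :
    regInner p f (η : H → ℂ) = ∑ ζ ∈ b.toFinset,
      classInner f (ζ : H → ℂ) * regInner p (ζ : H → ℂ) (η : H → ℂ) := by
  classical
  have := Fintype.ofFinite (IrrCharacter H)
  have h : regInner p f (η : H → ℂ) = ∑ ζ : IrrCharacter H,
      classInner f (ζ : H → ℂ) * regInner p (ζ : H → ℂ) (η : H → ℂ) := by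
    simp only [regInner_eq_sum, Finset.mul_sum]
    rw [Finset.sum_comm]
    refine Finset.sum_congr rfl fun g _ => ?_
    conv_lhs => rw [Char.classFunction_eq_sum hf, Finset.sum_apply, Finset.sum_mul, Finset.mul_sum]
    exact Finset.sum_congr rfl fun ζ _ => by simp only [Pi.smul_apply, smul_eq_mul]; ring
  rw [h]
  refine (Finset.sum_subset (Finset.subset_univ _) fun ζ _ hζ => ?_).symm
  have h0 := regInner_eq_zero hM hb hη fun h' => hζ (Set.mem_toFinset.mpr h')
  rw [← conj_regInner, h0, map_zero, mul_zero]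

/-- The contribution of two characters at the subsection of `x` and `b`. -/
noncomputable def contribution (p : ℕ) (b : Set (IrrCharacter H)) [Fintype b] (x : G)
    (χ ψ : IrrCharacter G) : ℂ :=
  (p : ℂ) ^ blockDefect p b * ∑ η ∈ b.toFinset,
    regInner p (fun c : H => (χ : G → ℂ) (x * (c : G))) (η : H → ℂ) *
      conj (regInner p (fun c : H => (ψ : G → ℂ) (x * (c : G))) (η : H → ℂ))

variable {B : Set (IrrCharacter G)} {b : Set (IrrCharacter H)} [Fintype b] [Fintype B]

theorem sum_contribution_sq (hM : IsPModular p M) (hx : ∃ k, orderOf x = p ^ k)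
    (hH : ∀ g, g ∈ H ↔ Commute x g) (hB : IsPBlock M B) (hb : IsInducedBlock M H b B) :
    ∑ χ ∈ B.toFinset, ∑ ψ ∈ B.toFinset, contribution p b x χ ψ * conj (contribution p b x χ ψ)
      = (p : ℂ) ^ (2 * blockDefect p b) * (blockRank p b : ℂ) := by
  classical
  have := Fintype.ofFinite G
  let c : IrrCharacter G → IrrCharacter H → ℂ := fun χ η =>
    regInner p (fun g : H => (χ : G → ℂ) (x * (g : G))) (η : H → ℂ)
  have hc : ∀ η ∈ b.toFinset, ∀ ζ ∈ b.toFinset,
      ∑ χ ∈ B.toFinset, c χ η * conj (c χ ζ) = regInner p (ζ : H → ℂ) (η : H → ℂ) := by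
    intro η hη ζ hζ
    rw [← finsum_mem_eq_toFinset_sum]
    exact sum_shift_inner_mul hM hx hH hB hb (Set.mem_toFinset.mp hη) (Set.mem_toFinset.mp hζ)
  calc ∑ χ ∈ B.toFinset, ∑ ψ ∈ B.toFinset,
        contribution p b x χ ψ * conj (contribution p b x χ ψ)
      = ∑ η ∈ b.toFinset, ∑ ζ ∈ b.toFinset, (p : ℂ) ^ (2 * blockDefect p b) *
          ((∑ χ ∈ B.toFinset, c χ η * conj (c χ ζ)) *
            ∑ ψ ∈ B.toFinset, c ψ ζ * conj (c ψ η)) := by
        simp only [contribution, map_mul, map_pow, map_natCast, map_sum, Complex.conj_conj,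
          Finset.mul_sum, Finset.sum_mul]
        conv_lhs => rw [Finset.sum_congr rfl fun χ _ => Finset.sum_congr rfl fun ψ _ => Finset.sum_comm]
        conv_lhs => rw [Finset.sum_congr rfl fun χ _ => Finset.sum_comm]
        rw [Finset.sum_comm]
        refine Finset.sum_congr rfl fun η _ => ?_
        conv_lhs => rw [Finset.sum_congr rfl fun χ _ => Finset.sum_comm]
        rw [Finset.sum_comm]
        refine Finset.sum_congr rfl fun ζ _ => ?_
        rw [Finset.sum_comm]
        exact Finset.sum_congr rfl fun ψ _ => Finset.sum_congr rfl fun χ _ => by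
          simp only [c]; ring
    _ = ∑ η ∈ b.toFinset, (p : ℂ) ^ (2 * blockDefect p b) *
          regInner p (η : H → ℂ) (η : H → ℂ) := by
        refine Finset.sum_congr rfl fun η hη => ?_
        rw [← regInner_idem hM hb.1 (Set.mem_toFinset.mp hη) (η : H → ℂ),
          finsum_mem_eq_toFinset_sum, Finset.mul_sum]
        exact Finset.sum_congr rfl fun ζ hζ => by rw [hc η hη ζ hζ, hc ζ hζ η hη, mul_comm (regInner p (ζ : H → ℂ) _)]
    _ = _ := by
        rw [← Finset.mul_sum, BrauerPairs.card_mul_blockRank hM hb.1, finsum_mem_eq_toFinset_sum]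
        rfl

omit [Finite G] in
theorem exists_classInner_shift [Finite H] (hH : ∀ g, g ∈ H ↔ Commute x g) (η : IrrCharacter H) :
    ∃ l : ℂ, l ^ orderOf x = 1 ∧ ∀ f : H → ℂ, IsClassFunction H f →
      classInner (fun c : H => f (⟨x, (hH x).mpr (Commute.refl x)⟩ * c)) (η : H → ℂ)
        = l * classInner f (η : H → ℂ) := by
  classical
  have := Fintype.ofFinite (IrrCharacter H)
  set z : H := ⟨x, (hH x).mpr (Commute.refl x)⟩ with hz
  have hzc : z ∈ Subgroup.center H := Subgroup.mem_center_iff.mpr fun g =>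
    Subtype.ext ((hH g).mp g.2).eq.symm
  choose l hl1 hl using fun ζ : IrrCharacter H => exists_central_scalar hzc ζ
  refine ⟨l η, by rw [← hl1 η, ← Subgroup.orderOf_coe], fun f hf => ?_⟩
  have hrw : (fun c : H => f (z * c))
      = ∑ ζ : IrrCharacter H, (l ζ * classInner f (ζ : H → ℂ)) • (ζ : H → ℂ) := by
    funext c
    conv_lhs => rw [Char.classFunction_eq_sum hf]
    simp only [Finset.sum_apply, Pi.smul_apply, smul_eq_mul, hl]
    exact Finset.sum_congr rfl fun ζ _ => by ring
  rw [hrw, Char.classInner_sum_smul _ _ η (Finset.mem_univ η)]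

/-- Expansion of a contribution through multiplicities, scalars and integers of `b`. -/
theorem contribution_eq (hM : IsPModular p M) (hH : ∀ g, g ∈ H ↔ Commute x g)
    (hb : IsPBlock M b) :
    ∃ (l : IrrCharacter H → ℂ) (m : IrrCharacter G → IrrCharacter H → ℤ)
      (n : IrrCharacter H → IrrCharacter H → ℤ),
      (∀ η, l η ^ orderOf x = 1) ∧
      (∀ (χ : IrrCharacter G) (η : IrrCharacter H),
        classInner (fun c : H => (χ : G → ℂ) (c : G)) (η : H → ℂ) = m χ η) ∧
      (∀ η : IrrCharacter H, ∀ ζ ∈ b, (p : ℂ) ^ blockDefect p b * regInner p (η : H → ℂ) (ζ : H → ℂ) = n η ζ) ∧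
      ∀ χ ψ, contribution p b x χ ψ = ∑ η ∈ b.toFinset, ∑ ζ ∈ b.toFinset,
        (l η * conj (l ζ)) * ((m χ η * m ψ ζ * n η ζ : ℤ) : ℂ) := by
  classical
  choose l hl1 hl using fun η => exists_classInner_shift (H := H) hH η
  choose m hm using fun (χ : IrrCharacter G) (η : IrrCharacter H) =>
    Char.IsGeneralizedCharacter.classInner_int
      (Char.isGeneralizedCharacter_of_isCharacter
        (Char.IsCharacter.restrict (Char.IsIrrCharacter.isCharacter χ.2) H))
      (Char.isGeneralizedCharacter_of_isCharacter (Char.IsIrrCharacter.isCharacter η.2))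
  choose n hn using fun (η : IrrCharacter H) (ζ : b) =>
    RegPart.exists_int_defect hM hb η ζ.2
  let n' : IrrCharacter H → IrrCharacter H → ℤ := fun η ζ =>
    if h : ζ ∈ b then n η ⟨ζ, h⟩ else 0
  have hn' : ∀ η : IrrCharacter H, ∀ ζ ∈ b, (p : ℂ) ^ blockDefect p b * regInner p (η : H → ℂ) (ζ : H → ℂ) = n' η ζ :=
    fun η ζ hζ => by
      simp only [n', dif_pos hζ]
      exact hn η ⟨ζ, hζ⟩
  refine ⟨l, m, n', hl1, hm, hn', fun χ ψ => ?_⟩
  have hcoef : ∀ (χ : IrrCharacter G) (η : IrrCharacter H),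
      classInner (fun c : H => (χ : G → ℂ) (x * (c : G))) (η : H → ℂ) = l η * m χ η := fun χ η => by
    rw [← hm χ η, ← hl η _ fun a h => irr_class χ (a : G) (h : G)]
    rfl
  have hreg : ∀ (χ : IrrCharacter G), ∀ η ∈ b.toFinset,
      regInner p (fun c : H => (χ : G → ℂ) (x * (c : G))) (η : H → ℂ)
        = ∑ ζ ∈ b.toFinset, l ζ * m χ ζ * regInner p (ζ : H → ℂ) (η : H → ℂ) := fun χ η hη => by
    rw [regInner_eq_sum_toFinset hM hb
      (isClassFunction_shift (fun h hh => (hH h).mp hh) (irr_class χ)) (Set.mem_toFinset.mp hη)]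
    exact Finset.sum_congr rfl fun ζ _ => by rw [hcoef]
  have hidem : ∀ η ∈ b.toFinset, ∀ ζ : IrrCharacter H,
      ∑ φ ∈ b.toFinset, regInner p (η : H → ℂ) (φ : H → ℂ) * regInner p (φ : H → ℂ) (ζ : H → ℂ)
        = regInner p (η : H → ℂ) (ζ : H → ℂ) := fun η hη ζ => by
    rw [← finsum_mem_eq_toFinset_sum]
    exact regInner_idem hM hb (Set.mem_toFinset.mp hη) _
  unfold contribution
  calc _ = (p : ℂ) ^ blockDefect p b * ∑ η ∈ b.toFinset,
        (∑ ζ ∈ b.toFinset, l ζ * m χ ζ * regInner p (ζ : H → ℂ) (η : H → ℂ)) *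
          ∑ ζ ∈ b.toFinset, conj (l ζ) * m ψ ζ * regInner p (η : H → ℂ) (ζ : H → ℂ) := by
        congr 1
        refine Finset.sum_congr rfl fun η hη => ?_
        rw [hreg χ η hη, hreg ψ η hη, map_sum]
        simp only [map_mul, map_intCast, conj_regInner]
    _ = ∑ ζ ∈ b.toFinset, ∑ ξ ∈ b.toFinset, (l ζ * conj (l ξ)) * ((m χ ζ : ℂ) * m ψ ξ *
          ((p : ℂ) ^ blockDefect p b * ∑ η ∈ b.toFinset,
            regInner p (ζ : H → ℂ) (η : H → ℂ) * regInner p (η : H → ℂ) (ξ : H → ℂ))) := by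
        simp only [Finset.mul_sum, Finset.sum_mul]
        conv_rhs => rw [Finset.sum_comm]
        rw [Finset.sum_comm]
        refine Finset.sum_congr rfl fun ζ _ => ?_
        rw [Finset.sum_comm]
        exact Finset.sum_congr rfl fun ξ _ => Finset.sum_congr rfl fun η _ => by ring
    _ = _ := by
        refine Finset.sum_congr rfl fun ζ hζ => Finset.sum_congr rfl fun ξ hξ => ?_
        rw [hidem ζ hζ ξ, hn' ζ ξ (Set.mem_toFinset.mp hξ)]
        push_cast
        ring

theorem contribution_mem_adjoin (hM : IsPModular p M) (hH : ∀ g, g ∈ H ↔ Commute x g)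
    (hb : IsPBlock M b) (χ ψ : IrrCharacter G) :
    contribution p b x χ ψ ∈ Algebra.adjoin ℤ {GaloisAvg.zeta (orderOf x)} := by
  obtain ⟨l, m, n, hl, -, -, h⟩ := contribution_eq hM hH hb
  have hN : orderOf x ≠ 0 := (orderOf_pos x).ne'
  have : NeZero (orderOf x) := ⟨hN⟩
  have hz := GaloisAvg.zeta_isPrimitiveRoot hN
  have hmem : ∀ w : ℂ, w ^ orderOf x = 1 →
      w ∈ Algebra.adjoin ℤ {GaloisAvg.zeta (orderOf x)} := fun w hw => by
    obtain ⟨i, -, hi⟩ := hz.eq_pow_of_pow_eq_one hw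
    rw [← hi]
    exact pow_mem (Algebra.subset_adjoin (Set.mem_singleton _)) i
  rw [h χ ψ]
  refine Subalgebra.sum_mem _ fun η _ => Subalgebra.sum_mem _ fun ζ _ => ?_
  refine Subalgebra.mul_mem _ (Subalgebra.mul_mem _ (hmem _ (hl η)) (hmem _ ?_))
    (Subalgebra.intCast_mem _ _)
  rw [← map_pow, hl ζ, map_one]

omit [Fintype B] in
theorem contribution_not_memI (hM : IsPModular p M) (hx : ∃ k, orderOf x = p ^ k)
    (hH : ∀ g, g ∈ H ↔ Commute x g) (hb : IsInducedBlock M H b B) {χ ψ : IrrCharacter G}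
    (hχ : χ ∈ B) (hψ : ψ ∈ B) (hχ0 : blockHeight p B (χ : G → ℂ) = 0)
    (hψ0 : blockHeight p B (ψ : G → ℂ) = 0) :
    ¬ MemLocalIdeal M (contribution p b x χ ψ) := by
  classical
  have := Fintype.ofFinite G
  obtain ⟨k, hk⟩ := hx
  obtain ⟨l, m, n, hl, hm, hn, hcon⟩ := contribution_eq hM hH hb.1
  let D : IrrCharacter H → ℂ := fun η =>
    (p : ℂ) ^ blockDefect p b * (η : H → ℂ) 1 / (Nat.card H : ℂ)
  have hDR : ∀ η ∈ b, MemLocalRing M (D η) := fun η hη => by
    obtain ⟨u, v, hu, hv, h⟩ := exists_degree_eq hM.1 hη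
    simp only [D, h]
    exact memR_mul hM (memR_mul hM (memR_pow hM (memR_natCast hM p) _) (memR_natCast hM u))
      (memR_natCast_inv hM hv)
  have hmR : ∀ a : ℤ, MemLocalRing M (a : ℂ) := fun a => memR_of_isIntegral hM isIntegral_algebraMap
  -- multiplicities against a scalar product with a restriction
  have hq : ∀ (φ : IrrCharacter G), ∀ η ∈ b,
      ((∑ ζ ∈ b.toFinset, m φ ζ * n η ζ : ℤ) : ℂ)
        = D η * omega (η : H → ℂ) (fun c : H => regConj p (φ : G → ℂ) (c : G)) := by
    intro φ η hη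
    have hf : IsClassFunction H fun c : H => (φ : G → ℂ) (c : G) :=
      fun a h => irr_class φ (a : G) (h : G)
    have hre : (fun c : H => regConj p (φ : G → ℂ) (c : G))
        = regConj p fun c : H => (φ : G → ℂ) (c : G) := funext fun c => by
      by_cases h : p ∣ orderOf c <;>
        simp [regConj, pRegularPart, IsPRegular, Subgroup.orderOf_coe, h]
    rw [hre, omega_regConj, ← conj_regInner (fun c : H => (φ : G → ℂ) (c : G)),
      regInner_eq_sum_toFinset hM hb.1 hf hη, map_sum]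
    simp only [map_mul, conj_regInner, hm, map_intCast, Finset.mul_sum, Int.cast_sum, Int.cast_mul]
    refine Finset.sum_congr rfl fun ζ hζ => ?_
    rw [← hn η ζ (Set.mem_toFinset.mp hζ)]
    have := irr_one_ne_zero η
    have := card_ne_zero_C (G := H)
    simp only [D]
    field_simp
  have hw : ∀ φ : IrrCharacter G, φ ∈ B → ∀ η ∈ b,
      MemLocalIdeal M (omega (η : H → ℂ) (fun c : H => regConj p (φ : G → ℂ) (c : G))
        - omega (φ : G → ℂ) (regConj p (φ : G → ℂ))) := fun φ hφ η hη =>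
    omega_restrict_congr hM hb hη hφ (isClassFunction_regConj (irr_class φ)) (memR_regConj hM φ)
  set DX : ℂ := ∑ η ∈ b.toFinset, (m χ η : ℂ) * D η with hDX
  have hDXR : MemLocalRing M DX := by
    refine Subring.sum_mem (locRing hM) fun η hη => ?_
    exact memR_mul hM (hmR _) (hDR η (Set.mem_toFinset.mp hη))
  obtain ⟨ξ, hξ, hξ0⟩ := exists_height_zero hM hb.1
  have hDX' : ¬ MemLocalIdeal M DX := by
    intro hI
    set w₁ := omega (ξ : H → ℂ) (regConj p (ξ : H → ℂ)) with hw₁
    have h1 : MemLocalIdeal M (((∑ η ∈ b.toFinset, m χ η * n ξ η : ℤ) : ℂ) - w₁ * DX) := by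
      rw [Int.cast_sum, hDX, Finset.mul_sum, ← Finset.sum_sub_distrib]
      refine memI_sum hM _ fun η hη => ?_
      have hη' := Set.mem_toFinset.mp hη
      have hsym : (n ξ η : ℂ) = D η * omega (η : H → ℂ) (regConj p (ξ : H → ℂ)) := by
        rw [← hn ξ η hη', regInner, RegPart.comm, omega_regConj]
        have := irr_one_ne_zero η
        have := card_ne_zero_C (G := H)
        simp only [D, regInner]
        field_simp
      rw [Int.cast_mul, hsym, show (m χ η : ℂ) * (D η * omega (η : H → ℂ) (regConj p (ξ : H → ℂ)))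
          - w₁ * ((m χ η : ℂ) * D η) = ((m χ η : ℂ) * D η) *
            (omega (η : H → ℂ) (regConj p (ξ : H → ℂ)) - w₁) by ring]
      exact memI_mul_left hM (memR_mul hM (hmR _) (hDR η hη')) (intRing_congr hM
        (omega_mem_intRing hM (isClassFunction_regConj (irr_class ξ)) (memR_regConj hM ξ))
        (sameBlock_of_mem hM hb.1 hη' hξ))
    have h2 : ¬ MemLocalIdeal M ((∑ η ∈ b.toFinset, m χ η * n ξ η : ℤ) : ℂ) := by
      rw [hq χ ξ hξ]
      obtain ⟨u, v, hu, hv, h⟩ := exists_degree_eq hM.1 hξ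
      rw [hξ0, pow_zero, one_mul] at h
      have hD : ¬ MemLocalIdeal M (D ξ) := fun hI' => by
        simp only [D, h] at hI'
        have h3 := memI_mul_right hM hI' (memR_natCast hM v)
        have hv0 : (v : ℂ) ≠ 0 := Nat.cast_ne_zero.mpr fun h0 => hv (h0 ▸ dvd_zero p)
        rw [mul_assoc, inv_mul_cancel₀ hv0, mul_one] at h3
        exact hu ((memI_natCast hM).mp h3)
      refine not_memI_mul hM (hDR ξ hξ) ?_ hD fun hI' =>
        omega_regConj_not_memI hM hb.2.1 hχ hχ hχ0
          ((memI_iff_of_sub hM (hw χ hχ ξ hξ)).1 hI')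
      exact memR_omega hM (z := fun c : H => regConj p (χ : G → ℂ) (c : G))
        (fun a h => isClassFunction_regConj (irr_class χ) (a : G) (h : G))
        (fun a => memR_regConj hM χ _) ξ
    exact h2 ((memI_iff_of_sub hM h1).2 (memI_mul_left hM
      (memR_omega hM (isClassFunction_regConj (irr_class ξ)) (memR_regConj hM ξ) ξ) hI))
  set w := omega (ψ : G → ℂ) (regConj p (ψ : G → ℂ)) with hwdef
  have h0 : MemLocalIdeal M (contribution p b x χ ψ - w * DX) := by
    rw [hcon χ ψ, hDX, Finset.mul_sum, ← Finset.sum_sub_distrib]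
    refine memI_sum hM _ fun η hη => ?_
    have hη' := Set.mem_toFinset.mp hη
    have hsplit : (∑ ζ ∈ b.toFinset, (l η * conj (l ζ)) * ((m χ η * m ψ ζ * n η ζ : ℤ) : ℂ))
        - w * ((m χ η : ℂ) * D η) = (∑ ζ ∈ b.toFinset, ((m χ η * m ψ ζ * n η ζ : ℤ) : ℂ) *
          (l η * conj (l ζ) - 1)) + (m χ η : ℂ) * D η *
          (omega (η : H → ℂ) (fun c : H => regConj p (ψ : G → ℂ) (c : G)) - w) := by
      have h := congrArg (fun t => (m χ η : ℂ) * t) (hq ψ η hη')
      simp only [Int.cast_sum, Finset.mul_sum, Int.cast_mul] at h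
      simp only [mul_sub, Finset.sum_sub_distrib, Int.cast_mul, mul_one]
      rw [mul_assoc (m χ η : ℂ) (D η), ← h]
      simp only [mul_assoc, mul_left_comm, mul_comm]
      abel
    rw [hsplit]
    refine memI_add hM (memI_sum hM _ fun ζ _ => memI_mul_left hM (hmR _) ?_)
      (memI_mul_left hM (memR_mul hM (hmR _) (hDR η hη')) (hw ψ hψ η hη'))
    refine CentralChar.memI_sub_one_of_pow_eq_one hM (k := k) ?_
    rw [← hk, mul_pow, ← map_pow, hl η, hl ζ, map_one, one_mul]
  intro hI
  exact not_memI_mul hM (memR_omega hM (isClassFunction_regConj (irr_class ψ)) (memR_regConj hM ψ) ψ)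
    hDXR (omega_regConj_not_memI hM hb.2.1 hψ hψ hψ0) hDX' ((memI_iff_of_sub hM h0).1 hI)

theorem card_sq_le_of_heights_zero (hM : IsPModular p M) (hx : ∃ k, orderOf x = p ^ k)
    (hH : ∀ g, g ∈ H ↔ Commute x g) (hb : IsInducedBlock M H b B)
    (hh : ∀ χ ∈ B, blockHeight p B (χ : G → ℂ) = 0) :
    Nat.card B ^ 2 ≤ p ^ (2 * blockDefect p b) * blockRank p b := by
  classical
  have hN : orderOf x ≠ 0 := (orderOf_pos x).ne'
  have : NeZero (orderOf x) := ⟨hN⟩
  set N := orderOf x
  have hz := GaloisAvg.zeta_isPrimitiveRoot hN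
  set ζ := GaloisAvg.zeta N
  have hP : ∀ q : IrrCharacter G × IrrCharacter G,
      ∃ P : Polynomial ℤ, Polynomial.aeval ζ P = contribution p b x q.1 q.2 := fun q => by
    have h := contribution_mem_adjoin hM hH hb.1 q.1 q.2
    rwa [Algebra.adjoin_singleton_eq_range_aeval] at h
  choose P hPe using hP
  set R := primitiveRoots N ℂ
  set T := B.toFinset ×ˢ B.toFinset
  have hconjz : ∀ z : ℂ, z ^ N = 1 → z ^ (N - 1) = conj z := fun z hz1 => by
    rw [← Complex.inv_eq_conj (Complex.norm_eq_one_of_pow_eq_one hz1 hN)]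
    refine eq_inv_of_mul_eq_one_left ?_
    rw [← pow_succ, Nat.sub_add_cancel (Nat.one_le_iff_ne_zero.mpr hN), hz1]
  have hconjP : ∀ (z : ℂ) (F : Polynomial ℤ),
      Polynomial.aeval (conj z) F = conj (Polynomial.aeval z F) := fun z F =>
    Polynomial.aeval_algHom_apply (Complex.conjAe.toAlgHom.restrictScalars ℤ) z F
  let Q : Polynomial ℤ := ∑ q ∈ T, P q * (P q).comp (Polynomial.X ^ (N - 1))
  have hQ : ∀ z : ℂ, z ^ N = 1 →
      Polynomial.aeval z Q = ((∑ q ∈ T, ‖Polynomial.aeval z (P q)‖ ^ 2 : ℝ) : ℂ) := fun z hz1 => by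
    simp only [Q, map_sum, map_mul, Polynomial.aeval_comp, map_pow, Polynomial.aeval_X, hconjz z hz1,
      Complex.ofReal_sum, Complex.ofReal_pow]
    refine Finset.sum_congr rfl fun q _ => ?_
    rw [← Complex.mul_conj', hconjP]
  have hQζ : Polynomial.aeval ζ (Q - Polynomial.C ((p ^ (2 * blockDefect p b) * blockRank p b : ℕ) : ℤ))
      = 0 := by
    rw [map_sub, Polynomial.aeval_C, eq_intCast, Int.cast_natCast, Nat.cast_mul, Nat.cast_pow,
      ← sum_contribution_sq hM hx hH hb.2.1 hb]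
    simp only [Q, map_sum, map_mul, Polynomial.aeval_comp, map_pow, Polynomial.aeval_X,
      hconjz ζ hz.pow_eq_one]
    rw [sub_eq_zero, Finset.sum_product]
    refine Finset.sum_congr rfl fun χ _ => Finset.sum_congr rfl fun ψ _ => ?_
    rw [← hPe (χ, ψ), hconjP]
  have hval : ∀ z ∈ R, ∑ q ∈ T, ‖Polynomial.aeval z (P q)‖ ^ 2
      = ((p ^ (2 * blockDefect p b) * blockRank p b : ℕ) : ℝ) := fun z hzR => by
    have hz' := (mem_primitiveRoots (Nat.pos_of_ne_zero hN)).mp hzR
    have hdvd := minpoly.isIntegrallyClosed_dvd (hz.isIntegral (Nat.pos_of_ne_zero hN)) hQζ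
    rw [← Polynomial.cyclotomic_eq_minpoly hz (Nat.pos_of_ne_zero hN),
      Polynomial.cyclotomic_eq_minpoly hz' (Nat.pos_of_ne_zero hN)] at hdvd
    have h0 := Polynomial.aeval_eq_zero_of_dvd_aeval_eq_zero hdvd (minpoly.aeval ℤ z)
    rw [map_sub, Polynomial.aeval_C, eq_intCast, Int.cast_natCast, hQ z hz'.pow_eq_one,
      sub_eq_zero] at h0
    exact_mod_cast h0
  have hne : ∀ q ∈ T, ∀ z ∈ R, Polynomial.aeval z (P q) ≠ 0 := fun q hq z hzR h0 => by
    have hz' := (mem_primitiveRoots (Nat.pos_of_ne_zero hN)).mp hzR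
    have hdvd := minpoly.isIntegrallyClosed_dvd (hz'.isIntegral (Nat.pos_of_ne_zero hN)) h0
    rw [← Polynomial.cyclotomic_eq_minpoly hz' (Nat.pos_of_ne_zero hN),
      Polynomial.cyclotomic_eq_minpoly hz (Nat.pos_of_ne_zero hN)] at hdvd
    have h1 := Polynomial.aeval_eq_zero_of_dvd_aeval_eq_zero hdvd (minpoly.aeval ℤ ζ)
    obtain ⟨hq1, hq2⟩ := Finset.mem_product.mp hq
    rw [hPe] at h1
    exact contribution_not_memI hM hx hH hb (Set.mem_toFinset.mp hq1) (Set.mem_toFinset.mp hq2)
      (hh _ (Set.mem_toFinset.mp hq1)) (hh _ (Set.mem_toFinset.mp hq2)) (h1 ▸ memI_zero hM)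
  have h1 := Finset.sum_le_sum fun q (hq : q ∈ T) =>
    GaloisAvg.card_le_sum_norm_pow_roots (P q) (hne q hq) 2
  rw [Finset.sum_comm (t := R), Finset.sum_congr rfl hval, Finset.sum_const, Finset.sum_const,
    nsmul_eq_mul, nsmul_eq_mul, mul_comm (T.card : ℝ)] at h1
  have hR0 : (0 : ℝ) < R.card := by
    exact_mod_cast Finset.card_pos.mpr
      ⟨ζ, (mem_primitiveRoots (Nat.pos_of_ne_zero hN)).mpr hz⟩
  have h2 := le_of_mul_le_mul_left h1 hR0
  have h3 : T.card = Nat.card B ^ 2 := by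
    rw [Finset.card_product, Set.toFinset_card, ← Nat.card_eq_fintype_card, sq]
  rw [← h3]
  exact_mod_cast h2

end Cfsg.Agent.SecondMain
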