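import Cfsg.Agent.Lib.Transfer.Residual
import Cfsg.Agent.EqLemmas

/-!
# p-sections of a finite group

`pPart_unique`, `conj_parts` (conjugation respects the decomposition in `p`-part and `p'`-part),
`card_centralizer_mul_eq`, `isConj_mul_iff`, and `sum_eq_sum_sections` (a sum of a class function
over a group, section by section).
-/

set_option autoImplicit false

namespace Cfsg.Agent.SecondMain

open Cfsg

variable {G : Type*} [Group G] {p : ℕ}

theorem pPart_unique [Fact p.Prime] [Finite G] {x y x' y' : G} (hx : ∃ k, orderOf x = p ^ k)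
    (hx' : ∃ k, orderOf x' = p ^ k) (hy : ¬ p ∣ orderOf y) (hy' : ¬ p ∣ orderOf y')
    (hc : Commute x y) (hc' : Commute x' y') (h : x * y = x' * y') : x = x' ∧ y = y' := by
  have hp : p.Prime := Fact.out
  obtain ⟨k, hk⟩ := hx
  obtain ⟨k', hk'⟩ := hx'
  have hco : Nat.Coprime (p ^ (k + k')) (orderOf y * orderOf y') :=
    ((hp.coprime_iff_not_dvd.mpr hy).mul_right (hp.coprime_iff_not_dvd.mpr hy')).pow_left _
  obtain ⟨n, hn1, hn0⟩ := Nat.chineseRemainder hco 1 0
  have hq : ∀ {z : G}, orderOf z ∣ p ^ (k + k') → z ^ n = z := fun {z} hz => by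
    conv_rhs => rw [← pow_one z]
    exact pow_eq_pow_iff_modEq.mpr (hn1.of_dvd hz)
  have hr : ∀ {z : G}, orderOf z ∣ orderOf y * orderOf y' → z ^ n = 1 := fun {z} hz =>
    orderOf_dvd_iff_pow_eq_one.mp (hz.trans (Nat.modEq_zero_iff_dvd.mp hn0))
  have h1 := congrArg (· ^ n) h
  simp only [hc.mul_pow, hc'.mul_pow] at h1
  rw [hq (z := x) (hk ▸ pow_dvd_pow p (Nat.le_add_right k k')),
    hq (z := x') (hk' ▸ pow_dvd_pow p (Nat.le_add_left k' k)), hr (z := y) (Dvd.intro _ rfl),
    hr (z := y') (Dvd.intro_left _ rfl),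
    mul_one, mul_one] at h1
  exact ⟨h1, mul_left_cancel (h1 ▸ h)⟩

theorem orderOf_conj (c x : G) : orderOf (c * x * c⁻¹) = orderOf x :=
  orderOf_injective (MulAut.conj c).toMonoidHom (MulAut.conj c).injective x

theorem conj_parts [Fact p.Prime] [Finite G] {x y x' y' c : G} (hx : ∃ k, orderOf x = p ^ k)
    (hx' : ∃ k, orderOf x' = p ^ k) (hy : ¬ p ∣ orderOf y) (hy' : ¬ p ∣ orderOf y')
    (hc : Commute x y) (hc' : Commute x' y') (h : c * (x * y) * c⁻¹ = x' * y') :
    c * x * c⁻¹ = x' ∧ c * y * c⁻¹ = y' := by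
  refine pPart_unique (p := p) (by rwa [orderOf_conj]) hx' (by rwa [orderOf_conj]) hy' ?_ hc' ?_
  · exact hc.map (MulAut.conj c).toMonoidHom
  · rw [← h]
    group

/-- In the centraliser `H` of `x`, conjugacy of `p'`-elements is conjugacy of their products with
`x` in `G`. -/
theorem isConj_mul_iff [Fact p.Prime] [Finite G] {x : G} (hx : ∃ k, orderOf x = p ^ k)
    {H : Subgroup G} (hH : ∀ g, g ∈ H ↔ Commute x g) {s t : H} (hs : ¬ p ∣ orderOf s)
    (ht : ¬ p ∣ orderOf t) : IsConj (x * (s : G)) (x * (t : G)) ↔ IsConj s t := by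
  constructor
  · intro h
    obtain ⟨c, hc⟩ := isConj_iff.mp h
    obtain ⟨h1, h2⟩ := conj_parts hx hx (by rwa [Subgroup.orderOf_coe]) (by rwa [Subgroup.orderOf_coe])
      ((hH s).mp s.2) ((hH t).mp t.2) hc
    have hcH : c ∈ H := (hH c).mpr (mul_inv_eq_iff_eq_mul.mp h1).symm
    exact isConj_iff.mpr ⟨⟨c, hcH⟩, Subtype.ext h2⟩
  · intro h
    obtain ⟨c, hc⟩ := isConj_iff.mp h
    refine isConj_iff.mpr ⟨(c : G), ?_⟩
    rw [← hc, Subgroup.coe_mul, Subgroup.coe_mul, Subgroup.coe_inv]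
    calc (c : G) * (x * s) * (c : G)⁻¹ = (c : G) * x * s * (c : G)⁻¹ := by group
      _ = _ := by rw [← ((hH c).mp c.2).eq]; group

theorem card_centralizer_mul_eq [Fact p.Prime] [Finite G] {x : G} (hx : ∃ k, orderOf x = p ^ k)
    {H : Subgroup G} (hH : ∀ g, g ∈ H ↔ Commute x g) {s : H} (hs : ¬ p ∣ orderOf s) :
    Nat.card (Subgroup.centralizer ({x * (s : G)} : Set G))
      = Nat.card (Subgroup.centralizer ({s} : Set H)) := by
  have key : ∀ c : G, c ∈ Subgroup.centralizer ({x * (s : G)} : Set G) →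
      c ∈ H ∧ Commute c (s : G) := by
    intro c hc
    have h := Subgroup.mem_centralizer_iff.mp hc _ rfl
    obtain ⟨h1, h2⟩ := conj_parts (c := c) hx hx (by rwa [Subgroup.orderOf_coe])
      (by rwa [Subgroup.orderOf_coe]) ((hH s).mp s.2) ((hH s).mp s.2)
      (mul_inv_eq_iff_eq_mul.mpr h.symm)
    exact ⟨(hH c).mpr (mul_inv_eq_iff_eq_mul.mp h1).symm, mul_inv_eq_iff_eq_mul.mp h2⟩
  refine Nat.card_congr
    { toFun := fun c => ⟨⟨c, (key c c.2).1⟩, Subgroup.mem_centralizer_iff.mpr fun u hu => ?_⟩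
      invFun := fun c => ⟨((c : H) : G), Subgroup.mem_centralizer_iff.mpr fun u hu => ?_⟩
      left_inv := fun c => rfl
      right_inv := fun c => rfl }
  · obtain rfl := Set.mem_singleton_iff.mp hu
    exact Subtype.ext (key c c.2).2.eq.symm
  · obtain rfl := Set.mem_singleton_iff.mp hu
    have h1 : (s : G) * (c : H) = (c : H) * (s : G) :=
      congrArg Subtype.val (Subgroup.mem_centralizer_iff.mp c.2 s rfl)
    exact (Commute.mul_left ((hH _).mp (c : H).2) h1).eq

open scoped Classical in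
/-- The sum of a class function over `G`, split along representatives `X` of the classes of
`p`-elements. -/
theorem sum_eq_sum_sections [Fact p.Prime] [Fintype G] {f : G → ℂ} (hf : IsClassFunction G f)
    (X : Finset G) (hX : ∀ x ∈ X, ∃ k, orderOf x = p ^ k)
    (hXrep : ∀ g : G, (∃ k : ℕ, orderOf g = p ^ k) → ∃! x, x ∈ X ∧ IsConj g x) :
    ∑ g, f g = ∑ x ∈ X, (Nat.card G : ℂ) * (Nat.card (Subgroup.centralizer ({x} : Set G)) : ℂ)⁻¹ *
      ∑ s : Subgroup.centralizer ({x} : Set G), if ¬ p ∣ orderOf s then f (x * (s : G)) else 0 := by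
  have hcomm : ∀ {x : G} (s : Subgroup.centralizer ({x} : Set G)), Commute x (s : G) :=
    fun {x} s => Subgroup.mem_centralizer_iff.mp s.2 x rfl
  choose a b hab hma hmb hak hbc using fun g : G => Transfer.exists_pPart_mul (p := p) g
  have hb : ∀ g, ¬ p ∣ orderOf (b g) := fun g =>
    (Fact.out (p := p.Prime)).coprime_iff_not_dvd.mp (hbc g).symm
  have hcab : ∀ g, Commute (a g) (b g) := fun g => by
    obtain ⟨i, hi⟩ := Subgroup.mem_zpowers_iff.mp (hma g)
    obtain ⟨j, hj⟩ := Subgroup.mem_zpowers_iff.mp (hmb g)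
    have h1 := (Commute.refl g).zpow_zpow i j
    rwa [hi, hj] at h1
  choose r hr hru using fun g => hXrep (a g) (hak g)
  rw [← Finset.sum_fiberwise_of_maps_to (s := Finset.univ) (t := X) (g := r) (fun g _ => (hr g).1)]
  refine Finset.sum_congr rfl fun x hxX => ?_
  let C := Subgroup.centralizer ({x} : Set G)
  let T : Finset (G × C) := Finset.univ.filter fun cs => ¬ p ∣ orderOf cs.2
  let π : G × C → G := fun cs => cs.1 * (x * (cs.2 : G)) * cs.1⁻¹
  have hparts : ∀ cs ∈ T, a (π cs) = cs.1 * x * cs.1⁻¹ ∧ b (π cs) = cs.1 * (cs.2 : G) * cs.1⁻¹ := by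
    intro cs hcs
    have hreg : ¬ p ∣ orderOf (cs.2 : G) := by
      rw [Subgroup.orderOf_coe]
      exact (Finset.mem_filter.mp hcs).2
    obtain ⟨h1, h2⟩ := conj_parts (c := cs.1) (hX x hxX) (hak (π cs)) hreg (hb (π cs)) (hcomm cs.2)
      (hcab _) (hab (π cs))
    exact ⟨h1.symm, h2.symm⟩
  have hT : ∀ cs ∈ T, π cs ∈ Finset.univ.filter fun g => r g = x := fun cs hcs => by
    refine Finset.mem_filter.mpr ⟨Finset.mem_univ _, (hru _ x ⟨hxX, ?_⟩).symm⟩
    exact (isConj_iff.mpr ⟨cs.1, ((hparts cs hcs).1).symm⟩).symm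
  have hfib : ∀ g ∈ Finset.univ.filter (fun g => r g = x),
      (T.filter fun cs => π cs = g).card = Nat.card C := by
    intro g hg
    obtain ⟨d, hd⟩ := isConj_iff.mp ((Finset.mem_filter.mp hg).2 ▸ (hr g).2).symm
    -- `d` conjugates `x` to the `p`-part of `g`
    have hs : d⁻¹ * b g * d ∈ C := Subgroup.mem_centralizer_iff.mpr fun u hu => by
      rw [Set.mem_singleton_iff.mp hu]
      have h1 := (hcab g).eq
      rw [← hd] at h1
      calc x * (d⁻¹ * b g * d) = d⁻¹ * (d * x * d⁻¹ * b g) * d := by group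
        _ = d⁻¹ * (b g * (d * x * d⁻¹)) * d := by rw [h1]
        _ = d⁻¹ * b g * d * x := by group
    rw [Nat.card_eq_fintype_card, ← Finset.card_univ]
    have hinj : ∀ z : C, ((d * (z : G), z⁻¹ * ⟨_, hs⟩ * z) : G × C) ∈ T.filter fun cs => π cs = g := by
      intro z
      refine Finset.mem_filter.mpr ⟨Finset.mem_filter.mpr ⟨Finset.mem_univ _, ?_⟩, ?_⟩
      · have h2 : orderOf (z⁻¹ * ⟨_, hs⟩ * z) = orderOf (b g) := by
          have h3 := orderOf_conj z⁻¹ (⟨_, hs⟩ : C)
          rw [inv_inv] at h3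
          rw [h3, ← Subgroup.orderOf_coe]
          show orderOf (d⁻¹ * b g * d) = _
          have h4 := orderOf_conj d⁻¹ (b g)
          rwa [inv_inv] at h4
        exact h2 ▸ hb g
      · have hz : (z : G) * x = x * (z : G) := (hcomm z).eq.symm
        simp only [π, Subgroup.coe_mul, Subgroup.coe_inv]
        calc d * (z : G) * (x * ((z : G)⁻¹ * (d⁻¹ * b g * d) * (z : G))) * (d * (z : G))⁻¹
            = d * ((z : G) * x) * ((z : G)⁻¹ * d⁻¹) * b g := by group
          _ = d * x * d⁻¹ * b g := by rw [hz]; group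
          _ = g := by rw [hd, ← hab g]
    refine Finset.card_bij' (fun cs hcs => ?_) (fun z _ => (d * (z : G), z⁻¹ * ⟨_, hs⟩ * z))
      (fun _ _ => Finset.mem_univ _) (fun z _ => hinj z) ?_ ?_
    · refine ⟨d⁻¹ * cs.1, Subgroup.mem_centralizer_iff.mpr fun u hu => ?_⟩
      rw [Set.mem_singleton_iff.mp hu]
      have h1 := (hparts cs (Finset.mem_filter.mp hcs).1).1
      rw [(Finset.mem_filter.mp hcs).2, ← hd] at h1
      calc x * (d⁻¹ * cs.1) = d⁻¹ * (d * x * d⁻¹) * cs.1 := by group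
        _ = d⁻¹ * (cs.1 * x * cs.1⁻¹) * cs.1 := by rw [h1]
        _ = d⁻¹ * cs.1 * x := by group
    · intro cs hcs
      have h2 := (hparts cs (Finset.mem_filter.mp hcs).1).2
      rw [(Finset.mem_filter.mp hcs).2] at h2
      refine Prod.ext (mul_inv_cancel_left d cs.1) (Subtype.ext ?_)
      simp only [Subgroup.coe_mul, Subgroup.coe_inv]
      rw [h2]
      group
    · intro z _
      exact Subtype.ext (inv_mul_cancel_left d (z : G))
  have hsum : (Nat.card C : ℂ) * ∑ g ∈ Finset.univ.filter (fun g => r g = x), f g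
      = ∑ cs ∈ T, f (π cs) := by
    rw [← Finset.sum_fiberwise_of_maps_to hT, Finset.mul_sum]
    refine Finset.sum_congr rfl fun g hg => ?_
    rw [Finset.sum_congr rfl fun cs hcs => by rw [(Finset.mem_filter.mp hcs).2],
      Finset.sum_const, hfib g hg, nsmul_eq_mul]
  have hT2 : ∑ cs ∈ T, f (π cs)
      = (Nat.card G : ℂ) * ∑ s : C, if ¬ p ∣ orderOf s then f (x * (s : G)) else 0 := by
    rw [Finset.sum_filter, Fintype.sum_prod_type]
    simp only [π, hf _ _, Finset.sum_const, Finset.card_univ, nsmul_eq_mul, Nat.card_eq_fintype_card]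
  rw [mul_right_comm, ← hT2, ← hsum, mul_comm (Nat.card C : ℂ), mul_assoc,
    mul_inv_cancel₀ (Nat.cast_ne_zero.mpr Nat.card_pos.ne'), mul_one]

end Cfsg.Agent.SecondMain
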