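import Cfsg.Agent.Lib.SecondMain.Second
import Cfsg.Agent.Lib.SecondMain.Sections
import Cfsg.Agent.Lib.BrauerPairs.RegularOrth

/-!
# Columns of a block

With `colSum B g h = ∑ χ ∈ B, χ g * conj (χ h)`: the block orthogonality of columns in different
`p`-sections (`colSum_eq_zero`), the local formula inside a section (`colSum_eq_sum`), and
`blockPart_eq_sum_induced` (the second main theorem for class functions).
-/

set_option autoImplicit false

open scoped ComplexConjugate

namespace Cfsg.Agent.SecondMain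

open Cfsg Blocks

variable {G : Type*} [Group G] {p : ℕ} {M : Ideal AlgInt}

/-- The sum over a block of the products of two columns. -/
noncomputable def colSum (B : Set (IrrCharacter G)) (g h : G) : ℂ :=
  ∑ᶠ χ ∈ B, (χ : G → ℂ) g * conj ((χ : G → ℂ) h)

/-- The blocks of `H` inducing `B`. -/
def inducedSet (M : Ideal AlgInt) (H : Subgroup G) (B : Set (IrrCharacter G)) :
    Set (Set (IrrCharacter H)) :=
  {b | IsInducedBlock M H b B}

variable [Finite G]

theorem finsum_blocks_eq (hM : IsPModular p M) {A : Type*} [AddCommMonoid A]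
    {S : Set (Set (IrrCharacter G))} (hS : ∀ b ∈ S, IsPBlock M b) (w : IrrCharacter G → A) :
    ∑ᶠ b ∈ S, ∑ᶠ η ∈ b, w η = ∑ᶠ η ∈ ⋃₀ S, w η := by
  refine (finsum_mem_sUnion (fun b hb b' hb' hne => ?_) (Set.toFinite S) fun b _ => Set.toFinite b).symm
  exact Set.disjoint_left.mpr fun η h h' => hne (isPBlock_eq_of_mem hM (hS b hb) (hS b' hb') h h')

theorem blockPart_apply [Fintype G] (b : Set (IrrCharacter G)) (θ : G → ℂ) (s : G) :
    blockPart b θ s = ∑ᶠ η ∈ b, classInner θ (η : G → ℂ) * (η : G → ℂ) s := by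
  rw [blockPart]
  congr!

theorem colSum_eq_sum_classInner [Fintype G] (b : Set (IrrCharacter G)) (θ : G → ℂ) (s : G) :
    blockPart b θ s = (Nat.card G : ℂ)⁻¹ * ∑ m, θ m * colSum b s m := by
  classical
  have := Fintype.ofFinite (IrrCharacter G)
  simp only [blockPart_apply, colSum, classInner, finsum_mem_eq_toFinset_sum, Finset.mul_sum,
    Finset.sum_mul]
  rw [Finset.sum_comm]
  exact Finset.sum_congr rfl fun m _ => Finset.sum_congr rfl fun η _ => by ring

/-- The block component at a `p'`-element only depends on the `p'`-elements. -/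
theorem blockPart_congr_regular (hM : IsPModular p M) {b : Set (IrrCharacter G)}
    (hb : IsPBlock M b) {θ θ' : G → ℂ} (h : ∀ m, ¬ p ∣ orderOf m → θ m = θ' m) {s : G}
    (hs : ¬ p ∣ orderOf s) : blockPart b θ s = blockPart b θ' s := by
  have := Fintype.ofFinite G
  rw [colSum_eq_sum_classInner, colSum_eq_sum_classInner]
  congr 1
  refine Finset.sum_congr rfl fun m _ => ?_
  by_cases hm : p ∣ orderOf m
  · rw [colSum, weak_orth hM (blockInd_mem_intRing hM hb) hs hm, mul_zero, mul_zero]
  · rw [h m hm]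

theorem blockPart_sum_smul {ι : Type*} (s : Finset ι) (b : Set (IrrCharacter G)) (a : ι → ℂ)
    (θ : ι → G → ℂ) (y : G) :
    blockPart b (∑ i ∈ s, a i • θ i) y = ∑ i ∈ s, a i * blockPart b (θ i) y := by
  have := Fintype.ofFinite G
  simp only [colSum_eq_sum_classInner, Finset.sum_apply, Pi.smul_apply, smul_eq_mul,
    Finset.mul_sum, Finset.sum_mul]
  rw [Finset.sum_comm]
  exact Finset.sum_congr rfl fun i _ => Finset.sum_congr rfl fun m _ => by ring

variable {H : Subgroup G} {x : G} {B : Set (IrrCharacter G)}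

theorem sum_induced_shift_of_mem (hM : IsPModular p M) (hx : ∃ k, orderOf x = p ^ k)
    (hH : ∀ g, g ∈ H ↔ Commute x g) (hB : IsPBlock M B) {χ : IrrCharacter G} (hχ : χ ∈ B)
    {s : H} (hs : ¬ p ∣ orderOf s) :
    ∑ᶠ b ∈ inducedSet M H B, blockPart b (fun c : H => (χ : G → ℂ) (x * (c : G))) s
      = (χ : G → ℂ) (x * (s : G)) := by
  classical
  have := Fintype.ofFinite H
  have := Fintype.ofFinite (IrrCharacter H)
  let θ : H → ℂ := fun c => (χ : G → ℂ) (x * (c : G))
  have hθ : IsClassFunction H θ :=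
    isClassFunction_shift (fun h hh => (hH h).mp hh) (irr_class χ)
  let S : Set (Set (IrrCharacter H)) := {b | IsPBlock M b}
  have hall : ∑ᶠ b ∈ S, blockPart b θ s = θ s := by
    simp only [blockPart_apply]
    have hU : ⋃₀ S = Set.univ := Set.eq_univ_of_forall fun η =>
      ⟨blockOf M (η : H → ℂ), ⟨η, rfl⟩, mem_blockOf_self hM η⟩
    rw [finsum_blocks_eq hM (S := S) (fun b hb => hb), hU, finsum_mem_univ, finsum_eq_sum_of_fintype]
    conv_rhs => rw [Char.classFunction_eq_sum hθ, Finset.sum_apply]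
    rfl
  show _ = θ s
  rw [← hall]
  refine (finsum_mem_eq_of_bijOn id ⟨fun b hb => hb, Function.injective_id.injOn, ?_⟩
    fun b _ => rfl).trans (finsum_mem_inter_support_eq' (fun b => blockPart b θ s) _ S fun b hb => ?_)
  · exact fun b hb => ⟨b, hb, rfl⟩
  constructor
  · exact fun h => h.1
  · intro hbS
    obtain ⟨B', hB'⟩ := exists_induced_centralizer hM hx hH hbS
    by_cases hBB : B' = B
    · exact hBB ▸ hB'
    · exact absurd (blockPart_shift_eq_zero hM hx hH hB'
        (fun h => hBB (isPBlock_eq_of_mem hM hB'.2.1 hB h hχ)) hs) hb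

theorem sum_induced_shift_of_notMem (hM : IsPModular p M) (hx : ∃ k, orderOf x = p ^ k)
    (hH : ∀ g, g ∈ H ↔ Commute x g) {χ : IrrCharacter G} (hχ : χ ∉ B)
    {s : H} (hs : ¬ p ∣ orderOf s) :
    ∑ᶠ b ∈ inducedSet M H B, blockPart b (fun c : H => (χ : G → ℂ) (x * (c : G))) s = 0 :=
  finsum_mem_of_eqOn_zero fun _ hb => blockPart_shift_eq_zero hM hx hH hb hχ hs

/-- The second main theorem for class functions. -/
theorem blockPart_eq_sum_induced (hM : IsPModular p M) (hx : ∃ k, orderOf x = p ^ k)
    (hH : ∀ g, g ∈ H ↔ Commute x g) (hB : IsPBlock M B) {ϑ : G → ℂ}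
    (hϑ : IsClassFunction G ϑ) {s : H} (hs : ¬ p ∣ orderOf s) :
    blockPart B ϑ (x * (s : G))
      = ∑ᶠ b ∈ inducedSet M H B, blockPart b (fun c : H => ϑ (x * (c : G))) s := by
  classical
  have := Fintype.ofFinite G
  have := Fintype.ofFinite (IrrCharacter G)
  have hfin : (inducedSet M H B).Finite := Set.toFinite _
  let a : IrrCharacter G → ℂ := fun χ => classInner ϑ (χ : G → ℂ)
  have hrw : (fun c : H => ϑ (x * (c : G)))
      = ∑ χ : IrrCharacter G, a χ • fun c : H => (χ : G → ℂ) (x * (c : G)) := by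
    funext c
    conv_lhs => rw [Char.classFunction_eq_sum hϑ]
    simp only [a, Finset.sum_apply, Pi.smul_apply]
  rw [hrw, blockPart_apply, finsum_mem_eq_finite_toFinset_sum _ hfin,
    finsum_mem_eq_toFinset_sum]
  simp only [blockPart_sum_smul]
  rw [Finset.sum_comm]
  simp only [← Finset.mul_sum]
  simp only [← finsum_mem_eq_finite_toFinset_sum _ hfin]
  refine ((Finset.sum_subset (Finset.subset_univ B.toFinset) fun χ _ hχ => ?_).symm.trans
    (Finset.sum_congr rfl fun χ hχ => ?_)).symm
  · rw [sum_induced_shift_of_notMem hM hx hH (fun h => hχ (Set.mem_toFinset.mpr h)) hs, mul_zero]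
  · rw [sum_induced_shift_of_mem hM hx hH hB (Set.mem_toFinset.mp hχ) hs]

open scoped Classical in
/-- The class function whose scalar products are the conjugated values at `h`. -/
noncomputable def colFun (h : G) (g : G) : ℂ :=
  if IsConj g h then (Nat.card (Subgroup.centralizer ({g} : Set G)) : ℂ) else 0

omit [Finite G] in
theorem colSum_apply_symm (B : Set (IrrCharacter G)) (g h : G) :
    colSum B g h = ∑ᶠ χ ∈ B, conj ((χ : G → ℂ) h) * (χ : G → ℂ) g := by
  simp only [colSum, mul_comm]

theorem colFun_eq [Fintype (IrrCharacter G)] (h : G) :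
    colFun h = ∑ χ : IrrCharacter G, conj ((χ : G → ℂ) h) • (χ : G → ℂ) := by
  classical
  have := Fintype.ofFinite G
  funext g
  rw [Finset.sum_apply]
  refine Eq.trans ?_ ((Char.column_orth g h).symm.trans (Finset.sum_congr rfl fun χ _ => mul_comm _ _))
  unfold colFun
  congr!

theorem isClassFunction_colFun (h : G) : IsClassFunction G (colFun h) := by
  have := Fintype.ofFinite G
  have := Fintype.ofFinite (IrrCharacter G)
  rw [colFun_eq]
  exact Char.isClassFunction_sum _ fun χ _ => Char.isClassFunction_smul (irr_class χ) _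

theorem colSum_eq_blockPart (B : Set (IrrCharacter G)) (g h : G) :
    colSum B g h = blockPart B (colFun h) g := by
  classical
  have := Fintype.ofFinite G
  have := Fintype.ofFinite (IrrCharacter G)
  rw [colSum_apply_symm, blockPart_apply]
  refine finsum_mem_congr rfl fun χ _ => ?_
  rw [colFun_eq, Char.classInner_sum_smul _ _ χ (Finset.mem_univ χ)]

theorem blockPart_zero (b : Set (IrrCharacter G)) (s : G) : blockPart b (0 : G → ℂ) s = 0 := by
  have := Fintype.ofFinite G
  simp [colSum_eq_sum_classInner]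

/-- Columns of a block in different sections are orthogonal. -/
theorem colSum_eq_zero (hM : IsPModular p M) (hB : IsPBlock M B) {x y x' y' : G}
    (hx : ∃ k, orderOf x = p ^ k) (hx' : ∃ k, orderOf x' = p ^ k) (hy : ¬ p ∣ orderOf y)
    (hy' : ¬ p ∣ orderOf y') (hc : Commute x y) (hc' : Commute x' y') (hne : ¬ IsConj x x') :
    colSum B (x * y) (x' * y') = 0 := by
  haveI : Fact p.Prime := ⟨hM.1⟩
  let C := Subgroup.centralizer ({x} : Set G)
  have hH : ∀ g, g ∈ C ↔ Commute x g := fun _ => commute_iff_mem_centralizer_singleton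
  let s : C := ⟨y, (hH y).mpr hc⟩
  have hs : ¬ p ∣ orderOf s := by rwa [← Subgroup.orderOf_coe]
  rw [colSum_eq_blockPart, show y = (s : G) from rfl,
    blockPart_eq_sum_induced hM hx hH hB (isClassFunction_colFun _) hs]
  refine finsum_mem_of_eqOn_zero fun b hb => ?_
  show blockPart b (fun c : C => colFun (x' * y') (x * (c : G))) s = 0
  rw [blockPart_congr_regular hM hb.1 (θ' := 0) (fun m hm => ?_) hs, blockPart_zero]
  show colFun (x' * y') (x * (m : G)) = 0
  unfold colFun
  rw [if_neg]
  intro h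
  obtain ⟨c, hc2⟩ := isConj_iff.mp h
  refine hne (isConj_iff.mpr ⟨c, (conj_parts hx hx' ?_ hy' ((hH m).mp m.2) hc' hc2).1⟩)
  rwa [Subgroup.orderOf_coe]

/-- The local formula for the columns of a block in one section. -/
theorem colSum_eq_sum (hM : IsPModular p M) (hB : IsPBlock M B) (hx : ∃ k, orderOf x = p ^ k)
    (hH : ∀ g, g ∈ H ↔ Commute x g) {s t : H} (hs : ¬ p ∣ orderOf s) (ht : ¬ p ∣ orderOf t) :
    colSum B (x * (s : G)) (x * (t : G)) = ∑ᶠ b ∈ inducedSet M H B, colSum b s t := by
  haveI : Fact p.Prime := ⟨hM.1⟩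
  classical
  rw [colSum_eq_blockPart, blockPart_eq_sum_induced hM hx hH hB (isClassFunction_colFun _) hs]
  refine finsum_mem_congr rfl fun b hb => ?_
  rw [colSum_eq_blockPart b s t]
  refine blockPart_congr_regular hM hb.1 (fun m hm => ?_) hs
  simp only [colFun]
  by_cases h : IsConj m t
  · rw [if_pos h, if_pos ((isConj_mul_iff hx hH hm ht).mpr h), card_centralizer_mul_eq hx hH hm]
  · rw [if_neg h, if_neg fun h' => h ((isConj_mul_iff hx hH hm ht).mp h')]

end Cfsg.Agent.SecondMain
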