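import Cfsg.Agent.Lib.SecondMain.DefectTwo

/-!
# Blocks with a defect group of order two

`defect_two`: such a block has two characters, equal on elements of odd order, and their values on
the section of the involution are `±` the canonical character.
-/

set_option autoImplicit false

open scoped ComplexConjugate

namespace Cfsg.Agent.SecondMain

open Cfsg Blocks

variable {G : Type*} [Group G] [Finite G] {p : ℕ} {M : Ideal AlgInt}

theorem induced_eq_of_normalizer [Fact p.Prime] (hM : IsPModular p M) {D H : Subgroup G}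
    (hD : IsPGroup p D) (hH : H = Subgroup.normalizer (D : Set G)) {B : Set (IrrCharacter G)}
    {b₁ b₂ : Set (IrrCharacter H)} (h₁ : IsInducedBlock M H b₁ B) (h₂ : IsInducedBlock M H b₂ B)
    (hD₁ : IsDefectGroup p M b₁ (D.subgroupOf H)) (hD₂ : IsDefectGroup p M b₂ (D.subgroupOf H)) :
    b₁ = b₂ := by
  subst hH
  exact first_main_unique hM hD h₁ h₂ hD₁ hD₂

theorem defect_two (hM : IsPModular 2 M) {x : G} (hx : orderOf x = 2)
    {B : Set (IrrCharacter G)} (hB : IsPBlock M B)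
    (hBD : IsDefectGroup 2 M B (Subgroup.zpowers x))
    {H : Subgroup G} (hH : ∀ g, g ∈ H ↔ Commute x g) {b : Set (IrrCharacter H)}
    (hb : IsInducedBlock M H b B) {θ : IrrCharacter H} (hθ : θ ∈ b)
    (hθx : ∀ z : H, (z : G) = x → (θ : H → ℂ) z = (θ : H → ℂ) 1) :
    Nat.card B = 2 ∧ (∀ χ ∈ B, ∀ ψ ∈ B, ∀ g : G, ¬ 2 ∣ orderOf g → (χ : G → ℂ) g = (ψ : G → ℂ) g) ∧
      ∃ χ₁ ∈ B, ∃ χ₂ ∈ B, χ₁ ≠ χ₂ ∧ ∃ ε₁ ε₂ : ℤ, (ε₁ = 1 ∨ ε₁ = -1) ∧ (ε₂ = 1 ∨ ε₂ = -1) ∧
        ε₁ * ε₂ = -1 ∧ ∀ y : H, ¬ 2 ∣ orderOf y →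
          (χ₁ : G → ℂ) (x * y) = (ε₁ : ℂ) * (θ : H → ℂ) y ∧
          (χ₂ : G → ℂ) (x * y) = (ε₂ : ℂ) * (θ : H → ℂ) y := by
  classical
  haveI : Fact (Nat.Prime 2) := ⟨Nat.prime_two⟩
  have := Fintype.ofFinite G
  have := Fintype.ofFinite (IrrCharacter G)
  have := Fintype.ofFinite H
  have := Fintype.ofFinite (IrrCharacter H)
  have hxk : ∃ k, orderOf x = 2 ^ k := ⟨1, by rw [hx, pow_one]⟩
  let z : H := ⟨x, (hH x).mpr (Commute.refl x)⟩
  have hz2 : orderOf z = 2 := by rw [← Subgroup.orderOf_coe]; exact hx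
  have hzc : z ∈ Subgroup.center H := Subgroup.mem_center_iff.mpr fun g =>
    Subtype.ext ((hH g).mp g.2).eq.symm
  haveI : (Subgroup.zpowers z).Normal := ⟨fun u hu g => by
    have h1 := Subgroup.zpowers_le.mpr hzc hu
    rwa [Subgroup.mem_center_iff.mp h1 g, mul_inv_cancel_right]⟩
  have hP : IsPGroup 2 (Subgroup.zpowers z) :=
    IsPGroup.of_card (n := 1) (by rw [Nat.card_zpowers, hz2, pow_one])
  have hsub : (Subgroup.zpowers x).subgroupOf H = Subgroup.zpowers z := by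
    have h1 : (Subgroup.zpowers z).map H.subtype = Subgroup.zpowers x := MonoidHom.map_zpowers _ _
    rw [← h1, Subgroup.subgroupOf, Subgroup.comap_map_eq_self_of_injective H.subtype_injective]
  -- the blocks of `H` inducing `B`
  have hdef : ∀ b', IsInducedBlock M H b' B → IsDefectGroup 2 M b' (Subgroup.zpowers z) := by
    intro b' hb'
    obtain ⟨D, hD⟩ := exists_isDefectGroup hM hb'.1
    have hle := normal_le_defectGroup hM hP hb'.1 hD
    obtain ⟨E, hE, hDE⟩ := exists_defectGroup_ge_of_induced hM hb' hD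
    obtain ⟨g, hg⟩ := isDefectGroup_conj_eq hM hB hBD hE
    have h2 := Subgroup.card_le_of_le hDE
    rw [← hg, card_conjSub, Subgroup.card_map_of_injective H.subtype_injective, Nat.card_zpowers,
      hx] at h2
    rwa [Subgroup.eq_of_le_of_card_ge hle (by rw [Nat.card_zpowers, hz2]; exact h2)]
  have hnorm : H = Subgroup.normalizer (Subgroup.zpowers x : Set G) := by
    ext g
    rw [hH, Subgroup.mem_normalizer_iff]
    constructor
    · intro h u
      have h1 : ∀ i : ℤ, g * x ^ i * g⁻¹ = x ^ i := fun i => by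
        rw [← (h.zpow_left i).eq, mul_inv_cancel_right]
      constructor
      · intro hu
        obtain ⟨i, rfl⟩ := Subgroup.mem_zpowers_iff.mp hu
        exact (h1 i).symm ▸ Subgroup.zpow_mem_zpowers x i
      · intro hu
        obtain ⟨i, hi⟩ := Subgroup.mem_zpowers_iff.mp hu
        have h2 : u = x ^ i := mul_left_cancel (mul_right_cancel (hi.symm.trans (h1 i).symm))
        exact h2 ▸ Subgroup.zpow_mem_zpowers x i
    · intro h
      obtain ⟨i, hi⟩ := Subgroup.mem_zpowers_iff.mp ((h x).mp (Subgroup.mem_zpowers x))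
      have hx2 : ∀ j : ℤ, x ^ (2 * j) = 1 := fun j => by
        rw [zpow_mul, zpow_two, ← sq, ← hx, pow_orderOf_eq_one, one_zpow]
      rcases Int.even_or_odd' i with ⟨j, hj | hj⟩
      · exfalso
        rw [hj, hx2, eq_comm, conj_eq_one_iff] at hi
        rw [hi, orderOf_one] at hx
        omega
      · rw [hj, zpow_add_one, hx2, one_mul] at hi
        exact (mul_inv_eq_iff_eq_mul.mp hi.symm).symm
  have huniq : inducedSet M H B = {b} := by
    ext b'
    refine ⟨fun hb' => ?_, fun h => h ▸ hb⟩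
    exact induced_eq_of_normalizer hM (IsPGroup.of_card (n := 1) (by rw [Nat.card_zpowers, hx, pow_one]))
      hnorm hb' hb (by rw [hsub]; exact hdef b' hb') (by rw [hsub]; exact hdef b hb)
  obtain ⟨hagree, hhalf⟩ := central_defect_two hM hzc hz2 hb.1 (hdef b hb) hθ (hθx z rfl)
  have hbcard : (b.toFinset.card : ℂ) = 2 := by
    have h := regInner_idem hM hb.1 hθ (θ : H → ℂ)
    have h1 : ∀ φ ∈ b.toFinset, regInner 2 (θ : H → ℂ) (φ : H → ℂ) * regInner 2 (φ : H → ℂ) (θ : H → ℂ)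
        = 2⁻¹ * 2⁻¹ := by
      intro φ hφ
      have heq : regInner 2 (φ : H → ℂ) (θ : H → ℂ) = regInner 2 (θ : H → ℂ) (θ : H → ℂ) := by
        rw [regInner_eq_sum, regInner_eq_sum]
        congr 1
        exact Finset.sum_congr rfl fun g hg => by
          rw [hagree φ (Set.mem_toFinset.mp hφ) g (Finset.mem_filter.mp hg).2]
      rw [← conj_regInner (φ : H → ℂ) (θ : H → ℂ), heq, conj_regInner, hhalf]
    rw [finsum_mem_eq_toFinset_sum, Finset.sum_congr rfl h1, Finset.sum_const, nsmul_eq_mul,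
      hhalf] at h
    linear_combination 4 * h
  -- integral coordinates
  have hex : ∀ χ : IrrCharacter G, ∃ C : ℤ, χ ∈ B → ∀ s : H, ¬ 2 ∣ orderOf s →
      (χ : G → ℂ) (x * (s : G)) = (C : ℂ) * (θ : H → ℂ) s := by
    intro χ
    have hint : ∀ η : IrrCharacter H, ∃ n : ℤ,
        classInner (fun c : H => (χ : G → ℂ) (x * (c : G))) (η : H → ℂ) = (n : ℂ) := by
      intro η
      obtain ⟨c, hc1, hc⟩ := exists_central_scalar hzc η
      obtain ⟨n, hn⟩ := Char.IsCharacter.classInner_nat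
        (Char.IsCharacter.restrict (Char.IsIrrCharacter.isCharacter χ.2) H) (Char.IsIrrCharacter.isCharacter η.2)
      rw [hz2, sq, mul_self_eq_one_iff] at hc1
      have h1 : classInner (fun c : H => (χ : G → ℂ) (x * (c : G))) (η : H → ℂ)
          = c * classInner (fun k : H => (χ : G → ℂ) (k : G)) (η : H → ℂ) := by
        simp only [classInner, Finset.mul_sum]
        refine Fintype.sum_equiv (Equiv.mulLeft z) _ _ fun k => ?_
        rw [Equiv.coe_mulLeft, hc, Subgroup.coe_mul, map_mul]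
        rcases hc1 with h | h <;> simp only [h, map_one, map_neg] <;> ring
      rcases hc1 with h | h
      · exact ⟨n, by rw [h1, h, one_mul, Int.cast_natCast]; exact hn⟩
      · exact ⟨-n, by rw [h1, h, neg_one_mul, Int.cast_neg, Int.cast_natCast]; exact congrArg Neg.neg hn⟩
    choose n hn using hint
    refine ⟨∑ η ∈ b.toFinset, n η, fun hχ s hs => ?_⟩
    rw [← sum_induced_shift_of_mem hM hxk hH hB hχ hs, huniq, finsum_mem_singleton, blockPart_apply,
      finsum_mem_eq_toFinset_sum, Int.cast_sum, Finset.sum_mul]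
    exact Finset.sum_congr rfl fun η hη => by rw [hn, hagree η (Set.mem_toFinset.mp hη) s hs]
  choose C hC using hex
  have h1reg : ¬ 2 ∣ orderOf (1 : H) := by simp
  have hθ0 : (θ : H → ℂ) 1 ≠ 0 := irr_one_ne_zero θ
  have hxval : ∀ χ ∈ B, (χ : G → ℂ) x = (C χ : ℂ) * (θ : H → ℂ) 1 := fun χ hχ => by
    have h := hC χ hχ 1 h1reg
    rwa [Subgroup.coe_one, mul_one] at h
  have hsum : ∑ χ ∈ B.toFinset, C χ * C χ = 2 := by
    have h := colSum_eq_sum hM hB hxk hH (s := 1) (t := 1) h1reg h1reg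
    have hr : colSum b (1 : H) 1 = 2 * ((θ : H → ℂ) 1 * conj ((θ : H → ℂ) 1)) := by
      rw [colSum, finsum_mem_eq_toFinset_sum, Finset.sum_congr rfl (fun η hη => by
        rw [hagree η (Set.mem_toFinset.mp hη) 1 h1reg]), Finset.sum_const, nsmul_eq_mul, hbcard]
    rw [huniq, finsum_mem_singleton, hr, colSum, finsum_mem_eq_toFinset_sum] at h
    simp only [Subgroup.coe_one, mul_one] at h
    rw [Finset.sum_congr rfl (fun χ hχ => by rw [hxval χ (Set.mem_toFinset.mp hχ), map_mul,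
      map_intCast, mul_mul_mul_comm]), ← Finset.sum_mul] at h
    have hne : (θ : H → ℂ) 1 * conj ((θ : H → ℂ) 1) ≠ 0 :=
      mul_ne_zero hθ0 ((map_ne_zero _).mpr hθ0)
    have h2 : ((∑ χ ∈ B.toFinset, C χ * C χ : ℤ) : ℂ) = ((2 : ℤ) : ℂ) := by
      push_cast
      exact mul_right_cancel₀ hne h
    exact Int.cast_inj.mp h2
  have hC1 : ∀ χ ∈ B.toFinset, C χ ≠ 0 → C χ = 1 ∨ C χ = -1 := by
    intro χ hχ h0
    have h2 : C χ * C χ ≤ 2 :=
      hsum ▸ Finset.single_le_sum (f := fun χ => C χ * C χ) (fun φ _ => mul_self_nonneg _) hχ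
    have h3 : -1 ≤ C χ ∧ C χ ≤ 1 := ⟨by nlinarith, by nlinarith⟩
    omega
  set T := B.toFinset.filter fun χ => C χ ≠ 0 with hTdef
  have hTcard : T.card = 2 := by
    have h : ((T.card : ℤ)) = 2 := by
      rw [← hsum, Finset.card_eq_sum_ones, Nat.cast_sum, hTdef, Finset.sum_filter]
      refine Finset.sum_congr rfl fun χ hχ => ?_
      by_cases h0 : C χ = 0
      · rw [if_neg (not_not_intro h0), h0, mul_zero]
      · rw [if_pos h0]
        rcases hC1 χ hχ h0 with h | h <;> simp [h]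
    exact_mod_cast h
  obtain ⟨χ₁, χ₂, hne, hTeq⟩ := Finset.card_eq_two.mp hTcard
  have hm₁ : χ₁ ∈ T := hTeq ▸ Finset.mem_insert_self _ _
  have hm₂ : χ₂ ∈ T := hTeq ▸ Finset.mem_insert_of_mem (Finset.mem_singleton_self _)
  have hχ₁ : χ₁ ∈ B := Set.mem_toFinset.mp (Finset.mem_filter.mp hm₁).1
  have hχ₂ : χ₂ ∈ B := Set.mem_toFinset.mp (Finset.mem_filter.mp hm₂).1
  have hvan : ∀ χ ∈ B, C χ = 0 → ∀ g : G, 2 ∣ orderOf g → (χ : G → ℂ) g = 0 := by
    intro χ hχ h0 g hg
    obtain ⟨y, t, rfl, hym, htm, hyk, htc⟩ := Transfer.exists_pPart_mul (p := 2) g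
    have ht : ¬ 2 ∣ orderOf t := (Nat.prime_two.coprime_iff_not_dvd).mp htc.symm
    have hc : Commute y t := by
      obtain ⟨i, hi⟩ := Subgroup.mem_zpowers_iff.mp hym
      obtain ⟨j, hj⟩ := Subgroup.mem_zpowers_iff.mp htm
      have h1 := (Commute.refl (y * t)).zpow_zpow i j
      rwa [hi, hj] at h1
    by_cases hyx : IsConj y x
    · obtain ⟨c, hc'⟩ := isConj_iff.mp hyx
      have hs : c * t * c⁻¹ ∈ H := (hH _).mpr (hc' ▸ hc.map (MulAut.conj c).toMonoidHom)
      have hsr : ¬ 2 ∣ orderOf (⟨_, hs⟩ : H) := by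
        rw [← Subgroup.orderOf_coe]
        show ¬ 2 ∣ orderOf (c * t * c⁻¹)
        rwa [orderOf_conj]
      have h := hC χ hχ ⟨_, hs⟩ hsr
      rw [h0, Int.cast_zero, zero_mul] at h
      rw [← irr_class χ (y * t) c, ← h, ← hc']
      refine congrArg _ ?_
      show c * (y * t) * c⁻¹ = c * y * c⁻¹ * (c * t * c⁻¹)
      group
    · refine apply_eq_zero_of_notMem_defect hM hB hyk ht hc (fun E hE hyE => ?_) hχ
      obtain ⟨c, rfl⟩ := isDefectGroup_conj_eq hM hB hBD hE
      rw [mem_conjSub] at hyE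
      obtain ⟨i, hi⟩ := Subgroup.mem_zpowers_iff.mp hyE
      have hx2 : ∀ j : ℤ, x ^ (2 * j) = 1 := fun j => by
        rw [zpow_mul, zpow_two, ← sq, ← hx, pow_orderOf_eq_one, one_zpow]
      rcases Int.even_or_odd' i with ⟨j, hj | hj⟩
      · rw [hj, hx2] at hi
        have hy1 : y = 1 := by
          calc y = c * (c⁻¹ * y * c) * c⁻¹ := by group
            _ = 1 := by rw [← hi]; group
        rw [hy1, one_mul] at hg
        exact ht hg
      · rw [hj, zpow_add_one, hx2, one_mul] at hi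
        exact hyx (isConj_iff.mpr ⟨c⁻¹, by rw [inv_inv, hi]⟩)
  have hBeq : ∀ χ ∈ B, χ = χ₁ ∨ χ = χ₂ := by
    intro χ hχ
    by_contra hcon
    push Not at hcon
    have h0 : C χ = 0 := by
      by_contra h
      have : χ ∈ T := Finset.mem_filter.mpr ⟨Set.mem_toFinset.mpr hχ, h⟩
      rw [hTeq, Finset.mem_insert, Finset.mem_singleton] at this
      exact this.elim hcon.1 hcon.2
    have hzero : ∀ φ ∈ B, φ ≠ χ → regInner 2 (χ : G → ℂ) (φ : G → ℂ) = 0 := by
      intro φ _ hφ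
      rw [← Char.classInner_irr_of_ne χ.2 φ.2 fun h => hφ (Subtype.ext h.symm)]
      unfold regInner classInner
      congr 1
      refine Finset.sum_congr rfl fun g _ => ?_
      by_cases hg : 2 ∣ orderOf g
      · rw [pRegularPart_of_singular hg, hvan χ hχ h0 g hg]
      · rw [pRegularPart_of_regular hg]
    obtain ⟨ψ, hψ, hψ0⟩ := exists_height_zero hM hB
    by_cases hψχ : ψ = χ
    · subst hψχ
      refine regInner_ne_zero hM hB hχ₁ hψ hψ0 ?_
      rw [← conj_regInner, hzero χ₁ hχ₁ (Ne.symm hcon.1), map_zero]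
    · exact regInner_ne_zero hM hB hχ hψ hψ0 (hzero ψ hψ hψχ)
  have hBset : B.toFinset = {χ₁, χ₂} := by
    ext φ
    simp only [Set.mem_toFinset, Finset.mem_insert, Finset.mem_singleton]
    exact ⟨hBeq φ, fun h => h.elim (fun h => h ▸ hχ₁) fun h => h ▸ hχ₂⟩
  have hε₁ := hC1 χ₁ (Finset.mem_filter.mp hm₁).1 (Finset.mem_filter.mp hm₁).2
  have hε₂ := hC1 χ₂ (Finset.mem_filter.mp hm₂).1 (Finset.mem_filter.mp hm₂).2
  have horth : ∀ g : G, ¬ 2 ∣ orderOf g →
      (C χ₁ : ℂ) * conj ((χ₁ : G → ℂ) g) + (C χ₂ : ℂ) * conj ((χ₂ : G → ℂ) g) = 0 := by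
    intro g hg
    have h := colSum_eq_zero (x := x) (y := 1) (x' := 1) (y' := g) hM hB hxk ⟨0, by rw [orderOf_one, pow_zero]⟩
      (by simp) hg (Commute.one_right x) (Commute.one_left g)
      (fun h => by rw [isConj_one_left] at h; rw [h, orderOf_one] at hx; omega)
    rw [mul_one, one_mul, colSum, finsum_mem_eq_toFinset_sum, hBset, Finset.sum_pair hne,
      hxval χ₁ hχ₁, hxval χ₂ hχ₂] at h
    have h2 : (θ : H → ℂ) 1 * ((C χ₁ : ℂ) * conj ((χ₁ : G → ℂ) g) +
        (C χ₂ : ℂ) * conj ((χ₂ : G → ℂ) g)) = 0 := by linear_combination h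
    exact (mul_eq_zero.mp h2).resolve_left hθ0
  have hprod : C χ₁ * C χ₂ = -1 := by
    have h := horth 1 (by simp)
    rw [← charDegree_cast, ← charDegree_cast, Complex.conj_natCast, Complex.conj_natCast] at h
    have h1 : C χ₁ * (charDegree (χ₁ : G → ℂ) : ℤ) + C χ₂ * (charDegree (χ₂ : G → ℂ) : ℤ) = 0 := by
      exact_mod_cast h
    have := charDegree_pos χ₁
    have := charDegree_pos χ₂
    rcases hε₁ with e₁ | e₁ <;> rcases hε₂ with e₂ | e₂ <;> rw [e₁, e₂] at h1 ⊢ <;> omega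
  have heq : ∀ g : G, ¬ 2 ∣ orderOf g → (χ₁ : G → ℂ) g = (χ₂ : G → ℂ) g := by
    intro g hg
    have h := congrArg conj (horth g hg)
    simp only [map_add, map_mul, map_intCast, Complex.conj_conj, map_zero] at h
    rcases hε₁ with e₁ | e₁ <;> rcases hε₂ with e₂ | e₂ <;> rw [e₁, e₂] at h hprod <;>
      first | omega | (push_cast at h; linear_combination h) | (push_cast at h; linear_combination -h)
  refine ⟨?_, ?_, χ₁, hχ₁, χ₂, hχ₂, hne, C χ₁, C χ₂, hε₁, hε₂, hprod,
    fun y hy => ⟨hC χ₁ hχ₁ y hy, hC χ₂ hχ₂ y hy⟩⟩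
  · rw [Nat.card_eq_fintype_card, ← Set.toFinset_card, hBset, Finset.card_pair hne]
  · intro χ hχ ψ hψ g hg
    rcases hBeq χ hχ with rfl | rfl <;> rcases hBeq ψ hψ with rfl | rfl <;>
      first | rfl | exact heq g hg | exact (heq g hg).symm

end Cfsg.Agent.SecondMain
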