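import Cfsg.Agent.Lib.Blocks.CentralFun
import Cfsg.Agent.Lib.Blocks.Trace

/-!
# Traces of permutations on lattices without trivial source

`sum_perm_eq_zero_of_fixed`: if `E` is an idempotent kernel with local integer entries on a finite
type, invariant under a permutation `σ` of `p`-power order, and its entries between fixed points of
`σ` lie in the local ideal, then `∑ a, E (σ a) a = 0`.
-/

set_option autoImplicit false

namespace Cfsg.Agent.SecondMain

open Cfsg Blocks

variable {p : ℕ} {M : Ideal AlgInt}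

/-- Congruent idempotent matrices commuting with `S` have equal trace after composing with `S`. -/
theorem trace_mul_eq_of_congr {n : Type*} [Fintype n] [DecidableEq n] (hM : IsPModular p M)
    (P Q S : Matrix n n ℂ) (hP : P * P = P) (hQ : Q * Q = Q) (hPR : ∀ i j, MemLocalRing M (P i j))
    (hPQ : ∀ i j, MemLocalIdeal M (P i j - Q i j)) (hSP : S * P = P * S) (hSQ : S * Q = Q * S) :
    (S * P).trace = (S * Q).trace := by
  let D : Matrix n n ℂ := P * Q + (1 - P) * (1 - Q)
  have hD1 : D - 1 = (2 • P - 1) * (Q - P) := by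
    simp only [D, two_smul, sub_mul, add_mul, mul_sub, one_mul, mul_one, hP]
    abel
  have hD : D.det ≠ 0 := by
    refine det_ne_zero_of_congr_one hM D fun i j => ?_
    rw [← Matrix.sub_apply, hD1, Matrix.mul_apply]
    refine memI_sum hM _ fun k _ => memI_mul_left hM ?_ ?_
    · rw [two_smul, Matrix.sub_apply, Matrix.add_apply, Matrix.one_apply]
      refine memR_sub hM (memR_add hM (hPR i k) (hPR i k)) ?_
      split_ifs
      · exact memR_one hM
      · exact memR_zero hM
    · exact memI_sub_comm (hPQ k j)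
  have hPD : P * D = D * Q := by
    simp only [D, mul_add, add_mul, ← mul_assoc, hP]
    rw [show P * (1 - P) = 0 by rw [mul_sub, mul_one, hP, sub_self]]
    rw [show (1 - P) * (1 - Q) * Q = 0 by rw [mul_assoc, sub_mul 1 Q, one_mul, hQ, sub_self, mul_zero]]
    rw [mul_assoc P Q Q, hQ, zero_mul]
  have hSD : S * D = D * S := by
    simp only [D, mul_add, add_mul, ← mul_assoc, hSP]
    have h1 : S * (1 - P) = (1 - P) * S := by rw [mul_sub, sub_mul, hSP, mul_one, one_mul]
    have h2 : S * (1 - Q) = (1 - Q) * S := by rw [mul_sub, sub_mul, hSQ, mul_one, one_mul]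
    rw [h1, mul_assoc P S Q, hSQ, mul_assoc (1 - P) S, h2, ← mul_assoc P, ← mul_assoc]
  have hu : IsUnit D.det := isUnit_iff_ne_zero.mpr hD
  calc (S * P).trace = (S * P * D * D⁻¹).trace := by
        rw [mul_assoc (S * P), Matrix.mul_nonsing_inv D hu, mul_one]
    _ = (D⁻¹ * (S * P * D)).trace := Matrix.trace_mul_comm _ _
    _ = (S * Q).trace := by
        rw [mul_assoc S, hPD, ← mul_assoc S D, hSD, mul_assoc D, ← mul_assoc D⁻¹,
          Matrix.nonsing_inv_mul D hu, one_mul]

theorem eq_of_zpow_fixed {α : Type*} {σ : Equiv.Perm α} {k : ℕ} (hp : p.Prime)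
    (hσ : σ ^ p ^ k = 1) {r : α} {d : ℤ} (hd : (σ ^ d) r = r) (hnd : ¬ (p : ℤ) ∣ d) : σ r = r := by
  obtain ⟨u, v, huv⟩ : IsCoprime d ((p ^ k : ℕ) : ℤ) := by
    push_cast
    exact (((Nat.prime_iff_prime_int.mp hp).coprime_iff_not_dvd.mpr hnd).symm).pow_right
  have h1 : σ ^ (1 : ℤ) = (σ ^ d) ^ u := by
    rw [← zpow_mul, ← huv, zpow_add, mul_comm v, zpow_mul σ _ v, zpow_natCast, hσ, one_zpow, mul_one,
      mul_comm u d]
  rw [zpow_one] at h1
  conv_lhs => rw [h1]
  exact Equiv.Perm.zpow_apply_eq_self_of_apply_eq_self hd u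

/-- A permutation of `p`-power order without fixed points has an eigenfunction for a primitive
`p`-th root of unity, with `p`-power roots of unity as values. -/
theorem exists_weight {α : Type*} {σ : Equiv.Perm α} {k : ℕ} (hp : p.Prime)
    (hσ : σ ^ p ^ k = 1) (hfree : ∀ a, σ a ≠ a) {ω : ℂ} (hω : IsPrimitiveRoot ω p) :
    ∃ w : α → ℂ, (∀ a, w (σ a) = ω * w a) ∧ ∀ a, w a ^ p = 1 := by
  classical
  let rep : α → α := fun a => (Quotient.mk (Equiv.Perm.SameCycle.setoid σ) a).out
  have hrep : ∀ a, σ.SameCycle (rep a) a := fun a =>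
    Quotient.exact (Quotient.out_eq (Quotient.mk (Equiv.Perm.SameCycle.setoid σ) a))
  choose i hi using hrep
  have hω0 : ω ≠ 0 := hω.ne_zero hp.ne_zero
  refine ⟨fun a => ω ^ i a, fun a => ?_, fun a => ?_⟩
  · have hsame : rep (σ a) = rep a :=
      congrArg Quotient.out (Quotient.sound (s := Equiv.Perm.SameCycle.setoid σ)
        (Equiv.Perm.SameCycle.symm ⟨1, by simp⟩))
    have hfix : (σ ^ (-(i (σ a)) + (1 + i a))) (rep a) = rep a := by
      rw [zpow_add, Equiv.Perm.mul_apply, zpow_one_add, Equiv.Perm.mul_apply, hi a]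
      conv_lhs => arg 2; rw [← hi (σ a), hsame]
      rw [← Equiv.Perm.mul_apply, ← zpow_add, neg_add_cancel, zpow_zero, Equiv.Perm.one_apply]
    have hdvd : (p : ℤ) ∣ -(i (σ a)) + (1 + i a) := by
      by_contra h
      exact hfree (rep a) (eq_of_zpow_fixed hp hσ hfix h)
    have h1 : ω ^ (-(i (σ a)) + (1 + i a)) = 1 := (hω.zpow_eq_one_iff_dvd _).mpr hdvd
    rw [zpow_add₀ hω0, zpow_neg, inv_mul_eq_one₀ (zpow_ne_zero _ hω0)] at h1
    show ω ^ i (σ a) = ω * ω ^ i a
    rw [h1, zpow_add₀ hω0, zpow_one]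
  · rw [← zpow_natCast, ← zpow_mul, mul_comm, zpow_mul, zpow_natCast, hω.pow_eq_one, one_zpow]

/-- The case without fixed points. -/
theorem sum_perm_eq_zero_of_free {α : Type*} [Fintype α] (hM : IsPModular p M) (σ : Equiv.Perm α)
    {k : ℕ} (hσ : σ ^ p ^ k = 1) (hfree : ∀ a, σ a ≠ a) (E : α → α → ℂ)
    (hR : ∀ a b, MemLocalRing M (E a b)) (hinv : ∀ a b, E (σ a) (σ b) = E a b)
    (hidem : ∀ a b, ∑ c, E a c * E c b = E a b) : ∑ a, E (σ a) a = 0 := by
  classical
  have hp := hM.1
  haveI : NeZero (p : ℂ) := ⟨Nat.cast_ne_zero.mpr hp.ne_zero⟩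
  have hω : IsPrimitiveRoot (Complex.exp (2 * Real.pi * Complex.I / p)) p :=
    Complex.isPrimitiveRoot_exp p hp.ne_zero
  set ω := Complex.exp (2 * Real.pi * Complex.I / p)
  obtain ⟨w, hw, hwp⟩ := exists_weight hp hσ hfree hω
  have hw0 : ∀ a, w a ≠ 0 := fun a h => by simpa [h, hp.ne_zero] using hwp a
  let P : Matrix α α ℂ := Matrix.of E
  let Q : Matrix α α ℂ := Matrix.of fun a b => w a * E a b * (w b)⁻¹
  let S : Matrix α α ℂ := Matrix.of fun i j => if j = σ i then 1 else 0
  have hSmul : ∀ (R : Matrix α α ℂ) (i j : α), (S * R) i j = R (σ i) j := by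
    intro R i j
    simp [S, Matrix.mul_apply]
  have hmulS : ∀ (R : Matrix α α ℂ) (i j : α), (R * S) i j = R i (σ.symm j) := by
    intro R i j
    rw [Matrix.mul_apply, Finset.sum_eq_single (σ.symm j)]
    · simp [S]
    · intro a _ hne
      simp only [S, Matrix.of_apply]
      rw [if_neg, mul_zero]
      intro h
      exact hne (by simp [h])
    · simp
  have hinv' : ∀ a b, E (σ a) b = E a (σ.symm b) := fun a b => by
    conv_lhs => rw [← σ.apply_symm_apply b]
    exact hinv _ _
  have hP : P * P = P := by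
    ext a b
    simp only [P, Matrix.mul_apply, Matrix.of_apply, hidem]
  have hQ : Q * Q = Q := by
    ext a b
    simp only [Q, Matrix.mul_apply, Matrix.of_apply]
    have : ∀ c, w a * E a c * (w c)⁻¹ * (w c * E c b * (w b)⁻¹) =
        w a * (E a c * E c b) * (w b)⁻¹ := fun c => by
      have := hw0 c
      field_simp
    rw [Finset.sum_congr rfl fun c _ => this c, ← Finset.sum_mul, ← Finset.mul_sum, hidem]
  have hPQ : ∀ a b, MemLocalIdeal M (P a b - Q a b) := by
    intro a b
    have h1 : (w a * (w b)⁻¹) ^ p ^ 1 = 1 := by rw [pow_one, mul_pow, inv_pow, hwp, hwp, inv_one, mul_one]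
    have : P a b - Q a b = -((w a * (w b)⁻¹ - 1) * E a b) := by
      simp only [P, Q, Matrix.of_apply]; ring
    rw [this]
    exact memI_neg (memI_mul_right hM (memI_sub_one_of_pow_eq_one hM h1) (hR a b))
  have hSP : S * P = P * S := by
    ext a b
    rw [hSmul, hmulS]
    exact hinv' a b
  have hSQ : S * Q = Q * S := by
    ext a b
    rw [hSmul, hmulS]
    simp only [Q, Matrix.of_apply, hw, hinv']
    have h2 : w b = ω * w (σ.symm b) := by rw [← hw, Equiv.apply_symm_apply]
    have := hω.ne_zero hp.ne_zero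
    rw [h2, mul_inv]
    field_simp
  have key := trace_mul_eq_of_congr hM P Q S hP hQ hR hPQ hSP hSQ
  simp only [Matrix.trace, Matrix.diag_apply, hSmul] at key
  simp only [P, Q, Matrix.of_apply, hw] at key
  have h3 : ∀ a, ω * w a * E (σ a) a * (w a)⁻¹ = ω * E (σ a) a := fun a => by
    have := hw0 a
    field_simp
  rw [Finset.sum_congr rfl (fun a _ => h3 a), ← Finset.mul_sum] at key
  by_contra hne
  exact hω.ne_one hp.one_lt (mul_eq_right₀ hne |>.mp key.symm)

/-- Fixed points whose block lies in the local ideal do not contribute. -/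
theorem sum_perm_eq_zero_of_fixed {α : Type*} [Fintype α] (hM : IsPModular p M) (σ : Equiv.Perm α)
    {k : ℕ} (hσ : σ ^ p ^ k = 1) (E : α → α → ℂ) (hR : ∀ a b, MemLocalRing M (E a b))
    (hinv : ∀ a b, E (σ a) (σ b) = E a b) (hidem : ∀ a b, ∑ c, E a c * E c b = E a b)
    (hfix : ∀ a b, σ a = a → σ b = b → MemLocalIdeal M (E a b)) : ∑ a, E (σ a) a = 0 := by
  classical
  let F := {a : α // σ a = a}
  let N := {a : α // ¬ σ a = a}
  have hσN : ∀ a, ¬ σ a = a ↔ ¬ σ (σ a) = σ a := fun a => not_congr σ.injective.eq_iff.symm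
  let τ : Equiv.Perm N := σ.subtypePerm (p := fun a => ¬ σ a = a) fun a => (hσN a).symm
  have hτ : ∀ a : N, (τ a : α) = σ a := fun a => rfl
  let S := locRing hM
  let A : Matrix F F S := Matrix.of fun a b => ⟨E a b, hR _ _⟩
  let B : Matrix F N S := Matrix.of fun a b => ⟨E a b, hR _ _⟩
  have hdet : IsUnit (1 - A).det := by
    have h1 : ((1 - A).det : ℂ) = ((1 - A).map S.subtype).det := RingHom.map_det S.subtype _
    have h2 : ∀ i j, MemLocalIdeal M (((1 - A).map S.subtype) i j - (1 : Matrix F F ℂ) i j) := by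
      intro i j
      have : ((1 - A).map S.subtype) i j - (1 : Matrix F F ℂ) i j = -E i j := by
        simp only [Matrix.map_apply, Matrix.sub_apply, map_sub, Matrix.one_apply]
        split_ifs <;> simp [A]
      rw [this]
      exact memI_neg (hfix _ _ i.2 j.2)
    have h3 : ¬ MemLocalIdeal M ((1 - A).det : ℂ) := by
      intro hI
      rw [h1] at hI
      have h4 : MemLocalIdeal M (((1 - A).map S.subtype).det - 1) := by
        rw [Matrix.det_apply', ← Finset.add_sum_erase _ _ (Finset.mem_univ (1 : Equiv.Perm F))]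
        rw [Equiv.Perm.sign_one, Units.val_one, Int.cast_one, one_mul, add_sub_right_comm]
        refine memI_add hM (memI_prod_sub_one hM _ fun i _ => ?_) (memI_sum hM _ fun π hπ => ?_)
        · simpa using h2 i i
        · obtain ⟨i, hi⟩ : ∃ i, π i ≠ i := by
            by_contra hcon
            push Not at hcon
            exact (Finset.mem_erase.mp hπ).1 (Equiv.ext hcon)
          refine memI_mul_left hM (memR_intCast hM _) ?_
          rw [← Finset.mul_prod_erase _ _ (Finset.mem_univ i)]
          refine memI_mul_right hM ?_ (memR_prod hM _ fun j _ => ((1 - A) (π j) j).2)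
          simpa [Matrix.map_apply, hi] using h2 (π i) i
      exact not_memI_one hM (by simpa using memI_sub hM hI h4)
    refine ⟨⟨(1 - A).det, ⟨((1 - A).det : ℂ)⁻¹, memR_inv hM (1 - A).det.2 h3⟩, ?_, ?_⟩, rfl⟩
    · exact Subtype.ext (mul_inv_cancel₀ (ne_zero_of_not_memI hM h3))
    · exact Subtype.ext (inv_mul_cancel₀ (ne_zero_of_not_memI hM h3))
  let W : Matrix F N S := (1 - A)⁻¹ * B
  let L : α → N → ℂ := fun a n =>
    if h : σ a = a then (W ⟨a, h⟩ n : ℂ) else if a = (n : α) then 1 else 0
  have hLR : ∀ a n, MemLocalRing M (L a n) := by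
    intro a n
    simp only [L]
    split_ifs
    · exact (W ⟨a, _⟩ n).2
    · exact memR_one hM
    · exact memR_zero hM
  -- `L` factors `E`
  have hLY : ∀ a b, ∑ n : N, L a n * E n b = E a b := by
    intro a b
    by_cases ha : σ a = a
    · let EF : F → S := fun f => ⟨E f b, hR _ _⟩
      let EN : N → S := fun n => ⟨E n b, hR _ _⟩
      have h1 : B.mulVec EN = (1 - A).mulVec EF := by
        funext f
        apply Subtype.ext
        rw [Matrix.sub_mulVec, Matrix.one_mulVec, Pi.sub_apply]
        simp only [Matrix.mulVec, dotProduct]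
        push_cast
        simp only [B, A, EN, EF, Matrix.of_apply]
        rw [eq_sub_iff_add_eq, add_comm, ← hidem f.1 b]
        exact Fintype.sum_subtype_add_sum_subtype (fun c => σ c = c) (fun c => E f c * E c b)
      have h2 : W.mulVec EN = EF := by
        rw [← Matrix.mulVec_mulVec, h1, Matrix.mulVec_mulVec, Matrix.nonsing_inv_mul _ hdet,
          Matrix.one_mulVec]
      have h3 := congrArg (fun v : F → S => (v ⟨a, ha⟩ : ℂ)) h2
      simp only [Matrix.mulVec, dotProduct] at h3
      push_cast at h3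
      simp only [L, dif_pos ha]
      exact h3
    · rw [Finset.sum_eq_single (⟨a, ha⟩ : N)]
      · simp [L, ha]
      · intro n _ hne
        have : a ≠ (n : α) := fun h => hne (Subtype.ext h.symm)
        simp [L, ha, this]
      · simp
  have hW : ∀ (f : F) (n : N), W f (τ n) = W f n := by
    intro f n
    simp only [W, Matrix.mul_apply]
    refine Finset.sum_congr rfl fun g _ => ?_
    congr 1
    apply Subtype.ext
    simp only [B, Matrix.of_apply, hτ]
    conv_lhs => rw [← g.2]
    exact hinv _ _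
  have hLinv : ∀ a n, L (σ a) (τ n) = L a n := by
    intro a n
    by_cases ha : σ a = a
    · have ha' : σ (σ a) = σ a := by rw [ha, ha]
      simp only [L, dif_pos ha', dif_pos ha, hW]
      congr 3
    · simp only [L, dif_neg ((hσN a).mp ha), dif_neg ha, hτ, σ.injective.eq_iff]
  -- the idempotent on the moved points
  let P : N → N → ℂ := fun i j => ∑ a, E i a * L a j
  have hP : ∀ i j, ∑ l, P i l * P l j = P i j := by
    let Y : Matrix N α ℂ := Matrix.of fun n a => E n a
    let Lm : Matrix α N ℂ := Matrix.of L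
    have h1 : Lm * Y = Matrix.of E := by
      ext a b
      simpa [Lm, Y, Matrix.mul_apply] using hLY a b
    have h2 : Y * Matrix.of E = Y := by
      ext n b
      simpa [Y, Matrix.mul_apply] using hidem n b
    have h3 : Y * Lm = Matrix.of P := by
      ext n j
      simp [P, Y, Lm, Matrix.mul_apply]
    have h4 : Matrix.of P * Matrix.of P = Matrix.of P := by
      rw [← h3, Matrix.mul_assoc, ← Matrix.mul_assoc Lm, h1, ← Matrix.mul_assoc, h2]
    intro a b
    simpa [Matrix.mul_apply] using congrFun (congrFun h4 a) b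
  have hτk : τ ^ p ^ k = 1 := by
    refine Equiv.ext fun a => Subtype.ext ?_
    have hpow : ∀ n : ℕ, ((τ ^ n) a : α) = (σ ^ n) a := by
      intro n
      induction n with
      | zero => rfl
      | succ n ih => rw [pow_succ', pow_succ', Equiv.Perm.mul_apply, Equiv.Perm.mul_apply, hτ, ih]
    rw [hpow, hσ]
    rfl
  have key := sum_perm_eq_zero_of_free hM τ hτk (fun a h => a.2 (congrArg Subtype.val h)) P
    (fun i j => memR_sum hM _ fun a _ => memR_mul hM (hR _ _) (hLR _ _))
    (fun i j => by
      simp only [P]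
      refine (Fintype.sum_equiv σ _ _ fun a => ?_).symm
      rw [hLinv, hτ, hinv]) hP
  rw [← key]
  calc ∑ a, E (σ a) a = ∑ a, ∑ n : N, L (σ a) n * E n a :=
        Finset.sum_congr rfl fun a _ => (hLY _ _).symm
    _ = ∑ a, ∑ n : N, E (τ n) a * L a n := by
        refine Finset.sum_congr rfl fun a _ => ?_
        rw [← Fintype.sum_equiv τ (fun n : N => L (σ a) (τ n) * E (τ n) a) _ fun n => rfl]
        exact Finset.sum_congr rfl fun n _ => by rw [hLinv, mul_comm]
    _ = _ := Finset.sum_comm

end Cfsg.Agent.SecondMain
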