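import Cfsg.Agent.Lib.SecondMain.Rank
import Cfsg.Agent.Lib.ZStar.Third
import Cfsg.Agent.Lib.BrauerPairs.PNilpotent

/-!
# The second main theorem for the principal block

`inducedSet_principal` (only the principal block of `C(x)` induces the principal block),
`apply_shift_principal` and `sum_sq_principal_of_complement`.
-/

set_option autoImplicit false

open scoped ComplexConjugate

namespace Cfsg.Agent.SecondMain

open Cfsg Blocks

variable {G : Type*} [Group G] [Finite G] {p : ℕ} {M : Ideal AlgInt}

theorem omega_one_apply [Fintype G] (z : G → ℂ) :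
    omega ((BrauerPairs.oneIrr G : IrrCharacter G) : G → ℂ) z = ∑ g, z g := by
  rw [omega_eq_sum]
  simp [BrauerPairs.oneIrr]

theorem memI_principal_restrict (hM : IsPModular p M) {x : G} (hx : ∃ k, orderOf x = p ^ k)
    {H : Subgroup G} (hH : ∀ g, g ∈ H ↔ Commute x g) (k : H) :
    MemLocalIdeal M (blockCoeff (principalBlock M G) (k : G) - blockCoeff (principalBlock M H) k) := by
  haveI : Fact p.Prime := ⟨hM.1⟩
  obtain ⟨j, hj⟩ := hx
  have heq : H = Subgroup.centralizer (Subgroup.zpowers x : Set G) := by
    ext g
    rw [hH, mem_centralizer_zpowers_iff]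
  have hP : IsPGroup p (Subgroup.zpowers x) :=
    IsPGroup.of_card (n := j) (by rw [Nat.card_zpowers, hj])
  rw [BrauerPairs.blockCoeff_principalBlock_equiv (MulEquiv.subgroupCongr heq) k]
  exact ZStar.third_main_principal hM (Subgroup.zpowers x) hP (MulEquiv.subgroupCongr heq k)

/-- Only the principal block of `C(x)` induces the principal block. -/
theorem inducedSet_principal (hM : IsPModular p M) {x : G} (hx : ∃ k, orderOf x = p ^ k)
    {H : Subgroup G} (hH : ∀ g, g ∈ H ↔ Commute x g) :
    inducedSet M H (principalBlock M G) = {principalBlock M H} := by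
  classical
  have := Fintype.ofFinite G
  have := Fintype.ofFinite H
  have hB0 : IsPBlock M (principalBlock M G) := BrauerPairs.isPBlock_principal
  have hb0 : IsPBlock M (principalBlock M H) := BrauerPairs.isPBlock_principal
  have hone : omega ((BrauerPairs.oneIrr G : IrrCharacter G) : G → ℂ) (blockCoeff (principalBlock M G)) = 1 := by
    rw [omega_one_apply, BrauerPairs.sum_blockCoeff (BrauerPairs.oneIrr_mem_principal hM)]
  -- the restricted idempotent against the central characters of `H`
  have hres : ∀ ξ : IrrCharacter H, MemLocalIdeal M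
      (omega (ξ : H → ℂ) (fun k : H => blockCoeff (principalBlock M G) (k : G))
        - blockInd (principalBlock M H) ξ) := by
    intro ξ
    have hz : IsClassFunction H fun k : H => blockCoeff (principalBlock M G) (k : G) :=
      fun g n => by
        simp only [Subgroup.coe_mul, Subgroup.coe_inv]
        exact isClassFunction_blockCoeff (principalBlock M G) _ _
    have h := memI_omega hM (z := fun k : H =>
        blockCoeff (principalBlock M G) (k : G) - blockCoeff (principalBlock M H) k)
      (fun g n => by simp only [hz g n, isClassFunction_blockCoeff (principalBlock M H) g n])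
      (memI_principal_restrict hM hx hH) ξ
    rw [omega_eq_sum] at h
    simp only [sub_mul, Finset.sum_sub_distrib, sub_div, ← omega_eq_sum] at h
    rwa [blockCoeff_eq_ofOmega (principalBlock M H), omega_ofOmega] at h
  ext b
  constructor
  · intro hb
    refine Set.mem_singleton_iff.mpr ?_
    obtain ⟨ξ, hξ⟩ := isPBlock_nonempty hM hb.1
    by_contra hne
    have hn : ξ ∉ principalBlock M H := fun h => hne (isPBlock_eq_of_mem hM hb.1 hb0 hξ h)
    have h1 := omega_restrict_congr hM hb hξ (BrauerPairs.oneIrr_mem_principal hM)
      (isClassFunction_blockCoeff (principalBlock M G)) (memR_blockCoeff hM hB0)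
    rw [hone] at h1
    have h2 := hres ξ
    rw [blockInd_of_notMem hn, sub_zero] at h2
    exact not_memI_one hM (by simpa using memI_sub hM h2 h1)
  · intro hb
    obtain rfl := Set.mem_singleton_iff.mp hb
    obtain ⟨B, hB⟩ := exists_induced_centralizer hM hx hH hb0
    obtain ⟨χ, hχ⟩ := isPBlock_nonempty hM hB.2.1
    by_cases h : χ ∈ principalBlock M G
    · exact isPBlock_eq_of_mem hM hB.2.1 hB0 hχ h ▸ hB
    · exfalso
      have h1 := omega_restrict_congr hM hB (BrauerPairs.oneIrr_mem_principal hM) hχ
        (isClassFunction_blockCoeff (principalBlock M G)) (memR_blockCoeff hM hB0)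
      have h3 : omega (χ : G → ℂ) (blockCoeff (principalBlock M G)) = 0 := by
        rw [blockCoeff_eq_ofOmega, omega_ofOmega, blockInd_of_notMem h]
      rw [h3, sub_zero] at h1
      have h2 := hres (BrauerPairs.oneIrr H)
      rw [blockInd_of_mem (BrauerPairs.oneIrr_mem_principal hM)] at h2
      exact not_memI_one hM (by simpa using memI_sub hM h1 h2)

/-- If `C(x)` has a normal `p`-complement, principal characters are constant on the part of the
`x`-section over `x`, and their values at `x` have squares summing to the `p`-part of `|C(x)|`. -/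
theorem apply_shift_principal [Fact p.Prime] (hM : IsPModular p M) {x : G} (hx : ∃ k, orderOf x = p ^ k)
    {H : Subgroup G} (hH : ∀ g, g ∈ H ↔ Commute x g) (hc : HasNormalPComplement p H)
    {χ : IrrCharacter G} (hχ : χ ∈ principalBlock M G) {s : H} (hs : ¬ p ∣ orderOf s) :
    (χ : G → ℂ) (x * (s : G)) = (χ : G → ℂ) x := by
  classical
  have := Fintype.ofFinite H
  have := Fintype.ofFinite (IrrCharacter H)
  have h1reg : ¬ p ∣ orderOf (1 : H) := by simpa using hM.1.one_lt.ne'
  have hline : ∀ η ∈ principalBlock M H, (η : H → ℂ) s = (η : H → ℂ) 1 := by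
    intro η hη
    let v : Submodule.span ℂ ((fun χ : IrrCharacter H => pRegularPart p (χ : H → ℂ)) '' principalBlock M H) :=
      ⟨pRegularPart p ((BrauerPairs.oneIrr H : IrrCharacter H) : H → ℂ),
        Submodule.subset_span ⟨_, BrauerPairs.oneIrr_mem_principal hM, rfl⟩⟩
    have hone : ∀ g : H, ¬ p ∣ orderOf g →
        pRegularPart p ((BrauerPairs.oneIrr H : IrrCharacter H) : H → ℂ) g = 1 := fun g hg => by
      rw [pRegularPart_of_regular hg]
      rfl
    have hv : v ≠ 0 := fun h => by
      have h2 := congrFun (congrArg Subtype.val h) 1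
      simp only [v, hone 1 h1reg, ZeroMemClass.coe_zero, Pi.zero_apply, one_ne_zero] at h2
    obtain ⟨c, hc'⟩ := (finrank_eq_one_iff_of_nonzero' v hv).mp
      (BrauerPairs.blockRank_principal_of_complement hM hc)
      ⟨pRegularPart p (η : H → ℂ), Submodule.subset_span ⟨η, hη, rfl⟩⟩
    have h2 : ∀ g : H, ¬ p ∣ orderOf g → (η : H → ℂ) g = c := fun g hg => by
      have h3 := congrFun (congrArg Subtype.val hc') g
      simp only [v, Submodule.coe_smul, Pi.smul_apply, smul_eq_mul, hone g hg,
        pRegularPart_of_regular hg, mul_one] at h3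
      exact h3.symm
    rw [h2 s hs, h2 1 h1reg]
  have hB0 : IsPBlock M (principalBlock M G) := BrauerPairs.isPBlock_principal
  have hs1 := sum_induced_shift_of_mem hM hx hH hB0 hχ hs
  have h11 := sum_induced_shift_of_mem hM hx hH hB0 hχ h1reg
  rw [inducedSet_principal hM hx hH, finsum_mem_singleton, blockPart_apply] at hs1 h11
  rw [Subgroup.coe_one, mul_one] at h11
  rw [← hs1, ← h11]
  exact finsum_mem_congr rfl fun η hη => by rw [hline η hη]

open scoped Classical in
theorem sum_sq_principal_of_complement [Fact p.Prime] (hM : IsPModular p M) {x : G}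
    (hx : ∃ k, orderOf x = p ^ k) {H : Subgroup G} [Fintype H] (hH : ∀ g, g ∈ H ↔ Commute x g)
    (hc : HasNormalPComplement p H) :
    ((Finset.univ.filter fun s : H => ¬ p ∣ orderOf s).card : ℂ) *
      ∑ᶠ χ ∈ principalBlock M G, (χ : G → ℂ) x * conj ((χ : G → ℂ) x) = (Nat.card H : ℂ) := by
  have := Fintype.ofFinite G
  have := Fintype.ofFinite (IrrCharacter G)
  have hB0 : IsPBlock M (principalBlock M G) := BrauerPairs.isPBlock_principal
  have hb : IsInducedBlock M H (principalBlock M H) (principalBlock M G) := by
    have h := inducedSet_principal hM hx hH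
    exact (h ▸ Set.mem_singleton _ : principalBlock M H ∈ inducedSet M H (principalBlock M G))
  have h := sum_blockPart_sq hM hx hH hB0 hb
  rw [BrauerPairs.blockRank_principal_of_complement hM hc, Nat.cast_one, mul_one,
    finsum_mem_eq_toFinset_sum] at h
  rw [← h, finsum_mem_eq_toFinset_sum, Finset.mul_sum]
  refine Finset.sum_congr rfl fun χ hχ => ?_
  rw [Finset.sum_congr rfl fun s hs => ?_, Finset.sum_const, nsmul_eq_mul]
  have hs' := sum_induced_shift_of_mem hM hx hH hB0 (Set.mem_toFinset.mp hχ) (Finset.mem_filter.mp hs).2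
  rw [inducedSet_principal hM hx hH, finsum_mem_singleton] at hs'
  rw [hs', apply_shift_principal hM hx hH hc (Set.mem_toFinset.mp hχ) (Finset.mem_filter.mp hs).2]

end Cfsg.Agent.SecondMain
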