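import Cfsg.Agent.Lib.SecondMain.CycloTrace

/-!
# The mean of an integral form at a vector of roots of unity

`avg_val` (the mean is a sum of form values at differences), `two_le_avg_val` (at least two if the
form does not represent one) and `two_le_avg_normSq` (`‖P(z)‖²` has mean at least two if `p ∣ P(1)`).
-/

set_option autoImplicit false

open scoped ComplexConjugate

namespace Cfsg.Agent.CycloTrace

open Polynomial Finset

variable {p n : ℕ} [Fact p.Prime] {ι : Type*} [Fintype ι]

/-- The bilinear form of an integer matrix. -/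
def bil (C : ι → ι → ℤ) (u w : ι → ℤ) : ℤ := ∑ i, ∑ j, u i * C i j * w j

/-- The form at the vector `m i * z ^ e i`. -/
noncomputable def val (C : ι → ι → ℤ) (m : ι → ℤ) (e : ι → ℕ) (z : ℂ) : ℂ :=
  ∑ i, ∑ j, (m i : ℂ) * z ^ e i * (C i j : ℂ) * conj ((m j : ℂ) * z ^ e j)

/-- The part of `m` with exponents in the class of `r + k * p ^ n`. -/
def part (p n : ℕ) (m : ι → ℤ) (e : ι → ℕ) (r k : ℕ) (i : ι) : ℤ :=
  if e i % p ^ n = r ∧ e i / p ^ n % p = k then m i else 0

/-- The value of the form at a difference of two parts. -/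
def pairVal (p n : ℕ) (C : ι → ι → ℤ) (m : ι → ℤ) (e : ι → ℕ) (r k k' : ℕ) : ℤ :=
  bil C (part p n m e r k - part p n m e r k') (part p n m e r k - part p n m e r k')

theorem dvd_add_iff_mod {N K a b : ℕ} (hN : 1 ≤ N) (hK : K ∣ N) :
    K ∣ a + (N - 1) * b ↔ a % K = b % K := by
  have h : a + (N - 1) * b + b ≡ a [MOD K] := by
    rw [add_assoc, ← Nat.succ_mul, Nat.succ_eq_add_one, Nat.sub_add_cancel hN]
    exact (Nat.ModEq.refl a).add ((Nat.modEq_zero_iff_dvd.mpr (hK.mul_right b))) |>.trans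
      (by rw [add_zero])
  rw [← Nat.modEq_zero_iff_dvd]
  constructor
  · intro h0
    have h1 := h.symm.trans (h0.add_right b)
    rwa [zero_add] at h1
  · intro hab
    refine Nat.ModEq.add_right_cancel' b ?_
    rw [zero_add]
    exact h.trans hab

theorem sum_part (m : ι → ℤ) (e : ι → ℕ) (r : ℕ) (i : ι) :
    ∑ k ∈ range p, part p n m e r k i = if e i % p ^ n = r then m i else 0 := by
  by_cases h : e i % p ^ n = r
  · rw [sum_eq_single (e i / p ^ n % p)]
    · simp [part, h]
    · exact fun k _ hk => if_neg fun h' => hk h'.2.symm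
    · exact fun h' => absurd (mem_range.mpr (Nat.mod_lt _ (Fact.out (p := p.Prime)).pos)) h'
  · simp [part, h]

theorem sum_part_mul_same (m : ι → ℤ) (e : ι → ℕ) (i j : ι) :
    ∑ r ∈ range (p ^ n), ∑ k ∈ range p, part p n m e r k i * part p n m e r k j
      = if e i % p ^ (n + 1) = e j % p ^ (n + 1) then m i * m j else 0 := by
  have hp : 0 < p := (Fact.out (p := p.Prime)).pos
  rw [sum_eq_single (e i % p ^ n), sum_eq_single (e i / p ^ n % p)]
  · have hiff : e i % p ^ (n + 1) = e j % p ^ (n + 1) ↔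
        e j % p ^ n = e i % p ^ n ∧ e j / p ^ n % p = e i / p ^ n % p := by
      have hM : 0 < p ^ n := pow_pos hp n
      rw [pow_succ, Nat.mod_mul, Nat.mod_mul]
      constructor
      · intro h
        have h1 := congrArg (· % p ^ n) h
        simp only [Nat.add_mul_mod_self_left, Nat.mod_mod] at h1
        refine ⟨h1.symm, ?_⟩
        rw [h1] at h
        exact (Nat.eq_of_mul_eq_mul_left hM (Nat.add_left_cancel h)).symm
      · rintro ⟨h1, h2⟩
        rw [h1, h2]
    rw [part, if_pos ⟨rfl, rfl⟩, part]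
    simp only [hiff, mul_ite, mul_zero]
  · exact fun k _ hk => by rw [part, if_neg fun h => hk h.2.symm, zero_mul]
  · exact fun h => absurd (mem_range.mpr (Nat.mod_lt _ hp)) h
  · exact fun r _ hr => sum_eq_zero fun k _ => by
      rw [part, if_neg fun h => hr h.1.symm, zero_mul]
  · exact fun h => absurd (mem_range.mpr (Nat.mod_lt _ (pow_pos hp n))) h

theorem sum_part_mul_all (m : ι → ℤ) (e : ι → ℕ) (i j : ι) :
    ∑ r ∈ range (p ^ n), (∑ k ∈ range p, part p n m e r k i) * ∑ k ∈ range p, part p n m e r k j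
      = if e i % p ^ n = e j % p ^ n then m i * m j else 0 := by
  simp only [sum_part]
  rw [sum_eq_single (e i % p ^ n)]
  · rw [if_pos rfl, mul_ite, mul_zero]
    simp only [eq_comm]
  · exact fun r _ hr => by rw [if_neg (fun h => hr h.symm), zero_mul]
  · exact fun h => absurd (mem_range.mpr (Nat.mod_lt _ (pow_pos (Fact.out (p := p.Prime)).pos n))) h

theorem sum_pairVal (C : ι → ι → ℤ) (m : ι → ℤ) (e : ι → ℕ) :
    ∑ r ∈ range (p ^ n), ∑ k ∈ range p, ∑ k' ∈ range p, pairVal p n C m e r k k'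
      = 2 * ∑ i, ∑ j, C i j * (m i * m j) *
          ((p : ℤ) * (if e i % p ^ (n + 1) = e j % p ^ (n + 1) then 1 else 0)
            - (if e i % p ^ n = e j % p ^ n then 1 else 0)) := by
  simp only [pairVal, bil, Pi.sub_apply]
  rw [mul_sum]
  rw [sum_congr rfl fun r _ => (sum_congr rfl fun k _ => sum_comm).trans sum_comm, sum_comm]
  refine sum_congr rfl fun i _ => ?_
  rw [sum_congr rfl fun r _ => (sum_congr rfl fun k _ => sum_comm).trans sum_comm, sum_comm, mul_sum]
  refine sum_congr rfl fun j _ => ?_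
  have h : ∀ r ∈ range (p ^ n), (∑ k ∈ range p, ∑ k' ∈ range p,
      (part p n m e r k i - part p n m e r k' i) * C i j *
        (part p n m e r k j - part p n m e r k' j))
      = 2 * C i j * ((p : ℤ) * ∑ k ∈ range p, part p n m e r k i * part p n m e r k j
          - (∑ k ∈ range p, part p n m e r k i) * ∑ k ∈ range p, part p n m e r k j) := fun r _ => by
    set a : ℕ → ℤ := fun k => part p n m e r k i
    set b : ℕ → ℤ := fun k => part p n m e r k j
    show ∑ k ∈ range p, ∑ k' ∈ range p, (a k - a k') * C i j * (b k - b k')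
      = 2 * C i j * ((p : ℤ) * ∑ k ∈ range p, a k * b k - (∑ k ∈ range p, a k) * ∑ k ∈ range p, b k)
    have e1 : ∀ k k', (a k - a k') * C i j * (b k - b k')
        = C i j * (a k * b k) + C i j * (a k' * b k') - (C i j * (a k * b k') + C i j * (a k' * b k)) :=
      fun k k' => by ring
    simp only [e1, sum_sub_distrib, sum_add_distrib, sum_const, card_range, nsmul_eq_mul, ← mul_sum,
      ← sum_mul]
    ring
  rw [sum_congr rfl h, ← mul_sum, sum_sub_distrib, ← mul_sum, sum_part_mul_same, sum_part_mul_all]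
  split_ifs <;> ring

theorem val_conj (C : ι → ι → ℤ) (hsym : ∀ i j, C i j = C j i) (m : ι → ℤ) (e : ι → ℕ) (z : ℂ) :
    conj (val C m e z) = val C m e z := by
  simp only [val, map_sum, map_mul, map_pow, map_intCast, Complex.conj_conj]
  rw [sum_comm]
  exact sum_congr rfl fun i _ => sum_congr rfl fun j _ => by rw [hsym j i]; ring

/-- The mean of the form through the values at differences of parts. -/
theorem avg_val (C : ι → ι → ℤ) (m : ι → ℤ) (e : ι → ℕ) :
    2 * ((p : ℝ) - 1) * avg p n (fun z => (val C m e z).re)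
      = ((∑ r ∈ range (p ^ n), ∑ k ∈ range p, ∑ k' ∈ range p, pairVal p n C m e r k k' : ℤ) : ℝ) := by
  have hp : p.Prime := Fact.out
  have hsum : ∑ z ∈ prim p n, val C m e z
      = (((p : ℤ) ^ n * ∑ i, ∑ j, C i j * (m i * m j) *
          ((p : ℤ) * (if e i % p ^ (n + 1) = e j % p ^ (n + 1) then 1 else 0)
            - (if e i % p ^ n = e j % p ^ n then 1 else 0)) : ℤ) : ℂ) := by
    push_cast
    simp only [val]
    rw [sum_comm, mul_sum]
    refine sum_congr rfl fun i _ => ?_
    rw [sum_comm, mul_sum]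
    refine sum_congr rfl fun j _ => ?_
    have hz : ∀ z ∈ prim p n, (m i : ℂ) * z ^ e i * (C i j : ℂ) * conj ((m j : ℂ) * z ^ e j)
        = (C i j : ℂ) * ((m i : ℂ) * (m j : ℂ)) * z ^ (e i + (p ^ (n + 1) - 1) * e j) := fun z hz => by
      rw [map_mul, map_pow, map_intCast, conj_eq_pow (mem_prim.mp hz), ← pow_mul, pow_add]
      ring
    rw [sum_congr rfl hz, ← mul_sum, sum_pow]
    simp only [dvd_add_iff_mod (NeZero.one_le (n := p ^ (n + 1))) dvd_rfl,
      dvd_add_iff_mod (NeZero.one_le (n := p ^ (n + 1))) (pow_dvd_pow p n.le_succ)]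
    split_ifs <;> ring
  have hre : ∑ z ∈ prim p n, (val C m e z).re
      = (((p : ℤ) ^ n * ∑ i, ∑ j, C i j * (m i * m j) *
          ((p : ℤ) * (if e i % p ^ (n + 1) = e j % p ^ (n + 1) then 1 else 0)
            - (if e i % p ^ n = e j % p ^ n then 1 else 0)) : ℤ) : ℝ) := by
    rw [← Complex.re_sum, hsum, Complex.intCast_re]
  rw [avg, hre, sum_pairVal, card_prim, Nat.cast_mul, Nat.cast_sub hp.one_le, Nat.cast_pow]
  push_cast
  have h1 : (p : ℝ) - 1 ≠ 0 := sub_ne_zero.mpr (by exact_mod_cast hp.one_lt.ne')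
  have h2 : (p : ℝ) ^ n ≠ 0 := pow_ne_zero _ (by exact_mod_cast hp.ne_zero)
  field_simp

variable {C : ι → ι → ℤ} {K : ℤ}

theorem mul_bil_self (hsym : ∀ i j, C i j = C j i) (hC : ∀ i j, ∑ k, C i k * C k j = K * C i j)
    (u : ι → ℤ) : K * bil C u u = ∑ k, (∑ i, C k i * u i) ^ 2 := by
  simp only [bil, mul_sum, sq, sum_mul]
  rw [sum_comm (γ := ι) (s := univ) (t := univ) (f := fun k i => ∑ j, C k j * u j * (C k i * u i))]
  refine sum_congr rfl fun i _ => ?_
  rw [sum_comm]
  refine sum_congr rfl fun j _ => ?_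
  calc K * (u i * C i j * u j) = (∑ k, C i k * C k j) * (u i * u j) := by rw [hC]; ring
    _ = _ := by
      rw [sum_mul]
      exact sum_congr rfl fun k _ => by rw [hsym i k]; ring

theorem bil_self_nonneg (hsym : ∀ i j, C i j = C j i)
    (hC : ∀ i j, ∑ k, C i k * C k j = K * C i j) (hK : 0 < K) (u : ι → ℤ) : 0 ≤ bil C u u :=
  nonneg_of_mul_nonneg_right (mul_bil_self hsym hC u ▸ sum_nonneg fun k _ => sq_nonneg _) hK

theorem bil_self_eq_zero (hsym : ∀ i j, C i j = C j i)
    (hC : ∀ i j, ∑ k, C i k * C k j = K * C i j) (hK : 0 < K) (u : ι → ℤ) :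
    bil C u u = 0 ↔ ∀ k, ∑ i, C k i * u i = 0 := by
  constructor
  · intro h k
    have h1 := mul_bil_self hsym hC u
    rw [h, mul_zero, eq_comm, sum_eq_zero_iff_of_nonneg fun k _ => sq_nonneg _] at h1
    exact pow_eq_zero_iff two_ne_zero |>.mp (h1 k (mem_univ k))
  · intro h
    have h1 := mul_bil_self hsym hC u
    simp only [h, ne_eq, OfNat.ofNat_ne_zero, not_false_eq_true, zero_pow, sum_const_zero] at h1
    exact (mul_eq_zero.mp h1).resolve_left hK.ne'

/-- In one class a nonzero difference forces many. -/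
theorem class_bound (hsym : ∀ i j, C i j = C j i) (hC : ∀ i j, ∑ k, C i k * C k j = K * C i j)
    (hK : 0 < K) (m : ι → ℤ) (e : ι → ℕ) (r : ℕ) {c : ℤ}
    (hc : ∀ k k', pairVal p n C m e r k k' ≠ 0 → c ≤ pairVal p n C m e r k k')
    (hc0 : 0 ≤ c) {k₀ k₁ : ℕ} (hk₀ : k₀ ∈ range p) (hk₁ : k₁ ∈ range p)
    (h : pairVal p n C m e r k₀ k₁ ≠ 0) :
    2 * c * ((p : ℤ) - 1) ≤ ∑ k ∈ range p, ∑ k' ∈ range p, pairVal p n C m e r k k' := by
  classical
  set f : ℕ → ℕ → ℤ := pairVal p n C m e r with hf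
  set v : ℕ → ι → ℤ := part p n m e r
  have hcomm : ∀ k k', f k k' = f k' k := fun k k' => by
    simp only [hf, pairVal, bil, Pi.sub_apply]
    exact sum_congr rfl fun i _ => sum_congr rfl fun j _ => by ring
  have hnn : ∀ k k', 0 ≤ f k k' := fun k k' => bil_self_nonneg hsym hC hK _
  have hne : k₀ ≠ k₁ := fun h' => h (by simp [hf, pairVal, bil, h'])
  have htwo : ∀ k, c ≤ f k k₀ + f k k₁ := fun k => by
    by_cases h0 : f k k₀ = 0
    · by_cases h1 : f k k₁ = 0
      · refine absurd ((bil_self_eq_zero hsym hC hK _).mpr fun a => ?_) h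
        have e0 := (bil_self_eq_zero hsym hC hK _).mp h0 a
        have e1 := (bil_self_eq_zero hsym hC hK _).mp h1 a
        simp only [Pi.sub_apply, mul_sub, sum_sub_distrib] at e0 e1 ⊢
        linarith
      · linarith [hc k k₁ h1]
    · linarith [hc k k₀ h0, hnn k k₁]
  set s := ((range p).erase k₀).erase k₁
  have hk₁' : k₁ ∈ (range p).erase k₀ := mem_erase.mpr ⟨hne.symm, hk₁⟩
  have hsplit : ∀ F : ℕ → ℤ, ∑ k ∈ range p, F k = F k₀ + (F k₁ + ∑ k ∈ s, F k) := fun F => by
    rw [← add_sum_erase _ _ hk₀, ← add_sum_erase _ _ hk₁']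
  have hcard : (s.card : ℤ) = (p : ℤ) - 2 := by
    have h2 := (Fact.out (p := p.Prime)).two_le
    rw [card_erase_of_mem hk₁', card_erase_of_mem hk₀, card_range]
    omega
  have hs : c * ((p : ℤ) - 2) ≤ ∑ k ∈ s, (f k k₀ + f k k₁) := by
    refine le_trans (le_of_eq ?_) (sum_le_sum fun k _ => htwo k)
    rw [sum_const, nsmul_eq_mul, hcard, mul_comm]
  have hrest : ∑ k ∈ s, (f k k₀ + f k k₁) ≤ ∑ k ∈ s, ∑ k' ∈ range p, f k k' := by
    refine sum_le_sum fun k _ => ?_
    rw [hsplit (f k)]
    linarith [sum_nonneg (s := s) fun k' _ => hnn k k']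
  rw [hsplit fun k => ∑ k' ∈ range p, f k k', hsplit (f k₀), hsplit (f k₁)]
  have e1 : ∑ k ∈ s, f k₀ k + ∑ k ∈ s, f k₁ k = ∑ k ∈ s, (f k k₀ + f k k₁) := by
    rw [sum_add_distrib, sum_congr rfl fun k _ => hcomm k₀ k,
      sum_congr rfl fun k _ => hcomm k₁ k]
  have := hc k₀ k₁ h
  linarith [hcomm k₀ k₁, hnn k₀ k₀, hnn k₁ k₁]

theorem exists_pair (hsym : ∀ i j, C i j = C j i) (hC : ∀ i j, ∑ k, C i k * C k j = K * C i j)
    (hK : 0 < K) (m : ι → ℤ) (e : ι → ℕ) {a : ι}
    (ha : ∑ i, (C a i : ℂ) * ((m i : ℂ) * root p n ^ e i) ≠ 0) :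
    ∃ r ∈ range (p ^ n), ∃ k ∈ range p, ∃ k' ∈ range p, pairVal p n C m e r k k' ≠ 0 := by
  by_contra hcon
  push Not at hcon
  have hp : p.Prime := Fact.out
  refine ha ?_
  set ζ := root p n
  set M := p ^ n
  have hζ : IsPrimitiveRoot ζ (p ^ (n + 1)) := isPrimitiveRoot_root
  have hω : IsPrimitiveRoot (ζ ^ M) p := hζ.pow (NeZero.pos _) (pow_succ p n)
  have hterm : ∀ i, (m i : ℂ) * ζ ^ e i = ∑ r ∈ range M, ∑ k ∈ range p,
      (part p n m e r k i : ℂ) * (ζ ^ r * (ζ ^ M) ^ k) := fun i => by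
    rw [sum_eq_single (e i % M), sum_eq_single (e i / M % p)]
    · rw [part, if_pos ⟨rfl, rfl⟩, ← pow_mul, ← pow_add, pow_eq_pow_mod (e i) hζ.pow_eq_one,
        pow_succ, Nat.mod_mul]
    · exact fun k _ hk => by rw [part, if_neg fun h' => hk h'.2.symm, Int.cast_zero, zero_mul]
    · exact fun h => absurd (mem_range.mpr (Nat.mod_lt _ hp.pos)) h
    · exact fun r _ hr => sum_eq_zero fun k _ => by
        rw [part, if_neg fun h' => hr h'.1.symm, Int.cast_zero, zero_mul]
    · exact fun h => absurd (mem_range.mpr (Nat.mod_lt _ (pow_pos hp.pos n))) h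
  simp only [hterm, mul_sum]
  rw [sum_comm]
  refine sum_eq_zero fun r hr => ?_
  rw [sum_comm]
  have hconst : ∀ k ∈ range p, ∑ i, (C a i : ℂ) * ((part p n m e r k i : ℂ) * (ζ ^ r * (ζ ^ M) ^ k))
      = (∑ i, (C a i : ℂ) * (part p n m e r 0 i : ℂ)) * ζ ^ r * (ζ ^ M) ^ k := fun k hk => by
    have h0 := (bil_self_eq_zero hsym hC hK _).mp
      (hcon r hr k hk 0 (mem_range.mpr hp.pos)) a
    simp only [Pi.sub_apply, mul_sub, sum_sub_distrib, sub_eq_zero] at h0
    have h1 : ∑ i, (C a i : ℂ) * (part p n m e r k i : ℂ)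
        = ∑ i, (C a i : ℂ) * (part p n m e r 0 i : ℂ) := by exact_mod_cast h0
    rw [← h1, sum_mul, sum_mul]
    exact sum_congr rfl fun i _ => by ring
  rw [sum_congr rfl hconst, ← mul_sum, hω.geom_sum_eq_zero hp.one_lt, mul_zero]

/-- A form not representing one has mean at least two at a vector outside its kernel. -/
theorem two_le_avg_val (hsym : ∀ i j, C i j = C j i) (hC : ∀ i j, ∑ k, C i k * C k j = K * C i j)
    (hK : 0 < K) (hone : ∀ u, bil C u u ≠ 1) (m : ι → ℤ) (e : ι → ℕ) {a : ι}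
    (ha : ∑ i, (C a i : ℂ) * ((m i : ℂ) * root p n ^ e i) ≠ 0) :
    2 ≤ avg p n fun z => (val C m e z).re := by
  obtain ⟨r, hr, k, hk, k', hk', h⟩ := exists_pair hsym hC hK m e ha
  have h1 : 4 * ((p : ℤ) - 1) ≤
      ∑ r ∈ range (p ^ n), ∑ k ∈ range p, ∑ k' ∈ range p, pairVal p n C m e r k k' := by
    refine le_trans ?_ (single_le_sum (fun r _ => sum_nonneg fun k _ => sum_nonneg fun k' _ =>
      bil_self_nonneg hsym hC hK _) hr)
    refine le_trans (le_of_eq (by ring)) (class_bound hsym hC hK m e r (c := 2)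
      (fun a b hab => ?_) zero_le_two hk hk' h)
    have := bil_self_nonneg hsym hC hK (part p n m e r a - part p n m e r b)
    have := hone (part p n m e r a - part p n m e r b)
    simp only [pairVal] at hab ⊢
    omega
  have h2 := avg_val (p := p) (n := n) C m e
  have hp1 : (0 : ℝ) < (p : ℝ) - 1 :=
    sub_pos.mpr (by exact_mod_cast (Fact.out (p := p.Prime)).one_lt)
  have h3 : 4 * ((p : ℝ) - 1) ≤ 2 * ((p : ℝ) - 1) * avg p n fun z => (val C m e z).re := by
    rw [h2]
    exact_mod_cast h1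
  nlinarith

theorem two_le_avg_normSq {P : ℤ[X]} (h0 : aeval (root p n) P ≠ 0) (h1 : (p : ℤ) ∣ P.eval 1) :
    2 ≤ avg p n fun z => Complex.normSq (aeval z P) := by
  classical
  have hp : p.Prime := Fact.out
  set d := P.natDegree + 1
  let C : Fin d → Fin d → ℤ := fun _ _ => 1
  let m : Fin d → ℤ := fun i => P.coeff i
  let e : Fin d → ℕ := fun i => i
  have hsym : ∀ i j, C i j = C j i := fun _ _ => rfl
  have hC : ∀ i j, ∑ k, C i k * C k j = (d : ℤ) * C i j := fun i j => by simp [C]
  have hK : (0 : ℤ) < d := by simp [d]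
  have hev : ∀ z : ℂ, aeval z P = ∑ i, (m i : ℂ) * z ^ e i := fun z => by
    rw [aeval_eq_sum_range, Finset.sum_range]
    simp [m, e, zsmul_eq_mul]
    rfl
  have hval : ∀ z, (val C m e z).re = Complex.normSq (aeval z P) := fun z => by
    rw [← Complex.ofReal_re (Complex.normSq (aeval z P)), ← Complex.mul_conj, hev, map_sum, val,
      sum_mul_sum]
    simp [C]
  have hne : ∑ i, (C (0 : Fin d) i : ℂ) * ((m i : ℂ) * root p n ^ e i) ≠ 0 := by
    simpa [C, ← hev] using h0
  obtain ⟨r, hr, k, hk, k', hk', h⟩ := exists_pair (a := (0 : Fin d)) hsym hC hK m e hne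
  let D : ℕ → ℤ := fun r => ∑ k ∈ range p, ∑ k' ∈ range p, pairVal p n C m e r k k'
  have hD0 : ∀ r, 0 ≤ D r := fun r =>
    sum_nonneg fun k _ => sum_nonneg fun k' _ => bil_self_nonneg hsym hC hK _
  have hDlow : ∀ r, ∀ k ∈ range p, ∀ k' ∈ range p, pairVal p n C m e r k k' ≠ 0 →
      2 * ((p : ℤ) - 1) ≤ D r := fun r k hk k' hk' h => by
    refine le_trans (le_of_eq (by ring)) (class_bound hsym hC hK m e r (c := 1)
      (fun a b hab => ?_) zero_le_one hk hk' h)
    have := bil_self_nonneg hsym hC hK (part p n m e r a - part p n m e r b)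
    simp only [pairVal] at hab ⊢
    omega
  have hmain : 4 * ((p : ℤ) - 1) ≤ ∑ r ∈ range (p ^ n), D r := by
    by_cases h2 : ∃ r' ∈ range (p ^ n), r' ≠ r ∧ ∃ k ∈ range p, ∃ k' ∈ range p,
        pairVal p n C m e r' k k' ≠ 0
    · obtain ⟨r', hr', hne', a, ha, b, hb, hab⟩ := h2
      calc 4 * ((p : ℤ) - 1) ≤ D r + D r' := by
            linarith [hDlow r k hk k' hk' h, hDlow r' a ha b hb hab]
        _ = ∑ x ∈ ({r, r'} : Finset ℕ), D x := (sum_pair hne'.symm).symm
        _ ≤ _ := sum_le_sum_of_subset_of_nonneg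
            (insert_subset hr (singleton_subset_iff.mpr hr')) fun x _ _ => hD0 x
    · push Not at h2
      refine le_trans ?_ (single_le_sum (fun x _ => hD0 x) hr)
      -- the only class with two different sums: its total is divisible by `p`
      set s : ℕ → ℕ → ℤ := fun r k => ∑ i, part p n m e r k i
      have hpair : ∀ r k k', pairVal p n C m e r k k' = (s r k - s r k') ^ 2 := fun r k k' => by
        simp [pairVal, bil, C, s, sq, sum_mul_sum, ← sum_sub_distrib]
      have htot : P.eval 1 = ∑ r ∈ range (p ^ n), ∑ k ∈ range p, s r k := by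
        have e1 : P.eval 1 = ∑ i, m i := by
          rw [eval_eq_sum_range, Finset.sum_range]
          simp [m]
          rfl
        rw [e1]
        simp only [s]
        rw [sum_congr rfl fun r _ => sum_comm (t := (univ : Finset (Fin d))), sum_comm]
        refine sum_congr rfl fun i _ => ?_
        simp only [sum_part, sum_ite_eq, mem_range, Nat.mod_lt _ (pow_pos hp.pos n), if_true]
      have hother : (p : ℤ) ∣ ∑ x ∈ (range (p ^ n)).erase r, ∑ k ∈ range p, s x k := by
        refine dvd_sum fun x hx => ?_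
        have hxr := mem_of_mem_erase hx
        have e1 : ∀ k ∈ range p, s x k = s x 0 := fun k hk => by
          have := h2 x hxr (ne_of_mem_erase hx) k hk 0 (mem_range.mpr hp.pos)
          rw [hpair] at this
          exact sub_eq_zero.mp (pow_eq_zero_iff two_ne_zero |>.mp this)
        rw [sum_congr rfl e1, sum_const, card_range, nsmul_eq_mul]
        exact dvd_mul_right _ _
      rw [htot, ← add_sum_erase _ _ hr] at h1
      obtain ⟨q, hq⟩ := (dvd_add_left hother).mp h1
      set t : ℕ → ℤ := fun k => s r k - q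
      have ht0 : ∑ k ∈ range p, t k = 0 := by
        simp only [t, sum_sub_distrib, sum_const, card_range, nsmul_eq_mul]
        rw [hq, sub_self]
      have hD : D r = 2 * p * ∑ k ∈ range p, t k ^ 2 := by
        have e1 : ∀ a b, pairVal p n C m e r a b = t a ^ 2 + t b ^ 2 - 2 * t a * t b := fun a b => by
          rw [hpair]; simp only [t]; ring
        simp only [D, e1, sum_sub_distrib, sum_add_distrib, sum_const, card_range, nsmul_eq_mul,
          ← mul_sum, ← sum_mul, ht0]
        ring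
      have htwo : 2 ≤ ∑ k ∈ range p, t k ^ 2 := by
        obtain ⟨a, ha, hta⟩ : ∃ a ∈ range p, t a ≠ 0 := by
          by_contra hcon
          push Not at hcon
          refine h ?_
          rw [hpair, show s r k - s r k' = t k - t k' by simp [t], hcon k hk, hcon k' hk']
          simp
        obtain ⟨b, hb, htb⟩ : ∃ b ∈ (range p).erase a, t b ≠ 0 := by
          by_contra hcon
          push Not at hcon
          rw [← add_sum_erase _ _ ha, sum_eq_zero hcon, add_zero] at ht0
          exact hta ht0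
        rw [← add_sum_erase _ _ ha, ← add_sum_erase _ _ hb]
        have h1' : 1 ≤ t a ^ 2 := Int.one_le_abs (pow_ne_zero 2 hta) |>.trans
          (le_of_eq (abs_of_nonneg (sq_nonneg _)))
        have h2' : 1 ≤ t b ^ 2 := Int.one_le_abs (pow_ne_zero 2 htb) |>.trans
          (le_of_eq (abs_of_nonneg (sq_nonneg _)))
        linarith [sum_nonneg (s := ((range p).erase a).erase b) fun x _ => sq_nonneg (t x)]
      have hpz : (0 : ℤ) ≤ p := Int.natCast_nonneg p
      rw [hD]
      nlinarith
  have h3 := avg_val (p := p) (n := n) C m e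
  simp only [hval] at h3
  have hp1 : (0 : ℝ) < (p : ℝ) - 1 := sub_pos.mpr (by exact_mod_cast hp.one_lt)
  have h4 : 4 * ((p : ℝ) - 1) ≤ 2 * ((p : ℝ) - 1) *
      avg p n fun z => Complex.normSq (aeval z P) := by
    rw [h3]
    exact_mod_cast hmain
  nlinarith

end Cfsg.Agent.CycloTrace
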