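import Cfsg.Agent.Lib.SecondMain.Heights
import Cfsg.Agent.Lib.SecondMain.Support

/-!
# Blocks whose defect group has order two

`sum_center_two` (sums over a group with a central involution), `central_defect_two` (a block of
defect group `⟨z⟩`, `z` a central involution) and `defect_two` (blocks with defect group of order 2).
-/

set_option autoImplicit false

open scoped ComplexConjugate

namespace Cfsg.Agent.SecondMain

open Cfsg Blocks

variable {G : Type*} [Group G] [Finite G] {M : Ideal AlgInt}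

open scoped Classical in
/-- A sum over `G` of a function supported where the 2-part is `1` or `z`. -/
theorem sum_center_two [Fintype G] {z : G} (hz : z ∈ Subgroup.center G) (hz2 : orderOf z = 2)
    (f : G → ℂ) (hf : ∀ y t : G, (∃ k, orderOf y = 2 ^ k) → ¬ 2 ∣ orderOf t → Commute y t → y ≠ 1 →
      y ≠ z → f (y * t) = 0) :
    ∑ g, f g = ∑ g ∈ Finset.univ.filter (fun g => ¬ 2 ∣ orderOf g), (f g + f (z * g)) := by
  haveI : Fact (Nat.Prime 2) := ⟨Nat.prime_two⟩
  let R := Finset.univ.filter fun g : G => ¬ 2 ∣ orderOf g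
  have hzs : ∀ s ∈ R, 2 ∣ orderOf (z * s) := by
    intro s hs
    by_contra h
    have h1 := (pPart_unique (p := 2) (x := z) (y := s) (x' := 1) (y' := z * s)
      ⟨1, by rw [hz2, pow_one]⟩ ⟨0, by rw [orderOf_one, pow_zero]⟩ (Finset.mem_filter.mp hs).2 h
      (Subgroup.mem_center_iff.mp hz s).symm (Commute.one_left _) (one_mul _).symm).1
    rw [h1, orderOf_one] at hz2
    omega
  rw [Finset.sum_add_distrib, ← Finset.sum_filter_add_sum_filter_not Finset.univ
    (fun g : G => ¬ 2 ∣ orderOf g) f]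
  congr 1
  rw [← Finset.sum_subset (s₁ := R.image (z * ·)) ?_ ?_, Finset.sum_image fun a _ b _ h => mul_left_cancel h]
  · intro g hg
    obtain ⟨s, hs, rfl⟩ := Finset.mem_image.mp hg
    exact Finset.mem_filter.mpr ⟨Finset.mem_univ _, not_not_intro (hzs s hs)⟩
  · intro g hg hg'
    obtain ⟨y, t, rfl, hym, htm, hyk, htc⟩ := Transfer.exists_pPart_mul (p := 2) g
    have ht : ¬ 2 ∣ orderOf t := (Nat.prime_two.coprime_iff_not_dvd).mp htc.symm
    have hc : Commute y t := by
      obtain ⟨i, hi⟩ := Subgroup.mem_zpowers_iff.mp hym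
      obtain ⟨j, hj⟩ := Subgroup.mem_zpowers_iff.mp htm
      have h1 := (Commute.refl (y * t)).zpow_zpow i j
      rwa [hi, hj] at h1
    refine hf y t hyk ht hc (fun h => ?_) (fun h => ?_)
    · subst h
      rw [one_mul] at hg
      exact (Finset.mem_filter.mp hg).2 ht
    · subst h
      exact hg' (Finset.mem_image.mpr ⟨t, Finset.mem_filter.mpr ⟨Finset.mem_univ _, ht⟩, rfl⟩)

/-- A block of a group with central involution `z` with defect group `⟨z⟩`: all its characters
agree on elements of odd order. -/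
theorem central_defect_two (hM : IsPModular 2 M) {z : G} (hz : z ∈ Subgroup.center G)
    (hz2 : orderOf z = 2) {b : Set (IrrCharacter G)} (hb : IsPBlock M b)
    (hD : IsDefectGroup 2 M b (Subgroup.zpowers z)) {θ : IrrCharacter G} (hθ : θ ∈ b)
    (hθz : (θ : G → ℂ) z = (θ : G → ℂ) 1) :
    (∀ η ∈ b, ∀ s : G, ¬ 2 ∣ orderOf s → (η : G → ℂ) s = (θ : G → ℂ) s) ∧
      ∀ [Fintype G], regInner 2 (θ : G → ℂ) (θ : G → ℂ) = 2⁻¹ := by
  classical
  haveI : Fact (Nat.Prime 2) := ⟨Nat.prime_two⟩
  have := Fintype.ofFinite G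
  have := Fintype.ofFinite (IrrCharacter G)
  choose c hc1 hc using fun η : IrrCharacter G => exists_central_scalar hz η
  have hc2 : ∀ η, c η = 1 ∨ c η = -1 := fun η => by
    have h := hc1 η
    rw [hz2, sq, mul_self_eq_one_iff] at h
    exact h
  have hcθ : c θ = 1 := by
    have h := hc θ 1
    rw [mul_one, hθz] at h
    exact (mul_eq_right₀ (irr_one_ne_zero θ)).mp h.symm
  have hsupp : ∀ η ∈ b, ∀ y t : G, (∃ k, orderOf y = 2 ^ k) → ¬ 2 ∣ orderOf t → Commute y t → y ≠ 1 →
      y ≠ z → (η : G → ℂ) (y * t) = 0 := by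
    intro η hη y t hyk ht hyt hy1 hyz
    refine apply_eq_zero_of_notMem_defect hM hb hyk ht hyt (fun E hE hyE => ?_) hη
    obtain ⟨g, hg⟩ := isDefectGroup_conj_eq hM hb hD hE
    rw [← hg, mem_conjSub] at hyE
    obtain ⟨i, hi⟩ := Subgroup.mem_zpowers_iff.mp hyE
    have h1 : y = z ^ i := by
      have h2 : g * z ^ i * g⁻¹ = z ^ i := by
        rw [Subgroup.mem_center_iff.mp (Subgroup.zpow_mem _ hz i) g, mul_inv_cancel_right]
      rw [← h2, hi]
      group
    rcases Int.even_or_odd' i with ⟨j, hj | hj⟩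
    · refine hy1 (h1.trans ?_)
      rw [hj, zpow_mul, zpow_two, ← sq, ← hz2, pow_orderOf_eq_one, one_zpow]
    · refine hyz (h1.trans ?_)
      rw [hj, zpow_add_one, zpow_mul, zpow_two, ← sq, ← hz2, pow_orderOf_eq_one, one_zpow, one_mul]
  have hinner : ∀ η ∈ b, ∀ η' ∈ b, classInner (η : G → ℂ) (η' : G → ℂ)
      = (1 + c η * c η') * regInner 2 (η : G → ℂ) (η' : G → ℂ) := by
    intro η hη η' hη'
    rw [classInner, sum_center_two hz hz2 (fun g => (η : G → ℂ) g * conj ((η' : G → ℂ) g))
      (fun y t hyk ht hyt h1 hz => by simp only [hsupp η hη y t hyk ht hyt h1 hz, zero_mul]),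
      regInner_eq_sum]
    simp only [Finset.mul_sum]
    refine Finset.sum_congr rfl fun g _ => ?_
    rw [hc η g, hc η' g, map_mul]
    rcases hc2 η' with h | h <;> simp only [h, map_one, map_neg] <;> ring
  have hhalf : ∀ η ∈ b, regInner 2 (η : G → ℂ) (η : G → ℂ) = 2⁻¹ := by
    intro η hη
    have h := hinner η hη η hη
    rw [Char.classInner_irr_self η.2, show c η * c η = 1 by
      rcases hc2 η with h | h <;> simp [h]] at h
    linear_combination -(2⁻¹ : ℂ) * h
  have hd : blockDefect 2 b = 1 := by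
    have h := card_defectGroup hM hb hD
    rw [Nat.card_zpowers, hz2] at h
    exact (Nat.pow_right_injective le_rfl (h.symm.trans (pow_one 2).symm))
  have hht : ∀ η ∈ b, blockHeight 2 b (η : G → ℂ) = 0 := by
    intro η hη
    by_contra h
    have h1 := memI_scaled_of_height hM hη h η
    rw [hhalf η hη, hd, pow_one, show ((2 : ℕ) : ℂ) * 2⁻¹ = 1 by norm_num] at h1
    exact not_memI_one hM h1
  have hdiff : ∀ η ∈ b, ∀ η' ∈ b, η ≠ η' → c η * c η' = -1 := by
    intro η hη η' hη' hne
    have h := hinner η hη η' hη'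
    rw [Char.classInner_irr_of_ne η.2 η'.2 fun h => hne (Subtype.ext h)] at h
    have h1 := (mul_eq_zero.mp h.symm).resolve_right (regInner_ne_zero hM hb hη hη' (hht η' hη'))
    linear_combination h1
  refine ⟨fun η hη s hs => ?_, fun {inst} => ?_⟩
  swap
  · obtain rfl : inst = Fintype.ofFinite G := Subsingleton.elim _ _
    convert hhalf θ hθ
  by_cases hne : η = θ
  · rw [hne]
  have hb2 : b.toFinset = {θ, η} := by
    ext φ
    simp only [Set.mem_toFinset, Finset.mem_insert, Finset.mem_singleton]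
    refine ⟨fun hφ => ?_, fun h => h.elim (fun h => h ▸ hθ) fun h => h ▸ hη⟩
    by_contra hcon
    push Not at hcon
    have h1 := hdiff θ hθ η hη (Ne.symm hne)
    have h2 := hdiff θ hθ φ hφ (Ne.symm hcon.1)
    have h3 := hdiff η hη φ hφ (Ne.symm hcon.2)
    rw [hcθ, one_mul] at h1 h2
    rw [h1, h2] at h3
    norm_num at h3
  set r := regInner 2 (θ : G → ℂ) (η : G → ℂ) with hr
  have hreg : ∀ g, ¬ 2 ∣ orderOf g → (θ : G → ℂ) g = 2 * r * (η : G → ℂ) g := by
    intro g hg
    have h := congrFun (BrauerPairs.pRegularPart_eq_sum hM hb hθ) g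
    rw [pRegularPart_of_regular hg, hb2, Finset.sum_pair (Ne.symm hne)] at h
    simp only [Pi.add_apply, Pi.smul_apply, smul_eq_mul] at h
    change _ = regInner 2 (θ : G → ℂ) (θ : G → ℂ) * _ + r * _ at h
    rw [hhalf θ hθ] at h
    linear_combination 2 * h
  have hsq : conj (2 * r) * (2 * r) = 1 := by
    have h := regInner_idem hM hb hθ (θ : G → ℂ)
    rw [finsum_mem_eq_toFinset_sum, hb2, Finset.sum_pair (Ne.symm hne), hhalf θ hθ,
      ← conj_regInner (θ : G → ℂ) (η : G → ℂ), ← hr] at h
    rw [map_mul, Complex.conj_ofNat]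
    linear_combination 4 * h
  have h2r : 2 * r = 1 := by
    have h1 := hreg 1 (by simp)
    rw [← charDegree_cast, ← charDegree_cast] at h1
    set a := charDegree (θ : G → ℂ)
    set e := charDegree (η : G → ℂ)
    have he0 : (e : ℂ) ≠ 0 := Nat.cast_ne_zero.mpr (charDegree_pos η).ne'
    have h2 : 2 * r = (a : ℂ) / (e : ℂ) := by rw [eq_div_iff he0, h1]
    rw [h2, map_div₀, Complex.conj_natCast, Complex.conj_natCast, div_mul_div_comm,
      div_eq_one_iff_eq (mul_ne_zero he0 he0)] at hsq
    have h3 : a * a = e * e := by exact_mod_cast hsq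
    rw [h2, Nat.mul_self_inj.mp h3, div_self he0]
  rw [hreg s hs, h2r, one_mul]

end Cfsg.Agent.SecondMain
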