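import Cfsg.Agent.Lib.Blocks.CentralFun

/-!
# Functions on a subgroup inside the group algebra

`ext H u` is `u : H → ℂ` extended by zero; associativity of `conv`, its compatibility with `ext`,
and `sum_mul_apply_mul` (a central element acts by its central character on `χ`).
-/

set_option autoImplicit false

namespace Cfsg.Agent.SecondMain

open Cfsg Blocks

variable {G : Type*} [Group G]

open scoped Classical in
/-- Extension by zero from a subgroup. -/
noncomputable def ext (H : Subgroup G) (u : H → ℂ) : G → ℂ :=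
  fun g => if h : g ∈ H then u ⟨g, h⟩ else 0

theorem ext_coe (H : Subgroup G) (u : H → ℂ) (k : H) : ext H u (k : G) = u k := dif_pos k.2

theorem ext_of_notMem {H : Subgroup G} (u : H → ℂ) {g : G} (h : g ∉ H) : ext H u g = 0 := dif_neg h

theorem ext_conj {H : Subgroup G} {u : H → ℂ} (hu : IsClassFunction H u) {n : G} (hn : n ∈ H)
    (g : G) : ext H u (n * g * n⁻¹) = ext H u g := by
  by_cases hg : g ∈ H
  · exact (ext_coe H u (⟨n, hn⟩ * ⟨g, hg⟩ * ⟨n, hn⟩⁻¹)).trans
      ((hu ⟨g, hg⟩ ⟨n, hn⟩).trans (ext_coe H u ⟨g, hg⟩).symm)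
  · rw [ext_of_notMem u hg, ext_of_notMem]
    intro h
    refine hg ?_
    simpa [mul_assoc] using H.mul_mem (H.mul_mem (H.inv_mem hn) h) hn

theorem sum_ext_mul [Fintype G] (H : Subgroup G) [Fintype H] (u : H → ℂ) (w : G → ℂ) :
    ∑ g, ext H u g * w g = ∑ k : H, u k * w k := by
  symm
  refine Fintype.sum_of_injective (fun k : H => (k : G)) Subtype.val_injective _ _ ?_ ?_
  · intro g hg
    rw [ext_of_notMem u fun h => hg ⟨⟨g, h⟩, rfl⟩, zero_mul]
  · intro k
    simp only [ext_coe]

variable [Finite G]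

theorem conv_assoc (a b c : G → ℂ) : conv (conv a b) c = conv a (conv b c) := by
  have := Fintype.ofFinite G
  funext g
  simp only [conv_eq_sum, Finset.sum_mul, Finset.mul_sum]
  rw [Finset.sum_comm]
  refine Finset.sum_congr rfl fun x _ => ?_
  refine Fintype.sum_equiv (Equiv.mulLeft x⁻¹) _ _ fun y => ?_
  simp only [Equiv.coe_mulLeft, mul_inv_rev, inv_inv, mul_assoc, mul_inv_cancel_left]

theorem conv_comm {z w : G → ℂ} (hw : IsClassFunction G w) : conv z w = conv w z := by
  have := Fintype.ofFinite G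
  funext g
  simp only [conv_eq_sum]
  refine Fintype.sum_equiv ((Equiv.inv G).trans (Equiv.mulLeft g)) _ _ fun x => ?_
  have h1 : ((Equiv.inv G).trans (Equiv.mulLeft g)) x = g * x⁻¹ := rfl
  rw [h1, mul_comm (z x), isClassFunction_comm hw x⁻¹ g, mul_inv_rev, inv_inv, inv_mul_cancel_right]

theorem conv_ext_eq_sum (H : Subgroup G) [Fintype H] (u : H → ℂ) (w : G → ℂ) (g : G) :
    conv (ext H u) w g = ∑ k : H, u k * w ((k : G)⁻¹ * g) := by
  have := Fintype.ofFinite G
  rw [conv_eq_sum]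
  exact sum_ext_mul H u fun x => w (x⁻¹ * g)

theorem conv_ext_coe (H : Subgroup G) (u : H → ℂ) (w : G → ℂ) (h : H) :
    conv (ext H u) w (h : G) = conv u (fun k : H => w k) h := by
  have := Fintype.ofFinite H
  rw [conv_ext_eq_sum, conv_eq_sum]
  rfl

theorem conv_ext_ext (H : Subgroup G) (u v : H → ℂ) :
    conv (ext H u) (ext H v) = ext H (conv u v) := by
  have := Fintype.ofFinite H
  funext g
  rw [conv_ext_eq_sum]
  by_cases hg : g ∈ H
  · obtain ⟨k, rfl⟩ : ∃ k : H, (k : G) = g := ⟨⟨g, hg⟩, rfl⟩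
    rw [ext_coe, conv_eq_sum]
    exact Finset.sum_congr rfl fun x _ => congrArg (_ * ·) (ext_coe H v (x⁻¹ * k))
  · rw [ext_of_notMem _ hg]
    refine Finset.sum_eq_zero fun x _ => ?_
    rw [ext_of_notMem, mul_zero]
    intro h
    exact hg (by simpa using H.mul_mem x.2 h)

theorem conv_conj {z w : G → ℂ} {n : G} (hz : ∀ g, z (n * g * n⁻¹) = z g)
    (hw : ∀ g, w (n * g * n⁻¹) = w g) (g : G) : conv z w (n * g * n⁻¹) = conv z w g := by
  have := Fintype.ofFinite G
  simp only [conv_eq_sum]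
  refine (Fintype.sum_equiv (MulAut.conj n).toEquiv _ _ fun x => ?_).symm
  have e1 : (MulAut.conj n).toEquiv x = n * x * n⁻¹ := rfl
  rw [e1, hz, show (n * x * n⁻¹)⁻¹ * (n * g * n⁻¹) = n * (x⁻¹ * g) * n⁻¹ by group, hw]

/-- A central element acts on `χ` by its central character. -/
theorem sum_mul_apply_mul [Fintype G] {z : G → ℂ} (hz : IsClassFunction G z) (χ : IrrCharacter G)
    (g : G) : ∑ x, z x * (χ : G → ℂ) (x * g) = omega (χ : G → ℂ) z * (χ : G → ℂ) g := by
  obtain ⟨n, ρ, hirr, hρ⟩ := χ.2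
  rw [omega_eq_sum, ← hρ, Representation.char_one]
  have h1 : ∑ x, z x * ρ.character (x * g)
      = LinearMap.trace ℂ _ (Char.groupSumOp ρ z * ρ g) := by
    simp only [Char.groupSumOp, Finset.sum_mul, smul_mul_assoc, map_sum, map_smul, smul_eq_mul]
    refine Finset.sum_congr rfl fun x _ => ?_
    rw [Representation.character, map_mul]
  rw [h1, Char.groupSumOp_eq_smul ρ hz, ← Module.End.one_eq_id, smul_mul_assoc, one_mul, map_smul,
    smul_eq_mul]
  rfl

end Cfsg.Agent.SecondMain
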