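import Cfsg.Agent.Lib.SecondMain.TwoBounds

/-!
# Counting with a contribution matrix of rank at most two

`CData.card_le_of_rank_le_two`: if the matrix has rank one modulo `p`, the diagonal has trace at
most `2K` and the rows have the valuations of a major subsection, then there are at most `K` rows.
-/

set_option autoImplicit false

open scoped ComplexConjugate

namespace Cfsg.Agent.CycloTrace.CData

open Finset Cfsg Blocks Polynomial CycloTrace

variable {p n K l : ℕ} [Fact p.Prime] {ι κ : Type*} [Fintype ι] [Fintype κ] (D : CData p n K ι κ)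

/-- The image of an integer vector. -/
def img (v : κ → ℤ) (a : κ) : ℤ := ∑ i, D.C a i * v i

/-- The row times an integer vector. -/
noncomputable def xv (v : κ → ℤ) (z : ℂ) (χ : ι) : ℂ := ∑ a, D.co z χ a * (D.img v a : ℂ)

/-- A polynomial with the value `xv`. -/
noncomputable def xP (v : κ → ℤ) (χ : ι) : ℤ[X] :=
  ∑ a, Polynomial.C (D.m χ a * D.img v a) * X ^ D.e χ a

omit [Fact p.Prime] in
theorem aeval_xP (v : κ → ℤ) (z : ℂ) (χ : ι) : aeval z (D.xP v χ) = D.xv v z χ := by
  simp only [xP, xv, co, map_sum, map_mul, aeval_C, map_pow, aeval_X, algebraMap_int_eq, eq_intCast,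
    map_intCast, Int.cast_mul]
  exact sum_congr rfl fun k _ => by ring

omit [Fact p.Prime] in
theorem xv_eq (v : κ → ℤ) (z : ℂ) (χ : ι) : D.xv v z χ = ∑ a, D.y z χ a * (v a : ℂ) := by
  simp only [xv, img, y, Int.cast_sum, Int.cast_mul, mul_sum, sum_mul]
  rw [sum_comm]
  exact sum_congr rfl fun a _ => sum_congr rfl fun k _ => by ring

theorem sum_xv {z : ℂ} (hz : z ∈ prim p n) {v : κ → ℤ} (hv : bil D.C v v = 1) :
    ∑ χ, Complex.normSq (D.xv v z χ) = (K : ℝ) := by
  have h : ∑ χ, D.xv v z χ * conj (D.xv v z χ) = (K : ℂ) := by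
    simp only [D.xv_eq, map_sum, sum_mul_sum, map_mul, map_intCast]
    rw [sum_comm]
    have h1 : ∑ a, ∑ χ, ∑ c, D.y z χ a * (v a : ℂ) * (conj (D.y z χ c) * (v c : ℂ))
        = ∑ a, ∑ c, (v a : ℂ) * (v c : ℂ) * ((K : ℂ) * (D.C a c : ℂ)) := by
      refine sum_congr rfl fun a _ => ?_
      rw [sum_comm]
      refine sum_congr rfl fun c _ => ?_
      rw [← D.orth_at hz, mul_sum]
      exact sum_congr rfl fun χ _ => by ring
    have h2 : ((∑ a, ∑ c, v a * D.C a c * v c : ℤ) : ℂ) = 1 := by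
      rw [← bil, hv, Int.cast_one]
    push_cast at h2
    rw [h1]
    calc ∑ a, ∑ c, (v a : ℂ) * (v c : ℂ) * ((K : ℂ) * (D.C a c : ℂ))
        = (K : ℂ) * ∑ a, ∑ c, (v a : ℂ) * (D.C a c : ℂ) * (v c : ℂ) := by
          simp only [mul_sum]
          exact sum_congr rfl fun a _ => sum_congr rfl fun c _ => by ring
      _ = _ := by rw [h2, mul_one]
  have h' := congrArg Complex.re h
  rw [Complex.re_sum, Complex.natCast_re] at h'
  simpa [Complex.mul_conj] using h'

omit [Fact p.Prime] in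
theorem K_mul_rest {v : κ → ℤ} (hv : bil D.C v v = 1) (z : ℂ) (χ : ι) :
    (K : ℂ) * (D.U z χ χ - D.xv v z χ * conj (D.xv v z χ))
      = ∑ a, (D.y z χ a - D.xv v z χ * (D.img v a : ℂ)) *
          conj (D.y z χ a - D.xv v z χ * (D.img v a : ℂ)) := by
  have h1 : ∑ a, D.y z χ a * (D.img v a : ℂ) = (K : ℂ) * D.xv v z χ := by
    rw [D.xv_eq, mul_sum]
    simp only [img, Int.cast_sum, Int.cast_mul, mul_sum]
    rw [sum_comm]
    refine sum_congr rfl fun i _ => ?_
    rw [← mul_assoc, ← D.y_C, sum_mul]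
    exact sum_congr rfl fun a _ => by ring
  have h2 : ∑ a, (D.img v a : ℂ) * (D.img v a : ℂ) = (K : ℂ) := by
    have h := mul_bil_self D.sym D.sq v
    rw [hv, mul_one] at h
    have h' : ((∑ a, D.img v a * D.img v a : ℤ) : ℂ) = ((K : ℤ) : ℂ) :=
      congrArg Int.cast (by rw [h]; exact sum_congr rfl fun k _ => (pow_two _).symm)
    push_cast at h'
    exact h'
  have h1' : ∑ a, conj (D.y z χ a) * (D.img v a : ℂ) = (K : ℂ) * conj (D.xv v z χ) := by
    have := congrArg conj h1
    simpa only [map_sum, map_mul, map_intCast, Complex.conj_natCast] using this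
  simp only [map_sub, map_mul, map_intCast, sub_mul, mul_sub, sum_sub_distrib]
  rw [D.K_mul_U]
  have e1 : ∑ a, D.y z χ a * (conj (D.xv v z χ) * (D.img v a : ℂ))
      = conj (D.xv v z χ) * ((K : ℂ) * D.xv v z χ) := by
    rw [← h1, mul_sum]; exact sum_congr rfl fun a _ => by ring
  have e2 : ∑ a, D.xv v z χ * (D.img v a : ℂ) * conj (D.y z χ a)
      = D.xv v z χ * ((K : ℂ) * conj (D.xv v z χ)) := by
    rw [← h1', mul_sum]; exact sum_congr rfl fun a _ => by ring
  have e3 : ∑ a, D.xv v z χ * (D.img v a : ℂ) * (conj (D.xv v z χ) * (D.img v a : ℂ))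
      = D.xv v z χ * conj (D.xv v z χ) * ∑ a, (D.img v a : ℂ) * (D.img v a : ℂ) := by
    rw [mul_sum]; exact sum_congr rfl fun a _ => by ring
  rw [e1, e2, e3, h2]
  ring

omit [Fact p.Prime] in
theorem rest_nonneg {v : κ → ℤ} (hv : bil D.C v v = 1) (z : ℂ) (χ : ι) :
    0 ≤ (D.U z χ χ).re - Complex.normSq (D.xv v z χ) := by
  have h := congrArg Complex.re (D.K_mul_rest hv z χ)
  rw [Complex.re_sum] at h
  simp only [Complex.mul_conj, Complex.ofReal_re, Complex.mul_re, Complex.natCast_re,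
    Complex.natCast_im, Complex.sub_re, Complex.sub_im, zero_mul, sub_zero] at h
  exact nonneg_of_mul_nonneg_right (h ▸ sum_nonneg fun a _ => Complex.normSq_nonneg _)
    (Nat.cast_pos.mpr D.K_pos)

omit [Fact p.Prime] in
theorem eq_of_rest_eq_zero {v : κ → ℤ} (hv : bil D.C v v = 1) {z : ℂ} {χ : ι}
    (h0 : D.U z χ χ - D.xv v z χ * conj (D.xv v z χ) = 0) (a : κ) :
    D.y z χ a = D.xv v z χ * (D.img v a : ℂ) := by
  have h := congrArg Complex.re (D.K_mul_rest hv z χ)
  rw [h0, mul_zero, Complex.zero_re, Complex.re_sum, eq_comm] at h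
  simp only [Complex.mul_conj, Complex.ofReal_re] at h
  exact sub_eq_zero.mp (Complex.normSq_eq_zero.mp
    ((sum_eq_zero_iff_of_nonneg fun a _ => Complex.normSq_nonneg _).mp h a (mem_univ a)))

theorem exists_rest_poly
    (hrank : ∀ a a' c c', (p : ℤ) ∣ D.C a a' * D.C c c' - D.C a c' * D.C c a')
    {v : κ → ℤ} (hv : bil D.C v v = 1) (χ : ι) :
    ∃ Q : ℤ[X], ∀ z ∈ prim p n,
      D.U z χ χ - D.xv v z χ * conj (D.xv v z χ) = (p : ℂ) * aeval z Q := by
  have hdvd : ∀ a c, (p : ℤ) ∣ D.C a c - D.img v a * D.img v c := fun a c => by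
    have h : D.C a c - D.img v a * D.img v c
        = ∑ i, ∑ j, v i * v j * (D.C a c * D.C i j - D.C a j * D.C i c) := by
      conv_lhs => arg 1; rw [← mul_one (D.C a c), ← hv]
      simp only [bil, img, mul_sum, sum_mul]
      rw [← sum_sub_distrib]
      refine sum_congr rfl fun i _ => ?_
      rw [← sum_sub_distrib]
      exact sum_congr rfl fun j _ => by rw [D.sym c i]; ring
    rw [h]
    exact dvd_sum fun i _ => dvd_sum fun j _ => dvd_mul_of_dvd_right (hrank a c i j) _
  choose C' hC' using hdvd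
  refine ⟨∑ a, ∑ c, Polynomial.C (D.m χ a * C' a c * D.m χ c) *
    X ^ (D.e χ a + (p ^ (n + 1) - 1) * D.e χ c), fun z hz => ?_⟩
  rw [show D.xv v z χ * conj (D.xv v z χ) = ∑ c, ∑ a, D.co z χ a * (D.img v a : ℂ) *
      conj (D.co z χ c * (D.img v c : ℂ)) by rw [xv, map_sum, sum_mul_sum, sum_comm]]
  simp only [U, y, map_sum, sum_mul, mul_sum, map_mul, aeval_C, map_pow, aeval_X,
    algebraMap_int_eq, eq_intCast, map_intCast, Int.cast_mul]
  rw [← sum_sub_distrib, sum_comm (s := univ) (t := univ) (f := fun a c => (p : ℂ) * _)]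
  refine sum_congr rfl fun c _ => ?_
  rw [← sum_sub_distrib]
  refine sum_congr rfl fun a _ => ?_
  have e : (D.C a c : ℂ) = (p : ℂ) * (C' a c : ℂ) + (D.img v a : ℂ) * (D.img v c : ℂ) := by
    have h := congrArg (Int.cast : ℤ → ℂ) (hC' a c)
    push_cast at h
    linear_combination h
  simp only [co, map_mul, map_intCast, map_pow, conj_eq_pow (mem_prim.mp hz), ← pow_mul, pow_add, e]
  ring

/-- At most `K` rows. -/
theorem card_le_of_rank_le_two {M : Ideal AlgInt} (hM : IsPModular p M)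
    (hrank : ∀ a a' c c', (p : ℤ) ∣ D.C a a' * D.C c c' - D.C a c' * D.C c a') {h : ι → ℕ}
    (hU : ∀ χ ψ, ∃ w : ℂ, MemLocalRing M w ∧ D.U (root p n) χ ψ = (p : ℂ) ^ h χ * w ∧
      (h ψ = 0 → ¬ MemLocalIdeal M w) ∧ (ψ = χ → h χ ≠ 0 → MemLocalIdeal M w))
    {χ₀ : ι} (h₀ : h χ₀ = 0) (htr : ∑ a, D.C a a = ((K * l : ℕ) : ℤ)) (hl : l ≤ 2) :
    Fintype.card ι ≤ K := by
  classical
  have hp0 : (p : ℂ) ≠ 0 := Nat.cast_ne_zero.mpr hM.1.ne_zero
  have hne : ∀ χ ψ, h ψ = 0 → D.U (root p n) χ ψ ≠ 0 := fun χ ψ hψ => by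
    obtain ⟨w, -, hw, hw0, -⟩ := hU χ ψ
    rw [hw]
    exact mul_ne_zero (pow_ne_zero _ hp0) (ne_zero_of_not_memI hM (hw0 hψ))
  have htwo : (∀ χ, 2 ≤ avg p n fun z => (D.U z χ χ).re) → Fintype.card ι ≤ K := fun hall => by
    have h1 : (Fintype.card ι : ℝ) * 2 ≤ (K : ℝ) * l := by
      rw [← D.sum_avg htr]
      refine le_trans (le_of_eq ?_) (sum_le_sum fun χ _ => hall χ)
      rw [sum_const, card_univ, nsmul_eq_mul]
    have h2 : Fintype.card ι * 2 ≤ K * l := by exact_mod_cast h1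
    nlinarith
  by_cases hone : ∀ u, bil D.C u u ≠ 1
  · refine htwo fun χ => ?_
    obtain ⟨a, ha⟩ : ∃ a, D.y (root p n) χ a ≠ 0 := by
      by_contra hcon
      push Not at hcon
      exact hne χ χ₀ h₀ (sum_eq_zero fun a _ => by rw [hcon a, zero_mul])
    simp only [D.U_eq_val]
    refine two_le_avg_val D.sym D.sq (Int.natCast_pos.mpr D.K_pos) hone _ _ (a := a) ?_
    convert ha using 1
    exact sum_congr rfl fun i _ => by rw [D.sym a i, co]; ring
  push Not at hone
  obtain ⟨v, hv⟩ := hone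
  by_cases hx : ∀ χ, D.xv v (root p n) χ ≠ 0
  · have h1 : (Fintype.card ι : ℝ) ≤ (K : ℝ) := by
      rw [← avg_const (p := p) (n := n) (K : ℝ), ← avg_congr fun z hz => D.sum_xv hz hv, avg_sum]
      refine le_trans (le_of_eq ?_) (sum_le_sum fun χ _ => ?_) (b := ∑ _χ : ι, (1 : ℝ))
      · simp
      · rw [← avg_congr fun z hz => congrArg Complex.normSq (D.aeval_xP v z χ)]
        exact one_le_avg_normSq (by rw [D.aeval_xP]; exact hx χ)
    exact_mod_cast h1
  push Not at hx
  obtain ⟨χ₁, hχ₁⟩ := hx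
  refine htwo fun χ => ?_
  obtain ⟨Q, hQ⟩ := D.exists_rest_poly hrank hv χ
  by_cases hrest : D.U (root p n) χ χ - D.xv v (root p n) χ * conj (D.xv v (root p n) χ) = 0
  · have hy := D.eq_of_rest_eq_zero hv hrest
    have hzero : D.U (root p n) χ₁ χ = 0 := by
      refine mul_left_cancel₀ D.K_ne_zero ?_
      have hy1 : ∑ a, D.y (root p n) χ₁ a * (D.img v a : ℂ) = (K : ℂ) * D.xv v (root p n) χ₁ := by
        rw [D.xv_eq, mul_sum]
        simp only [img, Int.cast_sum, Int.cast_mul, mul_sum]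
        rw [sum_comm]
        refine sum_congr rfl fun i _ => ?_
        rw [← mul_assoc, ← D.y_C, sum_mul]
        exact sum_congr rfl fun a _ => by ring
      calc (K : ℂ) * D.U (root p n) χ₁ χ
          = ∑ a, D.y (root p n) χ₁ a * conj (D.y (root p n) χ a) := D.K_mul_U _ _ _
        _ = conj (D.xv v (root p n) χ) * ∑ a, D.y (root p n) χ₁ a * (D.img v a : ℂ) := by
            rw [mul_sum]
            exact sum_congr rfl fun a _ => by rw [hy a, map_mul, map_intCast]; ring
        _ = _ := by rw [hy1, hχ₁, mul_zero, mul_zero]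
    have hh : h χ ≠ 0 := fun h0 => hne χ₁ χ h0 hzero
    obtain ⟨w, hwR, hw, -, -⟩ := hU χ χ
    have hI : MemLocalIdeal M (D.U (root p n) χ χ) := by
      rw [hw]; exact memI_mul_right hM (memI_pow hM (memI_p hM) hh) hwR
    have hUne : D.U (root p n) χ χ ≠ 0 := fun h' => by
      have := D.U_re_pos root_mem (hne χ χ₀ h₀)
      rw [h', Complex.zero_re] at this
      exact lt_irrefl _ this
    have heq := sub_eq_zero.mp hrest
    have hxne : D.xv v (root p n) χ ≠ 0 := fun h' => hUne (by rw [heq, h', zero_mul])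
    have hd : (p : ℤ) ∣ (D.xP v χ).eval 1 := by
      have hsq := memI_aeval_sub_eval hM (n := n)
        (D.xP v χ * (D.xP v χ).comp (X ^ (p ^ (n + 1) - 1)))
      rw [map_mul, ← conj_aeval isPrimitiveRoot_root, D.aeval_xP, ← heq, eval_mul, eval_comp,
        eval_pow, eval_X, one_pow] at hsq
      have h2 := (memI_iff_of_sub hM hsq).mp hI
      obtain ⟨m, hm | hm⟩ := Int.eq_nat_or_neg ((D.xP v χ).eval 1) <;> rw [hm] at h2 ⊢
      · have h3 : MemLocalIdeal M ((m * m : ℕ) : ℂ) := by convert h2 using 1; push_cast; rfl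
        exact_mod_cast (hM.1.dvd_mul.mp ((memI_natCast hM).mp h3)).elim id id
      · have h3 : MemLocalIdeal M ((m * m : ℕ) : ℂ) := by convert h2 using 1; push_cast; ring
        rw [dvd_neg]
        exact_mod_cast (hM.1.dvd_mul.mp ((memI_natCast hM).mp h3)).elim id id
    refine (two_le_avg_normSq (P := D.xP v χ) (n := n) (by rwa [D.aeval_xP]) hd).trans
      (avg_mono fun z hz => ?_)
    rw [D.aeval_xP]
    linarith [D.rest_nonneg hv z χ]
  · have hQ0 : aeval (root p n) Q ≠ 0 := fun h' =>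
      hrest (by rw [hQ _ root_mem, h', mul_zero])
    have hreal : ∀ z ∈ prim p n, (D.U z χ χ).re - Complex.normSq (D.xv v z χ)
        = (p : ℝ) * (aeval z Q).re ∧ (aeval z Q).im = 0 := fun z hz => by
      have h2 := hQ z hz
      rw [Complex.mul_conj] at h2
      refine ⟨by simpa using congrArg Complex.re h2, ?_⟩
      have h3 := congrArg Complex.im h2
      simpa [D.U_im z χ, hM.1.ne_zero] using h3.symm
    have hpR : (0 : ℝ) < p := by exact_mod_cast hM.1.pos
    have hpos : ∀ z ∈ prim p n, 0 < (aeval z Q).re ∧ (aeval z Q).im = 0 := fun z hz => by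
      refine ⟨lt_of_le_of_ne ?_ fun h' => aeval_ne_zero hQ0 hz ?_, (hreal z hz).2⟩
      · exact nonneg_of_mul_nonneg_right ((D.rest_nonneg hv z χ).trans_eq (hreal z hz).1) hpR
      · exact Complex.ext h'.symm (hreal z hz).2
    calc (2 : ℝ) ≤ (p : ℝ) * 1 := by rw [mul_one]; exact_mod_cast hM.1.two_le
      _ ≤ (p : ℝ) * avg p n fun z => (aeval z Q).re :=
          mul_le_mul_of_nonneg_left (one_le_avg_re hpos) hpR.le
      _ = avg p n fun z => (p : ℝ) * (aeval z Q).re := (avg_const_mul _ _).symm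
      _ ≤ _ := avg_mono fun z hz => by
          rw [← (hreal z hz).1]
          linarith [Complex.normSq_nonneg (D.xv v z χ)]

end Cfsg.Agent.CycloTrace.CData
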