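import Cfsg.Agent.Lib.SecondMain.Trace
import Cfsg.Agent.Lib.SecondMain.Ext
import Cfsg.Agent.Lib.Blocks.Brauer
import Cfsg.Agent.Lib.Transfer.Residual

/-!
# The vanishing at the heart of the second main theorem

`sum_blockCoeff_mul_eq_zero`: let `x` be a `p`-element, `H` a subgroup containing everything
commuting with `x`, `b` a block of `H` and `B` a block of `G` whose idempotent, restricted to `H`,
has central character in the local ideal at `b`.  Then `∑ k : H, blockCoeff b k * χ (k * (x * y))`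
vanishes for `χ ∈ B` and `y` a `p'`-element commuting with `x`.
-/

set_option autoImplicit false

namespace Cfsg.Agent.SecondMain

open Cfsg Blocks

variable {G : Type*} [Group G] [Finite G] {p : ℕ} {M : Ideal AlgInt}

omit [Finite G] in
theorem mem_centralizer_zpowers_iff {x g : G} :
    g ∈ Subgroup.centralizer (Subgroup.zpowers x : Set G) ↔ Commute x g := by
  rw [Subgroup.mem_centralizer_iff]
  constructor
  · exact fun h => h x (Subgroup.mem_zpowers x)
  · intro h u hu
    obtain ⟨i, rfl⟩ := Subgroup.mem_zpowers_iff.mp hu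
    exact (h.zpow_left i).eq

open scoped IsMulCommutative in
/-- An idempotent of the group algebra invariant under `C(x)`, `x` a `p`-element, and in the local
ideal on `C(x)` vanishes on average at `x⁻¹ * a * g * a⁻¹ * y⁻¹`. -/
theorem sum_idem_twist_eq_zero [Fintype G] [Fact p.Prime] (hM : IsPModular p M) {d : G → ℂ}
    (hdR : ∀ g, MemLocalRing M (d g)) (hdd : conv d d = d) {x y : G}
    (hd : ∀ n, Commute x n → ∀ g, d (n * g * n⁻¹) = d g)
    (hdI : ∀ g, Commute x g → MemLocalIdeal M (d g))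
    (hx : ∃ k, orderOf x = p ^ k) (hxy : Commute x y) (hy : ¬ p ∣ orderOf y) (g : G) :
    ∑ a, d (x⁻¹ * a * g * a⁻¹ * y⁻¹) = 0 := by
  classical
  obtain ⟨s, u, rfl, hs, hu, ⟨j, hj⟩, huo⟩ := Transfer.exists_pPart_mul (p := p) g
  have hup : ¬ p ∣ orderOf u := (hM.1.coprime_iff_not_dvd).mp huo.symm
  have hsu : Commute s u := by
    obtain ⟨i, hi⟩ := Subgroup.mem_zpowers_iff.mp hs
    obtain ⟨i', hi'⟩ := Subgroup.mem_zpowers_iff.mp hu
    have h := (Commute.refl (s * u)).zpow_zpow i i'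
    rwa [hi, hi'] at h
  let Λ : Subgroup (G × G) := Subgroup.zpowers ((y, u) : G × G)
  haveI : NeZero (Monoid.exponent Λ : ℂ) :=
    ⟨Nat.cast_ne_zero.mpr Monoid.exponent_ne_zero_of_finite⟩
  have hΛ : ¬ p ∣ Nat.card Λ := by
    rw [Nat.card_zpowers, Prod.orderOf_mk]
    exact fun hd' => ((hM.1.dvd_mul.mp (dvd_trans hd' (Nat.lcm_dvd_mul _ _))).elim hy hup)
  have hΛc : ∀ l : Λ, Commute x (l : G × G).1 ∧ Commute s (l : G × G).2 := by
    intro l
    obtain ⟨i, hi⟩ := Subgroup.mem_zpowers_iff.mp l.2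
    rw [← hi]
    exact ⟨hxy.zpow_right i, hsu.zpow_right i⟩
  let c : ℂ := (Nat.card Λ : ℂ)⁻¹
  have hval : ∀ (φ : Λ →* ℂˣ) (l : Λ), MemLocalRing M (φ l : ℂ) := by
    intro φ l
    have h1 : (φ l : ℂ) ^ Nat.card Λ = 1 := by
      rw [← Units.val_pow_eq_pow_val, ← map_pow, pow_card_eq_one', map_one, Units.val_one]
    exact memR_of_isIntegral hM (IsIntegral.of_pow Nat.card_pos (h1 ▸ isIntegral_one))
  let E : (Λ →* ℂˣ) → G → G → ℂ := fun φ a b =>
    c * ∑ l : Λ, (φ l : ℂ) * d (a * (l : G × G).2 * b⁻¹ * (l : G × G).1⁻¹)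
  have hidem : ∀ φ a b, ∑ m, E φ a m * E φ m b = E φ a b := by
    intro φ a b
    have hterm : ∀ l k : Λ, ∑ m, (d (a * (l : G × G).2 * m⁻¹ * (l : G × G).1⁻¹) *
          d (m * (k : G × G).2 * b⁻¹ * (k : G × G).1⁻¹))
        = d (a * ((l * k : Λ) : G × G).2 * b⁻¹ * ((l * k : Λ) : G × G).1⁻¹) := by
      intro l k
      conv_rhs => rw [← hdd, conv_eq_sum]
      refine Fintype.sum_bijective
        (fun m => a * (l : G × G).2 * m⁻¹ * (l : G × G).1⁻¹) ?_ _ _ fun m => ?_
      · exact (Group.mulRight_bijective _).comp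
          ((Group.mulLeft_bijective _).comp (inv_involutive.bijective))
      · congr 1
        rw [← hd _ (hΛc l).1 (m * (k : G × G).2 * b⁻¹ * (k : G × G).1⁻¹)]
        congr 1
        simp only [Subgroup.coe_mul, Prod.fst_mul, Prod.snd_mul]
        group
    calc ∑ m, E φ a m * E φ m b
        = c * (c * ∑ l : Λ, ∑ k : Λ, (φ (l * k) : ℂ) *
            d (a * ((l * k : Λ) : G × G).2 * b⁻¹ * ((l * k : Λ) : G × G).1⁻¹)) := by
          simp only [E, mul_mul_mul_comm c, ← Finset.mul_sum, ← mul_assoc c c]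
          congr 1
          simp only [Finset.sum_mul_sum]
          rw [Finset.sum_comm]
          refine Finset.sum_congr rfl fun l _ => ?_
          rw [Finset.sum_comm]
          refine Finset.sum_congr rfl fun k _ => ?_
          rw [← hterm l k, Finset.mul_sum, map_mul, Units.val_mul]
          exact Finset.sum_congr rfl fun m _ => by ring
      _ = E φ a b := by
          simp only [E]
          congr 1
          have h1 : ∀ l : Λ, ∑ k : Λ, (φ (l * k) : ℂ) *
              d (a * ((l * k : Λ) : G × G).2 * b⁻¹ * ((l * k : Λ) : G × G).1⁻¹)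
            = ∑ k : Λ, (φ k : ℂ) * d (a * (k : G × G).2 * b⁻¹ * (k : G × G).1⁻¹) :=
            fun l => Fintype.sum_equiv (Equiv.mulLeft l) _ _ fun k => rfl
          simp only [h1, Finset.sum_const, nsmul_eq_mul, Finset.card_univ]
          rw [← mul_assoc, ← Nat.card_eq_fintype_card, inv_mul_cancel₀
            (Nat.cast_ne_zero.mpr Nat.card_pos.ne'), one_mul]
  have hR : ∀ φ a b, MemLocalRing M (E φ a b) := fun φ a b =>
    memR_mul hM (memR_natCast_inv hM hΛ) (memR_sum hM _ fun l _ => memR_mul hM (hval φ l) (hdR _))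
  let σ : Equiv.Perm G := Equiv.mulLeft x⁻¹ * Equiv.mulRight s
  have hσ : ∀ a, σ a = x⁻¹ * a * s := fun a => (mul_assoc _ _ _).symm
  have harg : ∀ (a b : G) (l : Λ), σ a * (l : G × G).2 * (σ b)⁻¹ * (l : G × G).1⁻¹
      = x⁻¹ * (a * (l : G × G).2 * b⁻¹ * (l : G × G).1⁻¹) * x⁻¹⁻¹ := by
    intro a b l
    have h1 : s * (l : G × G).2 * s⁻¹ = (l : G × G).2 := by
      rw [(hΛc l).2.eq, mul_inv_cancel_right]
    have h2 : x * (l : G × G).1⁻¹ = (l : G × G).1⁻¹ * x := (hΛc l).1.inv_right.eq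
    calc σ a * (l : G × G).2 * (σ b)⁻¹ * (l : G × G).1⁻¹
        = x⁻¹ * (a * (s * (l : G × G).2 * s⁻¹) * b⁻¹) * (x * (l : G × G).1⁻¹) := by
          rw [hσ, hσ]; group
      _ = _ := by rw [h1, h2]; group
  have hinv : ∀ φ a b, E φ (σ a) (σ b) = E φ a b := by
    intro φ a b
    simp only [E]
    congr 1
    refine Finset.sum_congr rfl fun l _ => ?_
    rw [harg, hd _ (Commute.refl x).inv_right]
  have hfix : ∀ φ a b, σ a = a → σ b = b → MemLocalIdeal M (E φ a b) := by
    intro φ a b ha hb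
    refine memI_mul_left hM (memR_natCast_inv hM hΛ) (memI_sum hM _ fun l _ =>
      memI_mul_left hM (hval φ l) (hdI _ ?_))
    set z := a * (l : G × G).2 * b⁻¹ * (l : G × G).1⁻¹ with hz
    have h := harg a b l
    rw [ha, hb, ← hz, inv_inv] at h
    show x * z = z * x
    conv_lhs => rw [h]
    group
  obtain ⟨i, hi⟩ := hx
  have hσk : σ ^ p ^ (i + j) = 1 := by
    have hpow : ∀ (n : ℕ) (a : G), (σ ^ n) a = x⁻¹ ^ n * a * s ^ n := by
      intro n
      induction n with
      | zero => simp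
      | succ n ih =>
        intro a
        rw [pow_succ', Equiv.Perm.mul_apply, ih, hσ, pow_succ', pow_succ]
        simp only [mul_assoc]
    have hx1 : x⁻¹ ^ p ^ (i + j) = 1 := by
      rw [inv_pow, pow_add, pow_mul, ← hi, pow_orderOf_eq_one, one_pow, inv_one]
    have hs1 : s ^ p ^ (i + j) = 1 := by
      rw [pow_add, mul_comm, pow_mul, ← hj, pow_orderOf_eq_one, one_pow]
    exact Equiv.ext fun a => by rw [hpow, hx1, hs1, one_mul, mul_one, Equiv.Perm.one_apply]
  have hzero : ∀ φ, ∑ a, E φ (σ a) a = 0 := fun φ =>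
    sum_perm_eq_zero_of_fixed hM σ hσk (E φ) (hR φ) (hinv φ) (hidem φ) (hfix φ)
  letI : Fintype (Λ →* ℂˣ) := by
    haveI : Finite (Λ →* ℂˣ) := Finite.of_equiv Λ
      (CommGroup.monoidHom_mulEquiv_of_hasEnoughRootsOfUnity Λ ℂ).some.symm.toEquiv
    exact Fintype.ofFinite _
  have horth : ∀ l : Λ, l ≠ 1 → ∑ φ : Λ →* ℂˣ, (φ l : ℂ) = 0 := by
    intro l hne
    obtain ⟨ψ, hψ⟩ := CommGroup.exists_apply_ne_one_of_hasEnoughRootsOfUnity Λ ℂ hne
    have h1 : ∑ φ : Λ →* ℂˣ, (φ l : ℂ) = (ψ l : ℂ) * ∑ φ : Λ →* ℂˣ, (φ l : ℂ) := by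
      rw [Finset.mul_sum]
      exact (Fintype.sum_equiv (Equiv.mulLeft ψ) _ _ fun φ => by simp).symm
    by_contra h0
    exact hψ (Units.val_eq_one.mp (mul_eq_right₀ h0 |>.mp h1.symm))
  let l₀ : Λ := ⟨(y, u), Subgroup.mem_zpowers _⟩
  have h1 : ∑ φ : Λ →* ℂˣ, (φ l₀⁻¹ : ℂ) * ∑ a, E φ (σ a) a = 0 := by simp [hzero]
  simp only [E, ← Finset.mul_sum, mul_left_comm _ c] at h1
  have h2 := (mul_eq_zero.mp h1).resolve_left (inv_ne_zero (Nat.cast_ne_zero.mpr Nat.card_pos.ne'))
  simp only [Finset.mul_sum] at h2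
  rw [Finset.sum_comm] at h2
  simp only [Finset.sum_comm (γ := Λ →* ℂˣ) (α := Λ)] at h2
  have h3 : ∀ a, ∑ l : Λ, ∑ φ : Λ →* ℂˣ, (φ l₀⁻¹ : ℂ) * ((φ l : ℂ) *
      d (σ a * (l : G × G).2 * a⁻¹ * (l : G × G).1⁻¹))
      = (Fintype.card (Λ →* ℂˣ) : ℂ) * d (x⁻¹ * a * (s * u) * a⁻¹ * y⁻¹) := by
    intro a
    rw [Finset.sum_eq_single l₀]
    · simp only [← mul_assoc ((_ : ℂˣ) : ℂ), ← Units.val_mul, ← map_mul, inv_mul_cancel, map_one,
        Units.val_one, one_mul, Finset.sum_const, nsmul_eq_mul, Finset.card_univ, l₀, hσ, mul_assoc]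
    · intro l _ hne
      simp only [← mul_assoc ((_ : ℂˣ) : ℂ), ← Units.val_mul, ← map_mul, ← Finset.sum_mul]
      rw [horth _ (by rwa [ne_eq, inv_mul_eq_one, eq_comm]), zero_mul]
    · simp
  simp only [h3, ← Finset.mul_sum] at h2
  exact (mul_eq_zero.mp h2).resolve_left (Nat.cast_ne_zero.mpr Fintype.card_ne_zero)

/-- The vanishing behind Brauer's second main theorem. -/
theorem sum_blockCoeff_mul_eq_zero (hM : IsPModular p M) {H : Subgroup G} [Fintype H]
    {b : Set (IrrCharacter H)} (hb : IsPBlock M b) {B : Set (IrrCharacter G)} (hB : IsPBlock M B)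
    (hbB : ∀ ξ ∈ b, MemLocalIdeal M (omega (ξ : H → ℂ) fun k : H => blockCoeff B (k : G)))
    {x y : G} (hx : ∃ k, orderOf x = p ^ k) (hxy : Commute x y) (hy : ¬ p ∣ orderOf y)
    (hC : ∀ g, Commute x g → g ∈ H) {χ : IrrCharacter G} (hχ : χ ∈ B) :
    ∑ k : H, blockCoeff b k * (χ : G → ℂ) ((k : G) * (x * y)) = 0 := by
  classical
  haveI : Fact p.Prime := ⟨hM.1⟩
  have := Fintype.ofFinite G
  let f : H → ℂ := blockCoeff b
  let e : G → ℂ := blockCoeff B
  have hf : IsClassFunction H f := isClassFunction_blockCoeff b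
  have he : IsClassFunction G e := isClassFunction_blockCoeff B
  have hfR : ∀ k, MemLocalRing M (f k) := memR_blockCoeff hM hb
  have heR : ∀ g, MemLocalRing M (e g) := memR_blockCoeff hM hB
  have hee : conv e e = e := by
    simp only [e, blockCoeff_eq_ofOmega, ← ofOmega_mul, blockInd_mul_self]
  have hff : conv f f = f := by
    simp only [f, blockCoeff_eq_ofOmega, ← ofOmega_mul, blockInd_mul_self]
  let d : G → ℂ := conv (ext H f) e
  have hdd : conv d d = d := by
    simp only [d]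
    rw [conv_assoc, ← conv_assoc e (ext H f) e, ← conv_comm (z := ext H f) he, conv_assoc (ext H f) e,
      hee, ← conv_assoc, conv_ext_ext, hff]
  have hdR : ∀ g, MemLocalRing M (d g) := fun g => by
    simp only [d, conv_ext_eq_sum]
    exact memR_sum hM _ fun k _ => memR_mul hM (hfR k) (heR _)
  have hd : ∀ n ∈ H, ∀ g, d (n * g * n⁻¹) = d g := fun n hn g =>
    conv_conj (fun g => ext_conj hf hn g) (fun g => he g n) g
  let e' : H → ℂ := fun k => e k
  have he' : IsClassFunction H e' := fun g n => by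
    simp only [e', Subgroup.coe_mul, Subgroup.coe_inv]
    exact he _ _
  let c : IrrCharacter H → ℂ := blockInd b * omegaFun e'
  have hc : c ∈ intRing hM := (intRing hM).mul_mem (blockInd_mem_intRing hM hb)
    (omega_mem_intRing hM he' fun k => heR k)
  have hcI : ∀ ξ, MemLocalIdeal M (c ξ) := by
    intro ξ
    by_cases h : ξ ∈ b
    · simpa [c, omegaFun, blockInd_of_mem h, e', e] using hbB ξ h
    · simpa [c, blockInd_of_notMem h] using memI_zero hM
  have hdc : ∀ k : H, d (k : G) = ofOmega c k := fun k => by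
    simp only [d, conv_ext_coe, c, ofOmega_mul, ofOmega_omega he', f, ← blockCoeff_eq_ofOmega]
    rfl
  have hxH : x ∈ H := hC x (Commute.refl x)
  have hyH : y ∈ H := hC y hxy
  let P : Subgroup G := Subgroup.zpowers x
  have hP : IsPGroup p P := by
    obtain ⟨k, hk⟩ := hx
    exact IsPGroup.of_card (n := k) (by rw [Nat.card_zpowers, hk])
  have hPH : P ≤ H := Subgroup.zpowers_le.mpr hxH
  have hCP : ∀ {g}, g ∈ Subgroup.centralizer (P : Set G) → g ∈ H := fun h =>
    hC _ (mem_centralizer_zpowers_iff.mp h)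
  have hstep : ∀ n, ∀ g ∈ Subgroup.centralizer (P : Set G),
      MemLocalIdeal M (d g - ext H (ofOmega (c ^ (n + 1))) g) := by
    intro n
    induction n with
    | zero =>
      intro g hg
      have h : ext H (ofOmega (c ^ (0 + 1))) g = d g := by
        rw [pow_one, ← Subtype.coe_mk g (hCP hg), ext_coe, hdc]
      rw [h, sub_self]
      exact memI_zero hM
    | succ n ih =>
      intro g hg
      have hu : ∀ m, ∀ g, MemLocalRing M (ext H (ofOmega (c ^ m)) g) := fun m g => by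
        by_cases h : g ∈ H
        · rw [← Subtype.coe_mk g h, ext_coe]
          exact (intRing hM).pow_mem hc m _
        · rw [ext_of_notMem _ h]
          exact memR_zero hM
      have hui : ∀ m, ∀ v ∈ P, ∀ g, ext H (ofOmega (c ^ m)) (v * g * v⁻¹) = ext H (ofOmega (c ^ m)) g :=
        fun m v hv g => ext_conj (isClassFunction_ofOmega _) (hPH hv) g
      have hdP : ∀ v ∈ P, ∀ g, d (v * g * v⁻¹) = d g := fun v hv g => hd v (hPH hv) g
      have h1 := memI_conv_sub_centralizer hM hP hdP hdP hdR hdR hg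
      have h2 := memI_conv_sub_centralizer hM hP (hui (n + 1)) (hui 1) (hu _) (hu _) hg
      rw [hdd] at h1
      rw [conv_ext_ext, ← ofOmega_mul, ← pow_add] at h2
      refine memI_sub_trans hM h1 (memI_sub_trans hM ?_ (memI_sub_comm h2))
      rw [← Finset.sum_sub_distrib]
      refine memI_sum hM _ fun a ha => ?_
      have hac := (Finset.mem_filter.mp ha).2
      have hag := Subgroup.mul_mem _ (Subgroup.inv_mem _ hac) hg
      have h3 : ext H (ofOmega (c ^ 1)) (a⁻¹ * g) = d (a⁻¹ * g) := by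
        rw [pow_one, ← Subtype.coe_mk (a⁻¹ * g) (hCP hag), ext_coe, hdc]
      rw [h3, ← sub_mul]
      exact memI_mul_right hM (ih a hac) (hdR _)
  obtain ⟨N, hN⟩ := exists_small_pow hM hcI
  have hdI : ∀ g, Commute x g → MemLocalIdeal M (d g) := by
    intro g hg
    refine (memI_iff_of_sub hM (hstep N g (mem_centralizer_zpowers_iff.mpr hg))).mpr ?_
    by_cases h : g ∈ H
    · rw [← Subtype.coe_mk g h, ext_coe]
      exact hN _ (Nat.le_succ N) _
    · exact absurd (hC g hg) h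
  have key := sum_idem_twist_eq_zero hM hdR hdd (fun n hn => hd n (hC n hn)) hdI hx hxy hy
  have h4 : ∑ a : G, ∑ g, (χ : G → ℂ) g * d (x⁻¹ * a * g * a⁻¹ * y⁻¹) = 0 := by
    rw [Finset.sum_comm]
    simp only [← Finset.mul_sum, key, mul_zero, Finset.sum_const_zero]
  have h5 : ∀ a : G, ∑ g, (χ : G → ℂ) g * d (x⁻¹ * a * g * a⁻¹ * y⁻¹)
      = ∑ n, d n * (χ : G → ℂ) (n * (x * y)) := by
    intro a
    refine Fintype.sum_equiv (((MulAut.conj a).toEquiv.trans (Equiv.mulLeft x⁻¹)).trans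
      (Equiv.mulRight y⁻¹)) _ _ fun g => ?_
    have e1 : (((MulAut.conj a).toEquiv.trans (Equiv.mulLeft x⁻¹)).trans (Equiv.mulRight y⁻¹)) g
        = x⁻¹ * a * g * a⁻¹ * y⁻¹ := by
      show x⁻¹ * (a * g * a⁻¹) * y⁻¹ = _
      group
    rw [e1, mul_comm]
    congr 1
    refine classFunction_eq_of_isConj (irr_class χ) (isConj_iff.mpr ⟨x⁻¹ * a, ?_⟩)
    rw [hxy.eq]
    group
  simp only [h5, Finset.sum_const, nsmul_eq_mul] at h4
  have h6 := (mul_eq_zero.mp h4).resolve_left (by simp)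
  rw [← h6]
  simp only [d, conv_eq_sum, Finset.sum_mul]
  rw [Finset.sum_comm, ← sum_ext_mul H f fun g => (χ : G → ℂ) (g * (x * y))]
  refine Finset.sum_congr rfl fun a _ => ?_
  simp only [mul_assoc (ext H f a), ← Finset.mul_sum]
  congr 1
  rw [← Fintype.sum_equiv (Equiv.mulLeft a) (fun m => e m * (χ : G → ℂ) (a * m * (x * y)))
    (fun n => e (a⁻¹ * n) * (χ : G → ℂ) (n * (x * y))) fun m => by simp]
  have h7 : ∀ m, (χ : G → ℂ) (a * m * (x * y)) = (χ : G → ℂ) (m * ((x * y) * a)) := fun m => by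
    rw [mul_assoc a, isClassFunction_comm (irr_class χ) a, mul_assoc]
  simp only [h7, e, blockCoeff_eq_ofOmega]
  rw [sum_mul_apply_mul (isClassFunction_ofOmega (blockInd B)), omega_ofOmega, blockInd_of_mem hχ,
    one_mul, isClassFunction_comm (irr_class χ)]

end Cfsg.Agent.SecondMain
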